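import Cfsg.Agent.Lib.U6Large.Pair

/-! An involution whose centraliser extends an extraspecial group of order `2^9` by the automorphism group
of `PSp₄(3)`: the subgroup of index two and the pair lemma. -/

set_option autoImplicit false
set_option linter.unusedSectionVars false
set_option linter.style.longLine false

namespace CfsgLib.U6Large

open Subgroup CfsgLib.SpFourThree

universe u

variable {G : Type u} [Group G]

/-- The data: a subgroup of index two of the centraliser maps onto the simple group. -/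
structure Aug (z : G) (Q : Subgroup G) where
  extra : CfsgLib.LargeExtra.ExtraAt Q z
  le : Q ≤ centralizer ({z} : Set G)
  norm : ∀ c : G, c * z = z * c → ∀ q ∈ Q, c * q * c⁻¹ ∈ Q
  card : Nat.card Q = 512
  self : ∀ c : G, c * z = z * c → (∀ q ∈ Q, q * c = c * q) → c ∈ Q
  /-- The subgroup of index two. -/
  H0 : Subgroup G
  H0_le : H0 ≤ centralizer ({z} : Set G)
  Q_le0 : Q ≤ H0
  H0_mul : ∀ a b : G, a * z = z * a → b * z = z * b → a ∉ H0 → b ∉ H0 → a * b ∈ H0
  H0_norm : ∀ c : G, c * z = z * c → ∀ a ∈ H0, c * a * c⁻¹ ∈ H0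
  H0_ne : ∃ h : G, h * z = z * h ∧ h ∉ H0
  /-- The map onto the simple group. -/
  π : H0 →* Cfsg.PSp 2 (ZMod 3)
  π_surj : Function.Surjective π
  π_ker : ∀ c, π c = 1 ↔ (c : G) ∈ Q

namespace Aug

variable [Finite G] {z : G} {Q : Subgroup G} (U : Aug z Q)
include U

theorem zz : z * z = 1 := U.extra.sq_one

theorem zQ : z ∈ Q := U.extra.z_mem

theorem ne : z ≠ 1 := U.extra.ne_one

theorem mem_H {c : G} : c ∈ centralizer ({z} : Set G) ↔ c * z = z * c := Subgroup.mem_centralizer_singleton_iff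

theorem comm0 {c : G} (hc : c ∈ U.H0) : c * z = z * c := U.mem_H.1 (U.H0_le hc)

/-- The involution in the subgroup. -/
def z0 : U.H0 := ⟨z, U.Q_le0 U.zQ⟩

theorem cent_z0 : centralizer ({U.z0} : Set U.H0) = ⊤ :=
  eq_top_iff.2 fun c _ => Subgroup.mem_centralizer_singleton_iff.2 (Subtype.ext (U.comm0 c.2))

/-- The data inside the subgroup of index two. -/
noncomputable def S0 : Ctx U.z0 (Q.subgroupOf U.H0) where
  extra := by
    have : Fact (Nat.Prime 2) := ⟨Nat.prime_two⟩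
    refine ⟨CfsgLib.LargeExtra.isExtraspecial_of_equiv (Subgroup.subgroupOfEquivOfLe U.Q_le0).symm U.extra.extra,
      by rw [z0, Subgroup.orderOf_mk]; exact U.extra.order_z, le_antisymm ?_ ?_⟩
    · rintro _ ⟨⟨⟨q, hq0⟩, hq⟩, hc, rfl⟩
      rcases U.extra.central_cases (show q ∈ Q from hq) (fun p hp =>
        congrArg (fun w : (Q.subgroupOf U.H0) => (w.1 : G))
          (Subgroup.mem_center_iff.1 hc ⟨⟨p, U.Q_le0 hp⟩, hp⟩)) with rfl | rfl
      · exact one_mem _
      · exact Subgroup.mem_zpowers _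
    · rw [Subgroup.zpowers_le]
      exact ⟨⟨U.z0, U.zQ⟩, Subgroup.mem_center_iff.2 fun q => Subtype.ext (Subtype.ext (U.comm0 q.1.2)), rfl⟩
  le := by rw [U.cent_z0]; exact le_top
  norm c _ q hq := U.norm c (U.comm0 c.2) q hq
  card := by rw [Nat.card_congr (Subgroup.subgroupOfEquivOfLe U.Q_le0).toEquiv, U.card]
  self c _ h := U.self c (U.comm0 c.2) fun q hq => congrArg Subtype.val (h ⟨q, U.Q_le0 hq⟩ hq)
  π := U.π.comp (centralizer ({U.z0} : Set U.H0)).subtype
  π_surj y := by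
    obtain ⟨c, hc⟩ := U.π_surj y
    exact ⟨⟨c, by rw [U.cent_z0]; trivial⟩, hc⟩
  π_ker c := U.π_ker c.1

/-- The class of an element of `Q`. -/
noncomputable def vec {q : G} (hq : q ∈ Q) : Vq (Q.subgroupOf U.H0) := U.S0.vec ⟨q, U.Q_le0 hq⟩

theorem act_vec (c : U.H0) {q : G} (hq : q ∈ Q) :
    U.S0.act (U.π c) (U.vec hq) = U.vec (U.norm c (U.comm0 c.2) q hq) :=
  U.S0.act_vec ⟨c, by rw [U.cent_z0]; trivial⟩ (q := ⟨q, U.Q_le0 hq⟩) hq

theorem lift_mul (c : U.H0) {r : G} (hr : r ∈ Q) :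
    ∃ d : U.H0, U.π d = U.π c ∧ (d : G) = r * (c : G) := by
  refine ⟨⟨r, U.Q_le0 hr⟩ * c, ?_, rfl⟩
  rw [map_mul, (U.π_ker ⟨r, U.Q_le0 hr⟩).2 hr, one_mul]

/-- A lift of a stabiliser of the vector of an element commuting with it. -/
theorem lift_fix {x : G} (hx : x ∈ Q) (h1 : x ≠ 1) (h2 : x ≠ z) {a : Cfsg.PSp 2 (ZMod 3)}
    (ha : U.S0.act a (U.vec hx) = U.vec hx) : ∃ d : U.H0, U.π d = a ∧ (d : G) * x = x * (d : G) := by
  obtain ⟨c, rfl⟩ := U.π_surj a
  rw [U.act_vec c hx] at ha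
  have hcx := U.norm c (U.comm0 c.2) x hx
  rcases (U.S0.vec_eq (x := ⟨_, U.Q_le0 hcx⟩) (y := ⟨x, U.Q_le0 hx⟩) hcx hx).1 ha with k | k
  · exact ⟨c, rfl, mul_inv_eq_iff_eq_mul.1 (congrArg Subtype.val k)⟩
  · have k : (c : G) * x * (c : G)⁻¹ = z * x := congrArg Subtype.val k
    obtain ⟨q, hq, hqx⟩ := U.extra.exists_conj_eq hx h1 h2
    obtain ⟨d, hd, hd'⟩ := U.lift_mul c hq
    refine ⟨d, hd, ?_⟩
    rw [← mul_inv_eq_iff_eq_mul, hd']
    calc q * (c : G) * x * (q * (c : G))⁻¹ = q * ((c : G) * x * (c : G)⁻¹) * q⁻¹ := by group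
      _ = (q * z) * x * q⁻¹ := by rw [k]; group
      _ = (z * q) * x * q⁻¹ := by rw [U.extra.comm_z hq]
      _ = z * (q * x * q⁻¹) := by group
      _ = x := by rw [hqx, ← mul_assoc, U.zz, one_mul]

theorem pgroup : IsPGroup 2 Q := IsPGroup.of_card (n := 9) (by rw [U.card]; norm_num)

/-- The conjugated extraspecial group. -/
theorem extra_conj (g : G) : CfsgLib.LargeExtra.ExtraAt (Qc Q g) (g * z * g⁻¹) where
  extra := by
    have : Fact (Nat.Prime 2) := ⟨Nat.prime_two⟩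
    exact CfsgLib.LargeExtra.isExtraspecial_of_equiv ((MulAut.conj g).subgroupMap Q) U.extra.extra
  order_z := by
    have := orderOf_injective (MulAut.conj g).toMonoidHom (MulEquiv.injective _) z
    simpa [MulAut.conj_apply, U.extra.order_z] using this
  centre := by
    refine le_antisymm ?_ ?_
    · rintro _ ⟨⟨y, q, hq, rfl⟩, hy, rfl⟩
      rcases U.extra.central_cases hq (fun p hp => by
        have h := congrArg Subtype.val (Subgroup.mem_center_iff.1 hy ⟨_, conj_mem_Qc (g := g) hp⟩)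
        simp only [Subgroup.coe_mul, MulEquiv.toMonoidHom_eq_coe, MonoidHom.coe_coe, MulAut.conj_apply] at h
        apply mul_left_cancel (a := g)
        apply mul_right_cancel (b := g⁻¹)
        calc g * (p * q) * g⁻¹ = g * p * g⁻¹ * (g * q * g⁻¹) := by group
          _ = g * q * g⁻¹ * (g * p * g⁻¹) := h
          _ = g * (q * p) * g⁻¹ := by group) with rfl | rfl
      · simp
      · simp [MulAut.conj_apply]
    · rw [Subgroup.zpowers_le]
      refine ⟨⟨g * z * g⁻¹, conj_mem_Qc U.zQ⟩, Subgroup.mem_center_iff.2 fun q => Subtype.ext ?_, rfl⟩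
      obtain ⟨q, hq⟩ := q
      obtain ⟨p, hp, rfl⟩ := hq
      simp only [Subgroup.coe_mul, MulEquiv.toMonoidHom_eq_coe, MonoidHom.coe_coe, MulAut.conj_apply]
      calc g * p * g⁻¹ * (g * z * g⁻¹) = g * (p * z) * g⁻¹ := by group
        _ = g * (z * p) * g⁻¹ := by rw [U.extra.comm_z hp]
        _ = g * z * g⁻¹ * (g * p * g⁻¹) := by group

/-- Half of an extraspecial group of order `2^9` centralises a non-central element. -/
theorem half_of {P : Subgroup G} {x s : G} (E : CfsgLib.LargeExtra.ExtraAt P x) (hP : Nat.card P = 512)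
    (hs : s ∈ P) (h1 : s ≠ 1) (h2 : s ≠ x) : 256 ≤ Nat.card ↥(P ⊓ centralizer ({s} : Set G)) := by
  obtain ⟨y, hy, hys⟩ := E.exists_conj_eq hs h1 h2
  have hsub : (P : Set G) ⊆ ↑(P ⊓ centralizer ({s} : Set G)) ∪ (fun q => y * q) '' ↑(P ⊓ centralizer ({s} : Set G)) := by
    intro q hq
    rcases E.split_conj hs hy hys hq with e | e
    · exact Or.inl ⟨hq, Subgroup.mem_centralizer_singleton_iff.2 e⟩
    · exact Or.inr ⟨y⁻¹ * q, ⟨(mul_mem (inv_mem hy) hq : y⁻¹ * q ∈ P), Subgroup.mem_centralizer_singleton_iff.2 e⟩,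
        mul_inv_cancel_left y q⟩
  have hA : Nat.card ↥(P ⊓ centralizer ({s} : Set G)) = (↑(P ⊓ centralizer ({s} : Set G)) : Set G).ncard := rfl
  have h := (Set.ncard_le_ncard hsub (Set.toFinite _)).trans
    ((Set.ncard_union_le _ _).trans (Nat.add_le_add_left (Set.ncard_image_le (Set.toFinite _)) _))
  have hQ : (P : Set G).ncard = 512 := hP
  omega

theorem card_Qc (g : G) : Nat.card (Qc Q g) = 512 := by
  rw [Qc, Subgroup.card_map_of_injective (MulEquiv.injective _), U.card]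

theorem norm_Qc {g c : G} (hc : c * (g * z * g⁻¹) = g * z * g⁻¹ * c) {q : G} (hq : q ∈ Qc Q g) :
    c * q * c⁻¹ ∈ Qc Q g := by
  rw [mem_Qc] at hq ⊢
  have hz : g⁻¹ * c * g * z = z * (g⁻¹ * c * g) := by
    calc g⁻¹ * c * g * z = g⁻¹ * (c * (g * z * g⁻¹)) * g := by group
      _ = g⁻¹ * ((g * z * g⁻¹) * c) * g := by rw [hc]
      _ = z * (g⁻¹ * c * g) := by group
  have := U.norm _ hz _ hq
  simpa [mul_assoc] using this

/-- Inside the centraliser of a conjugate the conjugated subgroup has index two. -/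
theorem half0 {g : G} {D : Subgroup G} (hD : ∀ d ∈ D, d * (g * z * g⁻¹) = g * z * g⁻¹ * d) :
    Nat.card D ≤ 2 * Nat.card ↥(D ⊓ Qc U.H0 g) := by
  by_cases h : D ≤ Qc U.H0 g
  · rw [inf_eq_left.2 h]; omega
  obtain ⟨a, ha, ha'⟩ := SetLike.not_le_iff_exists.1 h
  have key : ∀ d ∈ D, g⁻¹ * d * g * z = z * (g⁻¹ * d * g) := fun d hd => by
    calc g⁻¹ * d * g * z = g⁻¹ * (d * (g * z * g⁻¹)) * g := by group
      _ = g⁻¹ * ((g * z * g⁻¹) * d) * g := by rw [hD d hd]
      _ = z * (g⁻¹ * d * g) := by group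
  have hsub : (D : Set G) ⊆ ↑(D ⊓ Qc U.H0 g) ∪ (fun q => a * q) '' ↑(D ⊓ Qc U.H0 g) := by
    intro d hd
    by_cases hd' : d ∈ Qc U.H0 g
    · exact Or.inl ⟨hd, hd'⟩
    · refine Or.inr ⟨a⁻¹ * d, ⟨(mul_mem (inv_mem ha) hd : a⁻¹ * d ∈ D), ?_⟩, mul_inv_cancel_left a d⟩
      refine mem_Qc.2 ?_
      rw [show g⁻¹ * (a⁻¹ * d) * g = g⁻¹ * a⁻¹ * g * (g⁻¹ * d * g) by group]
      refine U.H0_mul _ _ (key _ (inv_mem ha)) (key _ hd) (fun k => ha' ?_) fun k => hd' (mem_Qc.2 k)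
      rw [show a = a⁻¹⁻¹ by group]
      exact inv_mem (mem_Qc.2 k)
  have hA : Nat.card ↥(D ⊓ Qc U.H0 g) = (↑(D ⊓ Qc U.H0 g) : Set G).ncard := rfl
  have hD' : Nat.card D = (D : Set G).ncard := rfl
  have h := (Set.ncard_le_ncard hsub (Set.toFinite _)).trans
    ((Set.ncard_union_le _ _).trans (Nat.add_le_add_left (Set.ncard_image_le (Set.toFinite _)) _))
  omega

/-- Back into the subgroup of index two. -/
def back (g : G) : ↥(Qc U.H0 g) →* U.H0 where
  toFun c := ⟨g⁻¹ * (c : G) * g, mem_Qc.1 c.2⟩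
  map_one' := Subtype.ext (by simp)
  map_mul' a b := Subtype.ext (by simp [mul_assoc])

/-- The projection of a subgroup of a conjugate of the subgroup of index two. -/
noncomputable def proj {g : G} {D : Subgroup G} (hD : D ≤ Qc U.H0 g) : D →* Cfsg.PSp 2 (ZMod 3) :=
  U.π.comp ((U.back g).comp (Subgroup.inclusion hD))

theorem proj_eq_one {g : G} {D : Subgroup G} (hD : D ≤ Qc U.H0 g) (d : D) :
    U.proj hD d = 1 ↔ (d : G) ∈ Qc Q g := by
  show U.π (U.back g (Subgroup.inclusion hD d)) = 1 ↔ _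
  rw [U.π_ker, mem_Qc]
  rfl

theorem card_split {g : G} {D : Subgroup G} (hD : D ≤ Qc U.H0 g) :
    Nat.card D = Nat.card ↥(D ⊓ Qc Q g) * Nat.card (U.proj hD).range := by
  rw [(U.proj hD).ker.card_eq_card_quotient_mul_card_subgroup,
    Nat.card_congr (QuotientGroup.quotientKerEquivRange (U.proj hD)).toEquiv, mul_comm]
  congr 1
  exact Nat.card_congr ⟨fun d => ⟨d.1.1, d.1.2, (U.proj_eq_one hD _).1 (MonoidHom.mem_ker.1 d.2)⟩,
    fun d => ⟨⟨d.1, d.2.1⟩, MonoidHom.mem_ker.2 ((U.proj_eq_one hD _).2 d.2.2)⟩, fun _ => rfl, fun _ => rfl⟩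

theorem proj_range_pgroup {g : G} {D : Subgroup G} (hD : D ≤ Qc U.H0 g) (h2 : IsPGroup 2 D) :
    IsPGroup 2 (U.proj hD).range := by
  rw [MonoidHom.range_eq_map]
  exact (h2.to_subgroup ⊤).map _

theorem card_proj_le {g : G} {D : Subgroup G} (hD : D ≤ Qc U.H0 g) (h2 : IsPGroup 2 D) :
    Nat.card (U.proj hD).range ≤ 64 := by
  have : Finite (Cfsg.PSp 2 (ZMod 3)) := Nat.finite_of_card_ne_zero (by rw [target_card]; norm_num)
  obtain ⟨a, ha⟩ := exists_into_syl (U.proj_range_pgroup hD h2)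
  rw [← card_syl, ← Subgroup.card_map_of_injective (K := (U.proj hD).range)
    (f := (MulAut.conj a).toMonoidHom) (MulAut.conj a).injective]
  exact Subgroup.card_le_of_le (by rintro _ ⟨y, hy, rfl⟩; exact ha y hy)

/-- A conjugate of `z` in `Q` has `z` in its own subgroup. -/
theorem z_mem_of_mem {g : G} (hx : g * z * g⁻¹ ∈ Q) (hne : g * z * g⁻¹ ≠ z) : z ∈ Qc Q g := by
  set x := g * z * g⁻¹ with hxd
  have E := U.extra_conj g
  by_contra hz
  have hx1 : x ≠ 1 := by simp [hxd, U.ne]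
  obtain ⟨y, hy, hys⟩ := U.extra.exists_conj_eq hx hx1 hne
  set C := Q ⊓ centralizer ({x} : Set G)
  have hC : 256 ≤ Nat.card C := U.half_of U.extra U.card hx hx1 hne
  set C0 := C ⊓ Qc U.H0 g
  have hC0 : Nat.card C ≤ 2 * Nat.card C0 :=
    U.half0 (g := g) fun d hd => Subgroup.mem_centralizer_singleton_iff.1 hd.2
  have hle : C0 ≤ Qc U.H0 g := inf_le_right
  have h2 : IsPGroup 2 C0 := U.pgroup.to_le (inf_le_left.trans inf_le_left)
  have hsplit := U.card_split hle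
  have hxx : x * x = 1 := E.sq_one
  have hK : Nat.card ↥(C0 ⊓ Qc Q g) ≤ 2 := by
    have hsub : (↑(C0 ⊓ Qc Q g) : Set G) ⊆ {1, x} := by
      intro k hk
      obtain ⟨⟨⟨hkQ, hkc⟩, -⟩, hkQx⟩ := hk
      have hcomm : ∀ a ∈ Q, a * x = x * a → a * k = k * a := by
        intro a ha hax
        rcases U.extra.conj_cases ha hkQ with e | e
        · exact mul_inv_eq_iff_eq_mul.1 e
        · refine absurd ?_ hz
          have := mul_mem (U.norm_Qc (g := g) hax hkQx) (inv_mem hkQx)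
          rwa [e, mul_inv_cancel_right] at this
      rcases U.extra.double_centralizer hx hy hys hkQ hcomm with e | e | e | e
      · exact Or.inl e
      · exact absurd (e ▸ hkQx) hz
      · exact Or.inr (by rw [e, inv_eq_of_mul_eq_one_right hxx]; rfl)
      · refine absurd ?_ hz
        rw [inv_eq_of_mul_eq_one_right hxx] at e
        have := mul_mem (e ▸ hkQx) E.z_mem
        rwa [mul_assoc, hxx, mul_one] at this
    calc Nat.card ↥(C0 ⊓ Qc Q g) = (↑(C0 ⊓ Qc Q g) : Set G).ncard := rfl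
      _ ≤ ({1, x} : Set G).ncard := Set.ncard_le_ncard hsub (Set.toFinite _)
      _ ≤ 2 := (Set.ncard_insert_le _ _).trans (by simp)
  have himg := U.card_proj_le hle h2
  have hprod := Nat.mul_le_mul hK himg
  have h64 : 64 ≤ Nat.card (U.proj hle).range := by
    by_contra hlt
    have := Nat.mul_le_mul hK (show Nat.card (U.proj hle).range ≤ 63 by omega)
    omega
  have hzC : z ∈ C := ⟨U.zQ, Subgroup.mem_centralizer_singleton_iff.2 (U.extra.comm_z hx).symm⟩
  by_cases hz0 : z ∈ C0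
  · obtain ⟨a, ⟨a', ha⟩, b, ⟨b', hb⟩, hne1, hnew⟩ := two_commutators (U.proj_range_pgroup hle h2) h64
      (w := U.proj hle ⟨z, hz0⟩)
    rw [← ha, ← hb, ← map_inv, ← map_inv, ← map_mul, ← map_mul, ← map_mul] at hne1 hnew
    rcases U.extra.conj_cases a'.2.1.1 b'.2.1.1 with h | h
    · exact hne1 (by rw [show a' * b' * a'⁻¹ * b'⁻¹ = 1 from Subtype.ext (by simp [h]), map_one])
    · exact hnew (congrArg _ (Subtype.ext (by simp [h])))
  · obtain ⟨a, ⟨a', ha⟩, b, ⟨b', hb⟩, hne1, -⟩ := two_commutators (U.proj_range_pgroup hle h2) h64 (w := 1)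
    rw [← ha, ← hb, ← map_inv, ← map_inv, ← map_mul, ← map_mul, ← map_mul] at hne1
    rcases U.extra.conj_cases a'.2.1.1 b'.2.1.1 with h | h
    · exact hne1 (by rw [show a' * b' * a'⁻¹ * b'⁻¹ = 1 from Subtype.ext (by simp [h]), map_one])
    · refine hz0 ?_
      have := (a' * b' * a'⁻¹ * b'⁻¹).2
      simpa [h] using this

end Aug

end CfsgLib.U6Large
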