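import Cfsg.Agent.Lib.U6Large.Pair
import Cfsg.Agent.Lib.PCore.Basic
import Cfsg.Agent.Lib.DimThreeSub.Models

/-! The data from the hypotheses on the 2-core of the centraliser. -/

set_option autoImplicit false
set_option linter.style.longLine false

namespace CfsgLib.U6Large

open Subgroup Matrix

universe u v

theorem sp_map (m : ℕ) {F K : Type*} [Field F] [Field K] (e : F ≃+* K) {A : Matrix (Fin m ⊕ Fin m) (Fin m ⊕ Fin m) F}
    (hA : A ∈ Matrix.symplecticGroup (Fin m) F) : A.map e ∈ Matrix.symplecticGroup (Fin m) K := by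
  rw [SymplecticGroup.mem_iff] at hA ⊢
  have hJ : (Matrix.J (Fin m) F).map e = Matrix.J (Fin m) K := by
    ext i j
    rcases i with i | i <;> rcases j with j | j <;> simp [Matrix.J, Matrix.one_apply, apply_ite e]
  rw [← hJ, ← Matrix.transpose_map, ← Matrix.map_mul, ← Matrix.map_mul, hA]

/-- The symplectic groups over isomorphic fields. -/
noncomputable def spEquiv (m : ℕ) {F : Type v} {K : Type*} [Field F] [Field K] (e : F ≃+* K) :
    Matrix.symplecticGroup (Fin m) F ≃* Matrix.symplecticGroup (Fin m) K where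
  toFun A := ⟨A.1.map e, sp_map m e A.2⟩
  invFun A := ⟨A.1.map e.symm, sp_map m e.symm A.2⟩
  left_inv A := Subtype.ext (by ext i j; simp)
  right_inv A := Subtype.ext (by ext i j; simp)
  map_mul' A B := Subtype.ext Matrix.map_mul

/-- The projective symplectic groups over isomorphic fields. -/
noncomputable def pspEquiv (m : ℕ) {F : Type v} {K : Type*} [Field F] [Field K] (e : F ≃+* K) :
    Cfsg.PSp m F ≃* Cfsg.PSp m K :=
  QuotientGroup.congr _ _ (spEquiv m e) (CfsgLib.DimThreeSub.map_center_eq _)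

theorem pspThree {F : Type v} [Field F] [Fintype F] (hF : Fintype.card F = 3) :
    Nonempty (Cfsg.PSp 2 F ≃* Cfsg.PSp 2 (ZMod 3)) := by
  have : Fact (Nat.Prime 3) := ⟨Nat.prime_three⟩
  exact ⟨pspEquiv 2 (FiniteField.ringEquivOfCardEq (K := F) (K' := ZMod 3) (by rw [hF, ZMod.card]))⟩

variable {G : Type u} [Group G] [Finite G]

theorem exists_ctx (z : G) (hz : orderOf z = 2) (P : Subgroup (centralizer ({z} : Set G))) [P.Normal]
    (hP : P = Cfsg.pCore 2 ↥(centralizer ({z} : Set G))) (hJ : Cfsg.IsExtraspecial 2 P) (hJc : Nat.card P = 2 ^ 9)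
    (hCJ : centralizer (P : Set ↥(centralizer ({z} : Set G))) ≤ P)
    (e : (centralizer ({z} : Set G)) ⧸ P ≃* Cfsg.PSp 2 (ZMod 3)) :
    Nonempty (Ctx z (P.map (centralizer ({z} : Set G)).subtype)) := by
  have : Fact (Nat.Prime 2) := ⟨Nat.prime_two⟩
  have hzC : z ∈ (centralizer ({z} : Set G)) := Subgroup.mem_centralizer_singleton_iff.2 rfl
  have hzc : (⟨z, hzC⟩ : (centralizer ({z} : Set G))) ∈ center (centralizer ({z} : Set G)) := Subgroup.mem_center_iff.2 fun y =>
    Subtype.ext (Subgroup.mem_centralizer_singleton_iff.1 y.2)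
  have hord : orderOf (⟨z, hzC⟩ : (centralizer ({z} : Set G))) = 2 := by rw [Subgroup.orderOf_mk]; exact hz
  have hzP : (⟨z, hzC⟩ : (centralizer ({z} : Set G))) ∈ P := by
    have hn : (zpowers (⟨z, hzC⟩ : (centralizer ({z} : Set G)))).Normal := ⟨fun x hx g => by
      have : x ∈ center (centralizer ({z} : Set G)) := (zpowers_le.2 hzc) hx
      rwa [Subgroup.mem_center_iff.1 this g, mul_inv_cancel_right]⟩
    rw [hP]
    exact CfsgLib.PCore.le_pCore hn (IsPGroup.of_card (n := 1) (by rw [Nat.card_zpowers, hord, pow_one]))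
      (mem_zpowers _)
  obtain ⟨hz2, hz1⟩ := orderOf_eq_prime_iff.1 hz
  have hz0 : (⟨⟨z, hzC⟩, hzP⟩ : P) ∈ center P := mem_center_iff.2 fun y =>
    Subtype.ext (Subgroup.mem_center_iff.1 hzc y)
  have hcen : (center P).map P.subtype = zpowers (⟨z, hzC⟩ : (centralizer ({z} : Set G))) := by
    rw [← CfsgLib.PGroup.extraspecial_zpowers_eq_center hJ hz0
      (fun e => hz1 (congrArg (fun w : P => ((w : (centralizer ({z} : Set G))) : G)) e)), MonoidHom.map_zpowers]
    rfl
  have hmem : ∀ x, x ∈ P.map (centralizer ({z} : Set G)).subtype ↔ ∃ h : x ∈ (centralizer ({z} : Set G)), (⟨x, h⟩ : (centralizer ({z} : Set G))) ∈ P := fun x =>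
    ⟨by rintro ⟨y, hy, rfl⟩; exact ⟨y.2, hy⟩, fun ⟨h, hy⟩ => ⟨_, hy, rfl⟩⟩
  let φ : P ≃* P.map (centralizer ({z} : Set G)).subtype := P.equivMapOfInjective _ (centralizer ({z} : Set G)).subtype_injective
  refine ⟨{
    extra := ⟨CfsgLib.LargeExtra.isExtraspecial_of_equiv φ hJ, hz, ?_⟩
    le := map_subtype_le _
    norm := fun c hc q hq => ?_
    card := by rw [Subgroup.card_subtype, hJc]; norm_num
    self := fun c hc h => ?_
    π := e.toMonoidHom.comp (QuotientGroup.mk' P)
    π_surj := e.surjective.comp (QuotientGroup.mk'_surjective P)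
    π_ker := fun c => ?_ }⟩
  · have hc : center (P.map (centralizer ({z} : Set G)).subtype) = (center P).map φ.toMonoidHom :=
      (CfsgLib.DimThreeSub.map_center_eq φ).symm
    rw [hc, Subgroup.map_map, show (P.map (centralizer ({z} : Set G)).subtype).subtype.comp φ.toMonoidHom = (centralizer ({z} : Set G)).subtype.comp P.subtype from
      MonoidHom.ext fun x => rfl, ← Subgroup.map_map, hcen, MonoidHom.map_zpowers]
    rfl
  · obtain ⟨hqC, hqP⟩ := (hmem q).1 hq
    have hcC : c ∈ (centralizer ({z} : Set G)) := Subgroup.mem_centralizer_singleton_iff.2 hc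
    exact (hmem _).2 ⟨mul_mem (mul_mem hcC hqC) (inv_mem hcC),
      (inferInstance : P.Normal).conj_mem _ hqP ⟨c, hcC⟩⟩
  · exact (hmem c).2 ⟨Subgroup.mem_centralizer_singleton_iff.2 hc, hCJ (mem_centralizer_iff.2 fun y hy =>
      Subtype.ext (h y ((hmem _).2 ⟨y.2, hy⟩)))⟩
  · rw [MonoidHom.comp_apply, MulEquiv.coe_toMonoidHom, e.map_eq_one_iff, QuotientGroup.mk'_apply,
      QuotientGroup.eq_one_iff, hmem]
    exact ⟨fun h => ⟨c.2, h⟩, fun ⟨_, h⟩ => h⟩

end CfsgLib.U6Large
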