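import Cfsg.Agent.Lib.U6Large.Aug
import Cfsg.Agent.Lib.U6Large.Build
import Cfsg.Agent.S0814

/-! The data from the hypotheses with the automorphism group on top. -/

set_option autoImplicit false
set_option linter.style.longLine false

namespace CfsgLib.U6Large

open Subgroup CfsgLib.SpFourThree

universe u

theorem card_aut_target : Nat.card (MulAut (Cfsg.PSp 2 (ZMod 3))) = 2 * 25920 := by
  have : Fact (Nat.Prime 3) := ⟨Nat.prime_three⟩
  rw [Cfsg.Agent.S0814.result (F := ZMod 3) 3 1 le_rfl (by rw [ZMod.card, pow_one]) 2 le_rfl (fun _ => by norm_num),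
    target_card]
  norm_num

theorem conj_inj : Function.Injective (MulAut.conj : Cfsg.PSp 2 (ZMod 3) →* MulAut (Cfsg.PSp 2 (ZMod 3))) := by
  have := target_simple
  refine (MonoidHom.ker_eq_bot_iff _).1 ((MonoidHom.normal_ker _).eq_bot_or_eq_top.resolve_right fun h => ?_)
  have hc : ∀ a b : Cfsg.PSp 2 (ZMod 3), a * b = b * a := fun a b => by
    have ha : MulAut.conj a = 1 := MonoidHom.mem_ker.1 (h ▸ Subgroup.mem_top a)
    have := DFunLike.congr_fun ha b
    rw [MulAut.conj_apply] at this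
    exact mul_inv_eq_iff_eq_mul.1 this
  obtain ⟨a, b, hab⟩ : ∃ a b : Cfsg.PSp 2 (ZMod 3), a * b ≠ b * a := by
    refine ⟨ev [3], ev [4], fun e => ?_⟩
    rw [← ev_append, ← ev_append] at e
    have h2 := eqC_of_ev e
    revert h2
    decide +kernel
  exact hab (hc a b)

theorem index_inn : (MulAut.conj : Cfsg.PSp 2 (ZMod 3) →* MulAut (Cfsg.PSp 2 (ZMod 3))).range.index = 2 := by
  have h := (MulAut.conj : Cfsg.PSp 2 (ZMod 3) →* MulAut (Cfsg.PSp 2 (ZMod 3))).range.card_mul_index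
  rw [card_aut_target, ← Nat.card_congr (MonoidHom.ofInjective conj_inj).toEquiv, target_card] at h
  omega

variable {G : Type u} [Group G] [Finite G]

theorem exists_aug (z : G) (hz : orderOf z = 2) (P : Subgroup (centralizer ({z} : Set G))) [P.Normal]
    (hP : P = Cfsg.pCore 2 ↥(centralizer ({z} : Set G))) (hJ : Cfsg.IsExtraspecial 2 P) (hJc : Nat.card P = 2 ^ 9)
    (hCJ : centralizer (P : Set ↥(centralizer ({z} : Set G))) ≤ P)
    (e : (centralizer ({z} : Set G)) ⧸ P ≃* MulAut (Cfsg.PSp 2 (ZMod 3))) :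
    Nonempty (Aug z (P.map (centralizer ({z} : Set G)).subtype)) := by
  have : Fact (Nat.Prime 2) := ⟨Nat.prime_two⟩
  have hzC : z ∈ (centralizer ({z} : Set G)) := Subgroup.mem_centralizer_singleton_iff.2 rfl
  have hzc : (⟨z, hzC⟩ : (centralizer ({z} : Set G))) ∈ center (centralizer ({z} : Set G)) := Subgroup.mem_center_iff.2 fun y =>
    Subtype.ext (Subgroup.mem_centralizer_singleton_iff.1 y.2)
  have hord : orderOf (⟨z, hzC⟩ : (centralizer ({z} : Set G))) = 2 := by rw [Subgroup.orderOf_mk]; exact hz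
  have hzP : (⟨z, hzC⟩ : (centralizer ({z} : Set G))) ∈ P := by
    have hn : (zpowers (⟨z, hzC⟩ : (centralizer ({z} : Set G)))).Normal := ⟨fun x hx g => by
      have : x ∈ center (centralizer ({z} : Set G)) := (zpowers_le.2 hzc) hx
      rwa [Subgroup.mem_center_iff.1 this g, mul_inv_cancel_right]⟩
    rw [hP]
    exact CfsgLib.PCore.le_pCore hn (IsPGroup.of_card (n := 1) (by rw [Nat.card_zpowers, hord, pow_one]))
      (mem_zpowers _)
  have hz1 : z ≠ 1 := fun h => by simp [h] at hz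
  have hz0 : (⟨⟨z, hzC⟩, hzP⟩ : P) ∈ center P := mem_center_iff.2 fun y =>
    Subtype.ext (Subgroup.mem_center_iff.1 hzc y)
  have hcen : (center P).map P.subtype = zpowers (⟨z, hzC⟩ : (centralizer ({z} : Set G))) := by
    rw [← CfsgLib.PGroup.extraspecial_zpowers_eq_center hJ hz0
      (fun h => hz1 (congrArg (fun w : P => ((w : (centralizer ({z} : Set G))) : G)) h)), MonoidHom.map_zpowers]
    rfl
  have hmem : ∀ x, x ∈ P.map (centralizer ({z} : Set G)).subtype ↔ ∃ h : x ∈ (centralizer ({z} : Set G)), (⟨x, h⟩ : (centralizer ({z} : Set G))) ∈ P := fun x =>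
    ⟨by rintro ⟨y, hy, rfl⟩; exact ⟨y.2, hy⟩, fun ⟨h, hy⟩ => ⟨_, hy, rfl⟩⟩
  let φ : P ≃* P.map (centralizer ({z} : Set G)).subtype := P.equivMapOfInjective _ (centralizer ({z} : Set G)).subtype_injective
  let ψ : centralizer ({z} : Set G) →* MulAut (Cfsg.PSp 2 (ZMod 3)) := e.toMonoidHom.comp (QuotientGroup.mk' P)
  have hψker : ∀ c, ψ c = 1 ↔ c ∈ P := fun c => by
    rw [MonoidHom.comp_apply, MulEquiv.coe_toMonoidHom, e.map_eq_one_iff, QuotientGroup.mk'_apply,
      QuotientGroup.eq_one_iff]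
  have hψsurj : Function.Surjective ψ := e.surjective.comp (QuotientGroup.mk'_surjective P)
  let inn : Subgroup (MulAut (Cfsg.PSp 2 (ZMod 3))) := (MulAut.conj : Cfsg.PSp 2 (ZMod 3) →* _).range
  let H0 : Subgroup G := (inn.comap ψ).map (centralizer ({z} : Set G)).subtype
  have h0 : ∀ x, x ∈ H0 ↔ ∃ h : x ∈ centralizer ({z} : Set G), ψ ⟨x, h⟩ ∈ inn := fun x =>
    ⟨by rintro ⟨y, hy, rfl⟩; exact ⟨y.2, hy⟩, fun ⟨h, hy⟩ => ⟨_, hy, rfl⟩⟩
  let lift : H0 →* inn :=
    { toFun := fun c => ⟨ψ ⟨c, ((h0 c).1 c.2).1⟩, ((h0 c).1 c.2).2⟩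
      map_one' := Subtype.ext (map_one ψ)
      map_mul' := fun a b => Subtype.ext (map_mul ψ ⟨a, ((h0 a).1 a.2).1⟩ ⟨b, ((h0 b).1 b.2).1⟩) }
  let π : H0 →* Cfsg.PSp 2 (ZMod 3) := (MonoidHom.ofInjective conj_inj).symm.toMonoidHom.comp lift
  refine ⟨{
    extra := ⟨CfsgLib.LargeExtra.isExtraspecial_of_equiv φ hJ, hz, ?_⟩
    le := map_subtype_le _
    norm := fun c hc q hq => ?_
    card := by rw [Subgroup.card_subtype, hJc]; norm_num
    self := fun c hc h => ?_
    H0 := H0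
    H0_le := map_subtype_le _
    Q_le0 := fun q hq => ?_
    H0_mul := fun a b ha hb ha' hb' => ?_
    H0_norm := fun c hc a ha => ?_
    H0_ne := ?_
    π := π
    π_surj := (MonoidHom.ofInjective conj_inj).symm.surjective.comp fun y => ?_
    π_ker := fun c => ?_ }⟩
  · have hc : center (P.map (centralizer ({z} : Set G)).subtype) = (center P).map φ.toMonoidHom :=
      (CfsgLib.DimThreeSub.map_center_eq φ).symm
    rw [hc, Subgroup.map_map, show (P.map (centralizer ({z} : Set G)).subtype).subtype.comp φ.toMonoidHom = (centralizer ({z} : Set G)).subtype.comp P.subtype from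
      MonoidHom.ext fun x => rfl, ← Subgroup.map_map, hcen, MonoidHom.map_zpowers]
    rfl
  · obtain ⟨hqC, hqP⟩ := (hmem q).1 hq
    have hcC : c ∈ (centralizer ({z} : Set G)) := Subgroup.mem_centralizer_singleton_iff.2 hc
    exact (hmem _).2 ⟨mul_mem (mul_mem hcC hqC) (inv_mem hcC),
      (inferInstance : P.Normal).conj_mem _ hqP ⟨c, hcC⟩⟩
  · exact (hmem c).2 ⟨Subgroup.mem_centralizer_singleton_iff.2 hc, hCJ (mem_centralizer_iff.2 fun y hy =>
      Subtype.ext (h y ((hmem _).2 ⟨y.2, hy⟩)))⟩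
  · obtain ⟨hqC, hqP⟩ := (hmem q).1 hq
    exact (h0 q).2 ⟨hqC, by rw [(hψker _).2 hqP]; exact one_mem _⟩
  · have hA : a ∈ centralizer ({z} : Set G) := Subgroup.mem_centralizer_singleton_iff.2 ha
    have hB : b ∈ centralizer ({z} : Set G) := Subgroup.mem_centralizer_singleton_iff.2 hb
    refine (h0 _).2 ⟨mul_mem hA hB, ?_⟩
    rw [show (⟨a * b, mul_mem hA hB⟩ : centralizer ({z} : Set G)) = ⟨a, hA⟩ * ⟨b, hB⟩ from rfl, map_mul]
    exact (Subgroup.mul_mem_iff_of_index_two index_inn).2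
      (iff_of_false (fun k => ha' ((h0 a).2 ⟨hA, k⟩)) fun k => hb' ((h0 b).2 ⟨hB, k⟩))
  · obtain ⟨haC, hi⟩ := (h0 a).1 ha
    have hcC : c ∈ centralizer ({z} : Set G) := Subgroup.mem_centralizer_singleton_iff.2 hc
    refine (h0 _).2 ⟨mul_mem (mul_mem hcC haC) (inv_mem hcC), ?_⟩
    have hn : inn.Normal := Subgroup.normal_of_index_eq_two index_inn
    rw [show (⟨c * a * c⁻¹, mul_mem (mul_mem hcC haC) (inv_mem hcC)⟩ : centralizer ({z} : Set G)) =
      ⟨c, hcC⟩ * ⟨a, haC⟩ * ⟨c, hcC⟩⁻¹ from rfl, map_mul, map_mul, map_inv]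
    exact hn.conj_mem _ hi _
  · obtain ⟨y, hy⟩ : ∃ y, y ∉ inn := by
      by_contra hn
      push Not at hn
      have h2 := index_inn
      rw [show (MulAut.conj : Cfsg.PSp 2 (ZMod 3) →* _).range = inn from rfl, (Subgroup.eq_top_iff' inn).2 hn,
        Subgroup.index_top] at h2
      omega
    obtain ⟨h, rfl⟩ := hψsurj y
    exact ⟨h, Subgroup.mem_centralizer_singleton_iff.1 h.2, fun k => hy ((h0 _).1 k).2⟩
  · obtain ⟨c, hc⟩ := hψsurj y.1
    exact ⟨⟨c, (h0 _).2 ⟨c.2, by rw [hc]; exact y.2⟩⟩, Subtype.ext hc⟩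
  · rw [MonoidHom.comp_apply, MulEquiv.coe_toMonoidHom, MulEquiv.map_eq_one_iff, hmem,
      show lift c = 1 ↔ ψ ⟨c, ((h0 c).1 c.2).1⟩ = 1 from Subtype.ext_iff, hψker]
    exact ⟨fun k => ⟨_, k⟩, fun ⟨_, k⟩ => k⟩

/-- Over any field with three elements. -/
theorem mulAutThree {F : Type*} [Field F] [Fintype F] (hF : Fintype.card F = 3) :
    Nonempty (MulAut (Cfsg.PSp 2 F) ≃* MulAut (Cfsg.PSp 2 (ZMod 3))) := by
  obtain ⟨f⟩ := pspThree hF
  exact ⟨MulAut.congr f⟩

end CfsgLib.U6Large
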