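import Cfsg.Agent.Lib.U6Large.Tv
import Cfsg.Agent.Lib.ThreeTrans.UCent.Final
import Cfsg.Agent.Lib.DimThreeSub.Models
import Cfsg.Agent.Lib.Involutions.BrauerSuzuki
import Cfsg.Agent.Lib.Involutions.Basic
import Cfsg.Agent.Lib.PCore.Basic
import Cfsg.Prelude.Def_TwoFusion

/-! From the unitary shape: the isolated case, or the six-dimensional unitary group. -/

set_option autoImplicit false
set_option linter.unusedSectionVars false
set_option linter.style.longLine false

namespace CfsgLib.U6Large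

open Subgroup CfsgLib.SpFourThree CfsgLib.ThreeTrans.UCent
open CfsgLib.ThreeTrans.UCent.W (mk')

universe u

variable {G : Type u} [Group G] [Finite G] {z : G} {Q : Subgroup G} {S : Ctx z Q}

/-- With an isolated involution the group is its centraliser times the odd core. -/
theorem sup_oddCore (ht : orderOf z = 2) (hiso : ∀ g : G, g * z * g⁻¹ * z = z * (g * z * g⁻¹) → g * z * g⁻¹ = z) :
    Subgroup.centralizer ({z} : Set G) ⊔ Cfsg.oddCore G = ⊤ := by
  haveI : Fact (Nat.Prime 2) := ⟨Nat.prime_two⟩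
  haveI hOn : (Cfsg.oddCore G).Normal := Cfsg.pPrimeCore_normal 2 G
  have hOodd : Odd (Nat.card (Cfsg.oddCore G)) := by
    rw [← Nat.not_even_iff_odd, even_iff_two_dvd]
    exact CfsgLib.PCore.not_dvd_card_pPrimeCore
  have hz := CfsgLib.Involutions.zstar G z ⟨ht, fun g hg => hiso g hg.eq.symm⟩
  rw [eq_top_iff]
  intro g _
  have hx : g * z * g⁻¹ * z⁻¹ ∈ Cfsg.oddCore G := hz g
  have hy : orderOf (g * z * g⁻¹) = 2 :=
    (orderOf_injective (MulAut.conj g).toMonoidHom (MulAut.conj g).injective z).trans ht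
  rw [CfsgLib.Involutions.inv_eq_self_of_involution ht] at hx
  have hodd : Odd (orderOf (g * z * g⁻¹ * z)) :=
    hOodd.of_dvd_nat ((Subgroup.orderOf_mk _ hx).symm ▸ orderOf_dvd_natCard (⟨_, hx⟩ : Cfsg.oddCore G))
  obtain ⟨m, hm⟩ := hodd
  set d := (g * z * g⁻¹ * z) ^ (m : ℤ)
  have hd : d * (g * z * g⁻¹) * d⁻¹ = z := by
    have h := CfsgLib.Involutions.conj_by_zpow hy ht (m : ℤ) 0
    rw [zpow_zero, one_mul] at h
    rw [h, add_zero]
    have h2 : (g * z * g⁻¹ * z) ^ (2 * (m : ℤ)) = (g * z * g⁻¹ * z)⁻¹ := by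
      apply eq_inv_of_mul_eq_one_left
      have := pow_orderOf_eq_one (g * z * g⁻¹ * z)
      rw [hm, pow_succ] at this
      exact_mod_cast this
    rw [h2, mul_inv_rev, CfsgLib.Involutions.inv_eq_self_of_involution ht,
      CfsgLib.Involutions.inv_eq_self_of_involution hy, mul_assoc,
      CfsgLib.Involutions.mul_self_eq_one hy, mul_one]
  have hdg : d * g ∈ Subgroup.centralizer ({z} : Set G) := by
    rw [Subgroup.mem_centralizer_singleton_iff, ← mul_inv_eq_iff_eq_mul]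
    calc d * g * z * (d * g)⁻¹ = d * (g * z * g⁻¹) * d⁻¹ := by group
      _ = z := hd
  have hdO : d ∈ Cfsg.oddCore G := Subgroup.zpow_mem _ hx _
  rw [show g = d⁻¹ * (d * g) by group]
  exact mul_mem (Subgroup.mem_sup_right (inv_mem hdO)) (Subgroup.mem_sup_left hdg)

namespace Ctx.Natural

variable (N : S.Natural)
include N

/-- The generators of the abelian subgroup. -/
def gensA : Set G := {a | (a ∈ Q ∧ flat (N.co a) = true) ∨ ∃ p, flat p = true ∧ N.IsTv a p}

/-- The abelian subgroup. -/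
def A : Subgroup G := Subgroup.closure N.gensA

theorem gens_props {a b : G} (ha : a ∈ N.gensA) (hb : b ∈ N.gensA) : a * b = b * a ∧ a * a = 1 := by
  rcases ha with ⟨ha, hfa⟩ | ⟨p, hp, ha⟩
  · refine ⟨?_, (N.sq_iff ha).2 (flat_facts hfa hfa).1⟩
    rcases hb with ⟨hb, hfb⟩ | ⟨r, hr, hb⟩
    · exact (N.comm_iff ha hb).2 (flat_facts hfa hfb).2.2.1
    · exact hb.good a ha (flat_perp hfa hr)
  · refine ⟨?_, ha.xx⟩
    rcases hb with ⟨hb, hfb⟩ | ⟨r, hr, hb⟩
    · exact (ha.good b hb (flat_perp hfb hp)).symm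
    · exact ha.comm_perp hb (flat_perp hp hr)

theorem A_comm {a b : G} (ha : a ∈ N.A) (hb : b ∈ N.A) : a * b = b * a := by
  have h : N.A ≤ centralizer (N.A : Set G) := by
    refine (Subgroup.closure_le _).2 fun x hx => ?_
    refine Subgroup.mem_centralizer_iff.2 fun y hy => ?_
    have : N.A ≤ centralizer ({x} : Set G) := (Subgroup.closure_le _).2 fun w hw =>
      Subgroup.mem_centralizer_singleton_iff.2 (N.gens_props hw hx).1
    exact Subgroup.mem_centralizer_singleton_iff.1 (this hy)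
  exact (Subgroup.mem_centralizer_iff.1 (h ha) b hb).symm

theorem A_sq {a : G} (ha : a ∈ N.A) : a * a = 1 := by
  induction ha using Subgroup.closure_induction with
  | mem x hx => exact (N.gens_props hx hx).2
  | one => exact one_mul 1
  | mul x y hx hy h1 h2 =>
    calc x * y * (x * y) = x * (y * x) * y := by group
      _ = x * (x * y) * y := by rw [N.A_comm hy hx]
      _ = (x * x) * (y * y) := by group
      _ = 1 := by rw [h1, h2, one_mul]
  | inv x _ h => rw [← mul_inv_rev, h, inv_one]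

theorem z_mem_A : z ∈ N.A := Subgroup.subset_closure (Or.inl ⟨S.zQ, by rw [N.co_z]; exact flat_zero⟩)

theorem A_Q_iff {q : G} (hq : q ∈ Q) : q ∈ N.A ↔ flat (N.co q) = true := by
  refine ⟨fun h => flat_of_bt fun y hy => ?_, fun h => Subgroup.subset_closure (Or.inl ⟨hq, h⟩)⟩
  obtain ⟨f, hf, rfl⟩ := N.co_surj y
  exact (N.comm_iff hq hf).1 (N.A_comm h (Subgroup.subset_closure (Or.inl ⟨hf, hy⟩)))

/-- A transvection of a flat point exists for every flat point once one exists. -/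
theorem exists_flat {x : G} {p₀ : W} (h : N.IsTv x p₀) {p : W} (hp : flat p = true) (hp0 : p ≠ 0) :
    ∃ a, N.IsTv a p := by
  obtain ⟨a, ha⟩ := N.exists_to_base h.iso
  obtain ⟨l, hl, e⟩ := from_base hp hp0
  obtain ⟨c, hc⟩ := S.π_surj (ev l * a)
  refine ⟨(c : G) * x * (c : G)⁻¹, ?_⟩
  have := h.map c
  rwa [hc, N.gW_mul, ha, N.gW_ev hl, e] at this

theorem a_cases {a : G} (ha : a ∈ N.A) (hc : IsConj z a) :
    a = z ∨ ∃ p, flat p = true ∧ N.IsTv a p := by
  by_cases hne : a = z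
  · exact Or.inl hne
  obtain ⟨p, hp⟩ := N.exists_tv (N.A_comm ha N.z_mem_A) hc hne
  refine Or.inr ⟨p, flat_of_bt fun y hy => ?_, hp⟩
  obtain ⟨f, hf, rfl⟩ := N.co_surj y
  have hf' : f ∈ N.A := Subgroup.subset_closure (Or.inl ⟨hf, hy⟩)
  have h1 : a * f * a⁻¹ = f := mul_inv_eq_iff_eq_mul.2 (N.A_comm ha hf')
  have h2 : tv p (N.co f) = N.co f := by
    rw [← hp.act, ← N.co_conj _ hf]
    show N.co (a * f * a⁻¹) = _
    rw [h1]
  rw [bt_comm]
  exact (perp_iff.1 ((tv_fix (iso_iff.1 hp.iso).2).1 h2)).1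

/-- The recognition data. -/
noncomputable def hyp {x : G} {p₀ : W} (h : N.IsTv x p₀) : CfsgLib.ThreeTrans.UCent.Hyp z where
  ord := S.extra.order_z
  Q := Q
  Q_le q hq := S.extra.comm_z hq
  dQ := S.zQ
  Q_norm g hg q hq := S.norm g hg.eq q hq
  co := N.co
  co_mul _ hp _ hq := N.co_mul hp hq
  co_surj := N.co_surj
  co_ker _ hq := N.co_zero hq
  comm _ hp _ hq := N.comm_iff hp hq
  sq _ hq := N.sq_iff hq
  co_om g hg q hq q' hq' e := by
    have h1 := N.co_conj ⟨g, S.mem_H.2 hg.eq⟩ hq'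
    have h2 := N.co_conj ⟨g, S.mem_H.2 hg.eq⟩ hq
    exact (h1.trans (by rw [e, N.gW_om])).trans (congrArg om h2.symm)
  faithful g hg hfix := by
    refine (S.π_ker ⟨g, S.mem_H.2 hg.eq⟩).1 (N.gW_faithful fun w => ?_)
    obtain ⟨q, hq, rfl⟩ := N.co_surj w
    rw [N.gW_one, ← N.co_conj _ hq]
    exact hfix q hq
  A := N.A
  A_sq _ ha := N.A_sq ha
  dA := N.z_mem_A
  A_Q _ hq := N.A_Q_iff hq
  has p hp hp0 := by
    obtain ⟨a, ha⟩ := N.exists_flat h hp hp0
    refine ⟨a, Subgroup.subset_closure (Or.inr ⟨p, hp, ha⟩), ha.conj, fun q hq => ?_⟩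
    rw [← ha.act, ← N.co_conj _ hq]
    rfl
  only a ha hc := by
    rcases N.a_cases ha hc with rfl | ⟨p, hp, hap⟩
    · exact Or.inl rfl
    · refine Or.inr ⟨p, hp, (iso_iff.1 hap.iso).2, fun q hq => ?_⟩
      rw [← hap.act, ← N.co_conj _ hq]
      rfl
  ad_not a ha hc k := by
    rcases N.a_cases ha hc with rfl | ⟨p, hp, hap⟩
    · rw [S.zz] at k
      exact S.ne (isConj_one_left.1 k)
    · exact hap.xz_not k
  move p r hp hr hpr _ := by
    obtain ⟨a, ha⟩ := N.exists_to_base hp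
    obtain ⟨l, hl, h1, h2⟩ := flatten_word (N.gW_iso a hr) (by rw [← ha, N.gW_perp]; exact hpr)
    obtain ⟨c, hc⟩ := S.π_surj (ev l * a)
    refine ⟨c, S.mem_H.1 c.2, fun q hq e => ?_, fun q hq e => ?_⟩
    · show flat (N.co ((c : G) * q * (c : G)⁻¹)) = true
      rw [N.co_conj c hq, hc, N.gW_mul, e, ha, N.gW_ev hl]; exact h1
    · show flat (N.co ((c : G) * q * (c : G)⁻¹)) = true
      rw [N.co_conj c hq, hc, N.gW_mul, e, N.gW_ev hl]; exact h2
  card_le := by
    have e := S.card_split (le_refl (centralizer ({z} : Set G)))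
    have h1 : Nat.card ↥(centralizer ({z} : Set G) ⊓ Q) ≤ 512 := S.card ▸ Subgroup.card_le_of_le inf_le_right
    have : Finite (Cfsg.PSp 2 (ZMod 3)) := Nat.finite_of_card_ne_zero (by rw [target_card]; norm_num)
    have h2 : Nat.card (S.proj (le_refl (centralizer ({z} : Set G)))).range ≤ 25920 :=
      target_card ▸ Subgroup.card_le_card_group _
    exact e ▸ Nat.mul_le_mul h1 h2

/-- The unitary shape gives the unitary group or an isolated involution. -/
theorem conclusion {K : Type*} [Field K] [Fintype K] (hK : Fintype.card K = 4) :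
    Nonempty (G ≃* Cfsg.PSU 6 K 2) ∨ Subgroup.centralizer ({z} : Set G) ⊔ Cfsg.oddCore G = ⊤ := by
  by_cases hiso : ∀ g : G, g * z * g⁻¹ * z = z * (g * z * g⁻¹) → g * z * g⁻¹ = z
  · exact Or.inr (sup_oddCore S.extra.order_z hiso)
  push Not at hiso
  obtain ⟨g, hg, hne⟩ := hiso
  obtain ⟨p, hp⟩ := N.exists_tv hg (isConj_iff.2 ⟨g, rfl⟩) hne
  obtain ⟨F, _, _, hF, ⟨e⟩⟩ := (N.hyp hp).recognise
  exact Or.inl ⟨e.trans (CfsgLib.DimThreeSub.psuEquiv 6 2 (FiniteField.ringEquivOfCardEq (K := F) (K' := K) (by rw [hF, hK])))⟩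

end Ctx.Natural

end CfsgLib.U6Large
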