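import Cfsg.Agent.Lib.U6Large.Outside

/-! Linear algebra of the quotient by the centre, and its use for a fused involution outside `Q`,
without coordinates. -/

set_option autoImplicit false
set_option linter.unusedSectionVars false
set_option linter.style.longLine false

namespace CfsgLib.U6Large

open Subgroup CfsgLib.SpFourThree

universe u

variable {G : Type u} [Group G] [Finite G] {z : G} {Q : Subgroup G}

namespace Ctx

variable (S : Ctx z Q)
include S

theorem pre_card (D : Subgroup G) (P : Vq Q → Prop) (h : ∀ q ∈ Q, P (S.vec q) → q ∈ D) :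
    2 * Nat.card {v : Vq Q // P v} ≤ Nat.card D := by
  have hb : ∀ b : Bool, cond b z 1 ∈ Q := fun b => by cases b <;> simp [S.zQ, one_mem]
  have hbz : ∀ b : Bool, S.vec (cond b z 1) = 1 := fun b => by cases b <;> simp [S.vec_one, S.vec_z]
  have hvec : ∀ (b : Bool) (v : Vq Q), S.vec (cond b z 1 * S.rep v) = v := fun b v => by
    rw [S.vec_mul (hb b) (S.rep_mem v), hbz, one_mul, S.vec_rep]
  have hmem : ∀ (b : Bool) (v : {v : Vq Q // P v}), cond b z 1 * S.rep v.1 ∈ D := fun b v =>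
    h _ (mul_mem (hb b) (S.rep_mem _)) (by rw [hvec]; exact v.2)
  calc 2 * Nat.card {v : Vq Q // P v} = Nat.card (Bool × {v : Vq Q // P v}) := by
        rw [Nat.card_prod, Nat.card_eq_fintype_card (α := Bool), Fintype.card_bool]
    _ ≤ Nat.card D := by
      refine Nat.card_le_card_of_injective (fun x => (⟨_, hmem x.1 x.2⟩ : D)) ?_
      rintro ⟨b, v, hv⟩ ⟨b', v', hv'⟩ e
      have e : cond b z 1 * S.rep v = cond b' z 1 * S.rep v' := congrArg Subtype.val e
      have ev : v = v' := by rw [← hvec b v, ← hvec b' v', e]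
      subst ev
      have hb2 := mul_right_cancel e
      cases b <;> cases b' <;> simp [S.ne, Ne.symm S.ne] at hb2 ⊢

/-- A vector outside a subgroup is moved by something orthogonal to it. -/
theorem separating (U : Subgroup (Vq Q)) {v : Vq Q} (hv : v ∉ U) :
    ∃ r, S.Skew r v ∧ ∀ u ∈ U, ¬ S.Skew r u := by
  classical
  let _ : CommGroup (Vq Q) := { (inferInstance : Group (Vq Q)) with mul_comm := S.v_comm }
  let A := Additive (Vq Q)
  let _ : Module (ZMod 2) A := AddCommGroup.zmodModule fun x => by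
    rw [two_nsmul]; exact S.v_sq (Additive.toMul x)
  let W : Submodule (ZMod 2) A := AddSubgroup.toZModSubmodule 2 U.toAddSubgroup
  have hvW : Additive.ofMul v ∉ W := hv
  obtain ⟨f, hf, hfW⟩ := Submodule.exists_dual_map_eq_bot_of_notMem hvW inferInstance
  obtain ⟨r, hr⟩ := S.exists_pair (fun w => f (Additive.ofMul w) = 0) fun a b => by
    have e : f (Additive.ofMul (a * b)) = f (Additive.ofMul a) + f (Additive.ofMul b) :=
      map_add f (Additive.ofMul a) (Additive.ofMul b)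
    have key : ∀ p q : ZMod 2, (p + q = 0) ↔ (p = 0 ↔ q = 0) := by decide
    rw [e, key]
  refine ⟨r, by_contra fun h => hf ((hr v).2 h), fun u hu => (hr u).1 ?_⟩
  have hm : f (Additive.ofMul u) ∈ Submodule.map f W := Submodule.mem_map_of_mem hu
  rwa [hfW, Submodule.mem_bot] at hm

theorem act_sq {y : Cfsg.PSp 2 (ZMod 3)} (hy : y * y = 1) (v : Vq Q) : S.act y (S.act y v) = v := by
  rw [← S.act_mul, hy, S.act_one]

/-- Orthogonal to all fixed vectors is in the commutator space. -/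
theorem perp_fix {y : Cfsg.PSp 2 (ZMod 3)} (hy : y * y = 1) {m : Vq Q}
    (hm : ∀ v, S.act y v = v → ¬ S.Skew m v) : ∃ u, S.act y u * u = m := by
  let U : Subgroup (Vq Q) :=
    { carrier := {w | ∃ u, S.act y u * u = w}
      one_mem' := ⟨1, by rw [S.act_unit, one_mul]⟩
      mul_mem' := by
        rintro _ _ ⟨a, rfl⟩ ⟨b, rfl⟩
        refine ⟨a * b, ?_⟩
        rw [S.act_hom, mul_assoc, ← mul_assoc (S.act y b) a b, S.v_comm (S.act y b) a]
        group
      inv_mem' := by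
        rintro _ ⟨a, rfl⟩
        exact ⟨a, by rw [S.v_inv]⟩ }
  by_contra hn
  obtain ⟨r, hr, hU⟩ := S.separating U (v := m) hn
  refine hm r (by_contra fun hne => ?_) (S.skew_symm.1 hr)
  -- `r` would be fixed
  refine hne (mul_inv_eq_one.1 ?_)
  rw [S.v_inv]
  refine S.nondeg fun w hw => ?_
  refine hU _ ⟨w, rfl⟩ ?_
  rw [S.skew_mul] at hw
  rw [S.skew_mul']
  have e : S.Skew (S.act y r) w ↔ S.Skew r (S.act y w) := by
    rw [← S.skew_act y, S.act_sq hy]
  rw [e] at hw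
  exact hw

end Ctx

namespace Ctx.Out

variable {S : Ctx z Q} (O : S.Out)
include O

theorem vec_x {q : G} (hq : q ∈ Q) : S.vec (O.x * q * O.x⁻¹) = S.act (S.π O.X) (S.vec q) := (S.act_vec O.X hq).symm

theorem tau_sq : S.π O.X * S.π O.X = 1 := by
  rw [← map_mul, show O.X * O.X = 1 from Subtype.ext O.xx, map_one]

theorem tau_ne : S.π O.X ≠ 1 := fun e => O.notQ ((S.π_ker O.X).1 e)

theorem fixedV {q : G} (hq : q ∈ O.C) : S.act (S.π O.X) (S.vec q) = S.vec q := by
  obtain ⟨hqQ, hqx⟩ := O.mem_C.1 hq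
  rw [← O.vec_x hqQ, ← hqx, mul_inv_cancel_right]

theorem flip {q : G} (hq : q ∈ Q) (hf : S.act (S.π O.X) (S.vec q) = S.vec q) (hqx : q * O.x ≠ O.x * q) :
    q * O.x * q⁻¹ = O.x * z := by
  rw [← O.vec_x hq] at hf
  rcases (S.vec_eq (S.conj_mem O.X hq) hq).1 hf with e | e
  · exact absurd (mul_inv_eq_iff_eq_mul.1 e).symm hqx
  · change O.x * q * O.x⁻¹ = z * q at e
    rw [mul_inv_eq_iff_eq_mul] at e ⊢
    calc q * O.x = z * z * (q * O.x) := by rw [S.zz, one_mul]
      _ = z * (z * q * O.x) := by group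
      _ = O.x * z * q := by rw [← e, ← mul_assoc, O.zx]

theorem splitV {q : G} (hq : q ∈ Q) (hf : S.act (S.π O.X) (S.vec q) = S.vec q) (hqx : q * O.x ≠ O.x * q)
    {q' : G} (hq' : q' ∈ Q) (hf' : S.act (S.π O.X) (S.vec q') = S.vec q') : q' ∈ O.C ∨ q⁻¹ * q' ∈ O.C := by
  by_cases h : q' * O.x = O.x * q'
  · exact Or.inl (O.mem_C.2 ⟨hq', h⟩)
  · refine Or.inr (O.mem_C.2 ⟨mul_mem (inv_mem hq) hq', ?_⟩)
    rw [← mul_inv_eq_iff_eq_mul]
    calc q⁻¹ * q' * O.x * (q⁻¹ * q')⁻¹ = q⁻¹ * (q' * O.x * q'⁻¹) * q := by group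
      _ = q⁻¹ * (q * O.x * q⁻¹) * q := by rw [O.flip hq' hf' h, O.flip hq hf hqx]
      _ = O.x := by group

theorem card_C {n : ℕ} (h : n ≤ Nat.card {v : Vq Q // S.act (S.π O.X) v = v}) : n ≤ Nat.card O.C := by
  let D : Subgroup G :=
    { carrier := {q | q ∈ Q ∧ S.act (S.π O.X) (S.vec q) = S.vec q}
      one_mem' := ⟨one_mem _, by rw [S.vec_one, S.act_unit]⟩
      mul_mem' := fun {a b} ha hb => ⟨mul_mem ha.1 hb.1, by rw [S.vec_mul ha.1 hb.1, S.act_hom, ha.2, hb.2]⟩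
      inv_mem' := fun {a} ha => ⟨inv_mem ha.1, by rw [S.vec_inv ha.1, S.v_inv]; exact ha.2⟩ }
  have h1 := S.pre_card D (fun v => S.act (S.π O.X) v = v) fun q hq h => ⟨hq, h⟩
  by_cases hall : ∀ q ∈ D, q * O.x = O.x * q
  · have : D ≤ O.C := fun q hq => O.mem_C.2 ⟨hq.1, hall q hq⟩
    have := Subgroup.card_le_of_le this
    omega
  push Not at hall
  obtain ⟨q0, ⟨hq0, hf0⟩, hqx⟩ := hall
  have hsub : (D : Set G) ⊆ ↑O.C ∪ (fun q => q0 * q) '' ↑O.C := by
    rintro q ⟨hq, hf⟩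
    rcases O.splitV hq0 hf0 hqx hq hf with h | h
    · exact Or.inl h
    · exact Or.inr ⟨_, h, mul_inv_cancel_left q0 q⟩
  have := (Set.ncard_le_ncard hsub (Set.toFinite _)).trans
    ((Set.ncard_union_le _ _).trans (Nat.add_le_add_left (Set.ncard_image_le (Set.toFinite _)) _))
  have e1 : Nat.card D = (D : Set G).ncard := rfl
  have e2 : Nat.card O.C = (↑O.C : Set G).ncard := rfl
  omega

theorem reachV {p q : G} (hp : p ∈ Q) (hq : q ∈ Q) (h : S.act (S.π O.X) (S.vec p) * S.vec p = S.vec q) :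
    p * O.x * p⁻¹ = O.x * q ∨ p * O.x * p⁻¹ = O.x * (z * q) := by
  have hm : O.x * p * O.x⁻¹ * p⁻¹ ∈ Q := mul_mem (S.conj_mem O.X hp) (inv_mem hp)
  have e : p * O.x * p⁻¹ = O.x * (O.x * p * O.x⁻¹ * p⁻¹) := by
    rw [O.x_inv, ← mul_assoc, ← mul_assoc, ← mul_assoc, O.xx, one_mul]
  rw [e]
  have hco : S.vec (O.x * p * O.x⁻¹ * p⁻¹) = S.vec q := by
    rw [S.vec_mul (show O.x * p * O.x⁻¹ ∈ Q from S.conj_mem O.X hp) (inv_mem hp), O.vec_x hp, S.vec_inv hp,
      S.v_inv, h]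
  rcases (S.vec_eq hm hq).1 hco with k | k <;> rw [k]
  · exact Or.inl rfl
  · exact Or.inr rfl

/-- A commutator of square one is centralised. -/
theorem commV {u : Vq Q} {q : G} (hq : q ∈ Q) (h : S.act (S.π O.X) u * u = S.vec q) (hsq : q * q = 1) :
    q ∈ O.C := by
  obtain ⟨p, hp, rfl⟩ := S.surj u
  set e := O.x * p * O.x⁻¹ * p⁻¹ with hed
  have he : O.x * e * O.x⁻¹ = e⁻¹ := by
    rw [hed, show O.x * (O.x * p * O.x⁻¹ * p⁻¹) * O.x⁻¹ = (O.x * O.x) * p * O.x⁻¹ * p⁻¹ * O.x⁻¹ by group, O.xx, one_mul,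
      mul_inv_rev, mul_inv_rev, mul_inv_rev, inv_inv, inv_inv, O.x_inv]
    group
  have hem : e ∈ Q := mul_mem (S.conj_mem O.X hp) (inv_mem hp)
  have hv : S.vec e = S.vec q := by
    rw [hed, S.vec_mul (show O.x * p * O.x⁻¹ ∈ Q from S.conj_mem O.X hp) (inv_mem hp), O.vec_x hp, S.vec_inv hp,
      S.v_inv, h]
  refine O.mem_C.2 ⟨hq, ?_⟩
  have hqi : q⁻¹ = q := inv_eq_of_mul_eq_one_right hsq
  have main : O.x * q * O.x⁻¹ = q⁻¹ := by
    rcases (S.vec_eq hem hq).1 hv with k | k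
    · rwa [k] at he
    · have hq' : q = z * e := by rw [k, ← mul_assoc, S.zz, one_mul]
      rw [hq', show O.x * (z * e) * O.x⁻¹ = (O.x * z) * e * O.x⁻¹ by group, ← O.zx,
        show z * O.x * e * O.x⁻¹ = z * (O.x * e * O.x⁻¹) by group, he, mul_inv_rev z e, S.extra.inv_eq,
        S.extra.comm_z (inv_mem hem)]
  rw [hqi, mul_inv_eq_iff_eq_mul] at main
  exact main.symm

/-- A commutator in the other large subgroup separates the two classes of the coset. -/
theorem xz_notV (hF : NoFusion z Q) {k : G} (hk : k ∈ O.K) (h1 : k ≠ 1) {u : Vq Q}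
    (h : S.act (S.π O.X) u * u = S.vec k) : ¬ IsConj z (O.x * z) := by
  intro hc
  obtain ⟨p, hp, rfl⟩ := S.surj u
  have hkQ := (O.mem_C.1 hk.1).1
  apply O.xk_not (hF := hF) hk h1
  rcases O.reachV hp hkQ h with e | e
  · rw [← e]
    exact (isConj_iff.2 ⟨O.g, rfl⟩ : IsConj z O.x).trans (isConj_iff.2 ⟨p, rfl⟩)
  · refine hc.trans (isConj_iff.2 ⟨p, ?_⟩)
    calc p * (O.x * z) * p⁻¹ = p * O.x * (z * p⁻¹) := by group
      _ = p * O.x * p⁻¹ * z := by rw [← S.extra.comm_z (inv_mem hp), mul_assoc _ p⁻¹]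
      _ = O.x * (z * k) * z := by rw [e]
      _ = O.x * k := by rw [mul_assoc O.x, mul_assoc z, S.extra.comm_z hkQ, ← mul_assoc z, S.zz, one_mul]

end Ctx.Out

end CfsgLib.U6Large
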