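import Cfsg.Agent.Lib.U6Large.SpThree
import Mathlib

/-! Both classes of involutions consist of squares and are large. -/

set_option autoImplicit false
set_option maxRecDepth 100000
set_option maxHeartbeats 1000000
set_option linter.style.longLine false

namespace CfsgLib.U6Large

open CfsgLib.SpFourThree

/-- Conjugating words with the conjugates. -/
def classOne : List (List ℕ × List ℕ) := [
  ([], [3]),
  ([1], [3, 1, 0, 0]),
  ([2], [1, 3, 0, 0]),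
  ([4], [3, 4, 3]),
  ([6], [4, 1]),
  ([1, 4], [3, 1, 4, 3]),
  ([1, 6], [1, 4]),
  ([3, 4], [4]),
  ([3, 6], [3, 4, 1, 3]),
  ([5, 4], [3, 4, 5, 4, 3]),
  ([5, 6], [5, 4, 1, 5]),
  ([0, 5, 4], [5, 3, 4, 1, 5, 3]),
  ([0, 5, 6], [5, 1, 4, 5]),
  ([1, 5, 6], [4, 5, 4]),
  ([4, 5, 6], [5, 2, 1]),
  ([5, 1, 4], [5, 3, 1, 4, 5, 3]),
  ([6, 5, 4], [1, 6, 4, 5, 6, 1, 1]),
  ([6, 5, 6], [6, 4, 5, 2, 1, 6]),
  ([1, 4, 5, 6], [1, 5, 2]),
  ([1, 6, 5, 4], [6, 5, 6, 4]),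
  ([1, 6, 5, 6], [6, 3, 4, 1, 5, 6, 3, 1]),
  ([2, 6, 5, 4], [1, 5, 6, 5, 6, 4, 5, 1, 1]),
  ([2, 6, 5, 6], [2, 3, 6, 5, 6, 2, 6]),
  ([3, 6, 5, 6], [6, 5, 2, 2, 6, 3]),
  ([4, 1, 5, 6], [5]),
  ([6, 0, 5, 6], [3, 6, 5, 1, 6]),
  ([6, 1, 5, 6], [6, 4, 5, 6]),
  ([6, 4, 5, 6], [6, 1, 5, 6, 3])]

theorem rootOne : ev [3] = ev [6, 3, 1, 4, 0] * ev [6, 3, 1, 4, 0] := by
  rw [← ev_append]
  exact ev_eq (by decide +kernel)

/-- Conjugating words with the conjugates. -/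
def classTwo : List (List ℕ × List ℕ) := [
  ([], [5, 3]),
  ([0], [5, 3, 2, 1]),
  ([1], [5, 2, 3, 0]),
  ([2], [5, 1, 3, 0, 0]),
  ([4], [4, 5, 3, 4]),
  ([6], [6, 5, 6, 1]),
  ([0, 0], [3, 1, 5, 2]),
  ([1, 0], [1, 5, 3, 2]),
  ([1, 1], [0, 5, 3, 2]),
  ([1, 4], [4, 0, 5, 3, 4, 2]),
  ([1, 6], [1, 6, 5, 6]),
  ([2, 0], [5, 3, 2, 0]),
  ([2, 2], [5, 3, 1, 0, 0]),
  ([2, 6], [2, 6, 5, 6, 2, 2, 1]),
  ([3, 4], [3, 4, 5, 3, 4, 3]),
  ([3, 6], [3, 6, 5, 6, 1, 3]),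
  ([4, 0], [4, 3, 1, 5, 4, 1]),
  ([4, 1], [4, 5, 2, 3, 4, 0]),
  ([4, 2], [4, 5, 3, 4, 1, 0]),
  ([5, 6], [5, 6, 5, 6, 1, 5]),
  ([6, 0], [6, 5, 2, 1, 6, 1]),
  ([6, 1], [6, 5, 2, 6, 1, 0]),
  ([6, 2], [6, 5, 3, 6, 3, 0]),
  ([0, 5, 4], [4, 5, 3, 4, 1, 5, 3]),
  ([0, 5, 6], [0, 5, 6, 5, 6, 1, 5, 0, 0]),
  ([1, 3, 4], [3, 4, 5, 3, 4, 3, 1]),
  ([1, 3, 6], [1, 3, 6, 5, 6, 3, 1, 0, 0]),
  ([1, 4, 2], [1, 4, 5, 3, 4, 0])]

theorem rootTwo : ev [3, 5] = ev [3, 4, 5, 3, 4] * ev [3, 4, 5, 3, 4] := by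
  rw [← ev_append]
  exact ev_eq (by decide +kernel)

/-- The certificate for a class. -/
def classOK (rp : List ℕ) (L : List (List ℕ × List ℕ)) : Bool :=
  ((List.range 28).all fun i => eqC (wordC ((L.getD i ([], [])).1 ++ rp)) (wordC ((L.getD i ([], [])).2 ++ (L.getD i ([], [])).1))) &&
  ((List.range 28).all fun i => (List.range 28).all fun j => i == j || !(eqC (wordC (L.getD i ([], [])).2) (wordC (L.getD j ([], [])).2)))

theorem classOne_ok : classOK [3] classOne = true := by decide +kernel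

theorem classTwo_ok : classOK [3, 5] classTwo = true := by decide +kernel

theorem class_spec {rp : List ℕ} {L : List (List ℕ × List ℕ)} (h : classOK rp L = true)
    {y a : Cfsg.PSp 2 (ZMod 3)} (ha : a * y * a⁻¹ = ev rp) :
    ∃ f : Fin 28 → Cfsg.PSp 2 (ZMod 3), Function.Injective fun i => f i * y * (f i)⁻¹ := by
  simp only [classOK, Bool.and_eq_true, List.all_eq_true, List.mem_range] at h
  refine ⟨fun i => ev (L.getD i.val ([], [])).1 * a, fun i j e => ?_⟩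
  have key : ∀ i : Fin 28, ev (L.getD i.val ([], [])).1 * a * y * (ev (L.getD i.val ([], [])).1 * a)⁻¹ =
      ev (L.getD i.val ([], [])).2 := fun i => by
    have h1 := ev_eq (h.1 i.val i.2)
    rw [ev_append, ev_append] at h1
    rw [mul_inv_eq_iff_eq_mul, ← mul_assoc (ev (L.getD i.val ([], [])).2), ← h1, mul_assoc _ a y,
      mul_assoc _ (ev rp) a, ← ha, inv_mul_cancel_right]
  have e' : ev (L.getD i.val ([], [])).2 = ev (L.getD j.val ([], [])).2 := by rw [← key i, ← key j]; exact e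
  have h2 := h.2 i.val i.2 j.val j.2
  simp only [eqC_of_ev e', Bool.not_true, Bool.or_false, beq_iff_eq] at h2
  exact Fin.ext h2

theorem many_conj {y : Cfsg.PSp 2 (ZMod 3)} (hy : y * y = 1) (h1 : y ≠ 1) :
    ∃ f : Fin 28 → Cfsg.PSp 2 (ZMod 3), Function.Injective fun i => f i * y * (f i)⁻¹ := by
  rcases involution_cases hy h1 with h | h <;> obtain ⟨a, ha⟩ := isConj_iff.1 h
  · exact class_spec classOne_ok ha
  · exact class_spec classTwo_ok ha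

theorem exists_root {y : Cfsg.PSp 2 (ZMod 3)} (hy : y * y = 1) (h1 : y ≠ 1) : ∃ g, g * g = y := by
  have key : ∀ {a r t : Cfsg.PSp 2 (ZMod 3)}, a * y * a⁻¹ = t → t = r * r → ∃ g, g * g = y := fun {a r t} e1 e2 =>
    ⟨a⁻¹ * r * a, by
      calc a⁻¹ * r * a * (a⁻¹ * r * a) = a⁻¹ * (r * r) * a := by group
        _ = y := by rw [← e2, ← e1]; group⟩
  rcases involution_cases hy h1 with h | h <;> obtain ⟨a, ha⟩ := isConj_iff.1 h
  · exact key ha rootOne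
  · exact key ha rootTwo

end CfsgLib.U6Large
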