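import Cfsg.Agent.Lib.U6Large.Data
import Cfsg.Agent.Lib.U6Large.Linear
import Cfsg.Agent.Lib.U6Large.MinusTables
import Cfsg.Agent.Lib.PGroup.Extraspecial

/-! The orthogonal shape: the involution commutes with none of its other conjugates. -/

set_option autoImplicit false
set_option linter.unusedSectionVars false
set_option linter.style.longLine false

namespace CfsgLib.U6Large

open Subgroup CfsgLib.SpFourThree CfsgLib.ThreeTrans.UCent
open CfsgLib.ThreeTrans.UCent.W (mk')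

universe u

theorem top_check : all1 (fun w => bt w (mk' 64) || bt w (mk' 128) || decide (w.code.val < 64)) = true ∧
    bt (mk' 64) (mk' 128) = true := by decide +kernel

theorem card_low : Nat.card {w : W // w.code.val < 64} = 64 := by
  rw [Nat.card_eq_fintype_card]; decide +kernel

theorem card_high : Nat.card {w : W // w.code.val % 64 = 0} = 4 := by
  rw [Nat.card_eq_fintype_card]; decide +kernel

theorem card_singular : Nat.card {w : W // w.code.val < 64 ∧ qW w = false ∧ w ≠ 0} = 27 := by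
  rw [Nat.card_eq_fintype_card]; decide +kernel

theorem high_add {x y : W} (hx : x.code.val % 64 = 0) (hy : y.code.val % 64 = 0) : (x + y).code.val % 64 = 0 := by
  rw [W.add_code, show (64 : ℕ) = 2 ^ 6 by norm_num, ← Nat.and_two_pow_sub_one_eq_mod, Nat.and_xor_distrib_right,
    Nat.and_two_pow_sub_one_eq_mod, Nat.and_two_pow_sub_one_eq_mod, show (2 : ℕ) ^ 6 = 64 by norm_num, hx, hy]
  rfl

theorem low_add {x y : W} (hx : x.code.val < 64) (hy : y.code.val < 64) : (x + y).code.val < 64 := by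
  rw [W.add_code]; exact Nat.xor_lt_two_pow (n := 6) hx hy

theorem hom_card {A B : Type*} [Group A] [Group B] [Finite A] (f : A →* B) :
    Nat.card A = Nat.card f.range * Nat.card f.ker := by
  rw [f.ker.card_eq_card_quotient_mul_card_subgroup, Nat.card_congr (QuotientGroup.quotientKerEquivRange f).toEquiv]

variable {G : Type u} [Group G] [Finite G] {z : G} {Q : Subgroup G} {S : Ctx z Q}

namespace Ctx.Minus

variable (M : S.Minus)
include M

theorem e_one : M.e 1 = 0 := by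
  have h := M.add 1 1
  rw [one_mul] at h
  exact left_eq_add.1 h

theorem e_eq_zero {v : Vq Q} : M.e v = 0 ↔ v = 1 := by rw [← M.e_one, M.e.apply_eq_iff_eq]

/-- The part of `Q` over the fixed plane. -/
def D : Subgroup G where
  carrier := {q | q ∈ Q ∧ (M.e (S.vec q)).code.val % 64 = 0}
  one_mem' := ⟨one_mem _, by rw [S.vec_one, M.e_one]; rfl⟩
  mul_mem' := fun {a b} ha hb => ⟨mul_mem ha.1 hb.1, by rw [S.vec_mul ha.1 hb.1, M.add]; exact high_add ha.2 hb.2⟩
  inv_mem' := fun {a} ha => ⟨inv_mem ha.1, by rw [S.vec_inv ha.1, S.v_inv]; exact ha.2⟩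

/-- The first generator of the fixed plane. -/
noncomputable def a0 : G := S.rep (M.e.symm (mk' 64))

/-- The second generator of the fixed plane. -/
noncomputable def b0 : G := S.rep (M.e.symm (mk' 128))

theorem e_a0 : M.e (S.vec M.a0) = mk' 64 := by rw [a0, S.vec_rep, Equiv.apply_symm_apply]

theorem e_b0 : M.e (S.vec M.b0) = mk' 128 := by rw [b0, S.vec_rep, Equiv.apply_symm_apply]

theorem a0_mem : M.a0 ∈ M.D := ⟨S.rep_mem _, by rw [M.e_a0]; rfl⟩

theorem b0_mem : M.b0 ∈ M.D := ⟨S.rep_mem _, by rw [M.e_b0]; rfl⟩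

theorem ab0 : M.a0 * M.b0 * M.a0⁻¹ * M.b0⁻¹ = z := by
  rcases S.extra.conj_cases M.a0_mem.1 M.b0_mem.1 with e | e
  · refine absurd (mul_inv_eq_iff_eq_mul.1 e) ((S.skew_vec M.a0_mem.1 M.b0_mem.1).1 ((M.skew _ _).2 ?_))
    rw [M.e_a0, M.e_b0]
    exact top_check.2
  · rw [e, mul_inv_cancel_right]

theorem sign (c : centralizer ({z} : Set G)) {d : G} (hd : d ∈ M.D) :
    (c : G) * d * (c : G)⁻¹ = d ∨ (c : G) * d * (c : G)⁻¹ = z * d := by
  refine (S.vec_eq (S.conj_mem c hd.1) hd.1).1 ?_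
  rw [← S.act_vec c hd.1, M.fix _ hd.2]

/-- Commutators in the centraliser centralise the part over the fixed plane. -/
theorem comm_fix (a b : centralizer ({z} : Set G)) {d : G} (hd : d ∈ M.D) :
    (a : G) * b * (a : G)⁻¹ * (b : G)⁻¹ * d = d * ((a : G) * b * (a : G)⁻¹ * (b : G)⁻¹) := by
  have ha := M.sign a hd
  have hb := M.sign b hd
  have az : (a : G) * z = z * a := S.mem_H.1 a.2
  have bz : (b : G) * z = z * b := S.mem_H.1 b.2
  have e : (a : G) * b * d * ((a : G) * b)⁻¹ = (b : G) * a * d * ((b : G) * a)⁻¹ := by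
    have l : (a : G) * b * d * ((a : G) * b)⁻¹ = (a : G) * ((b : G) * d * (b : G)⁻¹) * (a : G)⁻¹ := by group
    have r : (b : G) * a * d * ((b : G) * a)⁻¹ = (b : G) * ((a : G) * d * (a : G)⁻¹) * (b : G)⁻¹ := by group
    have ca : ∀ w, (a : G) * (z * w) * (a : G)⁻¹ = z * ((a : G) * w * (a : G)⁻¹) := fun w => by
      rw [← mul_assoc (a : G), az]; group
    have cb : ∀ w, (b : G) * (z * w) * (b : G)⁻¹ = z * ((b : G) * w * (b : G)⁻¹) := fun w => by
      rw [← mul_assoc (b : G), bz]; group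
    rw [l, r]
    rcases ha with ha | ha <;> rcases hb with hb | hb <;> simp only [ha, hb, ca, cb]
  rw [← mul_inv_eq_iff_eq_mul]
  have e' : ∀ w, ((b : G) * a) * w * ((b : G) * a)⁻¹ = (a : G) * b * d * ((a : G) * b)⁻¹ → w = d := fun w hw =>
    mul_left_cancel (mul_right_cancel (hw.trans e))
  calc (a : G) * b * (a : G)⁻¹ * (b : G)⁻¹ * d * ((a : G) * b * (a : G)⁻¹ * (b : G)⁻¹)⁻¹
      = (a : G) * b * (((b : G) * a)⁻¹ * d * ((b : G) * a)) * ((a : G) * b)⁻¹ := by group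
    _ = (b : G) * a * (((b : G) * a)⁻¹ * d * ((b : G) * a)) * ((b : G) * a)⁻¹ := by
      have hd' : ((b : G) * a)⁻¹ * d * ((b : G) * a) = d ∨ ((b : G) * a)⁻¹ * d * ((b : G) * a) = z * d := by
        simpa using M.sign (b * a)⁻¹ hd
      rcases hd' with h | h <;> rw [h]
      · exact e
      · calc (a : G) * b * (z * d) * ((a : G) * b)⁻¹ = ((a : G) * b * z) * d * ((a : G) * b)⁻¹ := by group
          _ = z * ((a : G) * b * d * ((a : G) * b)⁻¹) := by rw [show (a : G) * b * z = z * ((a : G) * b) from S.mem_H.1 (a * b).2]; group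
          _ = z * ((b : G) * a * d * ((b : G) * a)⁻¹) := by rw [e]
          _ = ((b : G) * a * z) * d * ((b : G) * a)⁻¹ := by rw [show (b : G) * a * z = z * ((b : G) * a) from S.mem_H.1 (b * a).2]; group
          _ = (b : G) * a * (z * d) * ((b : G) * a)⁻¹ := by group
    _ = d := by group

theorem low_of_perp {v : Vq Q} (h : ∀ d ∈ M.D, ¬ S.Skew v (S.vec d)) : (M.e v).code.val < 64 := by
  have k := of_all1 top_check.1 (M.e v)
  have h1 := (M.skew v (S.vec M.a0)).not.1 (h _ M.a0_mem)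
  have h2 := (M.skew v (S.vec M.b0)).not.1 (h _ M.b0_mem)
  rw [M.e_a0, Bool.not_eq_true] at h1
  rw [M.e_b0, Bool.not_eq_true] at h2
  simpa [h1, h2] using k

theorem act_low (a : Cfsg.PSp 2 (ZMod 3)) {v : Vq Q} (hv : (M.e v).code.val < 64) :
    (M.e (S.act a v)).code.val < 64 := by
  refine M.low_of_perp fun d hd => ?_
  rw [← M.fix _ hd.2 a, S.skew_act, M.skew]
  have h0 : ∀ w u : W, w.code.val < 64 → u.code.val % 64 = 0 → bt w u = false := by
    intro w u hw hu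
    have : all1 (fun w => all1 fun u => !(decide (w.code.val < 64)) || !(decide (u.code.val % 64 = 0)) || !(bt w u)) = true := by
      decide +kernel
    have k := of_all1 (of_all1 this w) u
    simpa [hw, hu] using k
  rw [h0 _ _ hv hd.2]
  exact Bool.false_ne_true

/-- A square fixes at least sixty-four vectors. -/
theorem fix_card {y : Cfsg.PSp 2 (ZMod 3)} (hy : y * y = 1) (h1 : y ≠ 1) :
    64 ≤ Nat.card {v : Vq Q // S.act y v = v} := by
  obtain ⟨g, hg⟩ := exists_root hy h1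
  let V1 : Subgroup (Vq Q) :=
    { carrier := {v | (M.e v).code.val < 64}
      one_mem' := by show (M.e 1).code.val < 64; rw [M.e_one]; decide
      mul_mem' := fun {a b} ha hb => by show (M.e (a * b)).code.val < 64; rw [M.add]; exact low_add ha hb
      inv_mem' := fun {a} ha => by show (M.e a⁻¹).code.val < 64; rw [S.v_inv]; exact ha }
  have hV1 : Nat.card V1 = 64 := by
    rw [← card_low]
    exact Nat.card_congr (M.e.subtypeEquiv fun v => Iff.rfl)
  let φ : V1 →* V1 := MonoidHom.mk' (fun v => ⟨S.act g v.1 * v.1, mul_mem (M.act_low g v.2) v.2⟩) fun a b =>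
    Subtype.ext (by
      show S.act g (a.1 * b.1) * (a.1 * b.1) = S.act g a.1 * a.1 * (S.act g b.1 * b.1)
      rw [S.act_hom, mul_assoc, ← mul_assoc (S.act g b.1) a.1, S.v_comm (S.act g b.1) a.1]
      group)
  let ψ : V1 →* V1 := φ.comp φ
  have hψ : ∀ v : V1, (ψ v : Vq Q) = S.act y v.1 * v.1 := fun v => by
    show S.act g (S.act g v.1 * v.1) * (S.act g v.1 * v.1) = _
    rw [S.act_hom, ← S.act_mul, hg, mul_assoc, ← mul_assoc (S.act g v.1), S.v_sq, one_mul]
  have hle : ψ.range ≤ ψ.ker := by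
    rintro _ ⟨v, rfl⟩
    refine MonoidHom.mem_ker.2 (Subtype.ext ?_)
    rw [hψ, hψ, S.act_hom, S.act_sq hy, S.v_comm v.1 (S.act y v.1), S.v_sq]
    rfl
  have hsplit := hom_card ψ
  have h16 : 16 ≤ Nat.card ψ.ker := by
    by_contra hlt
    rw [hV1] at hsplit
    have hr := Subgroup.card_le_of_le hle
    obtain ⟨n, hn, en⟩ := (Nat.dvd_prime_pow Nat.prime_two).1
      (show Nat.card ψ.ker ∣ 2 ^ 6 from Dvd.intro_left _ hsplit.symm)
    have h64 : 64 ≤ Nat.card ψ.ker * Nat.card ψ.ker := le_trans (le_of_eq hsplit) (Nat.mul_le_mul_right _ hr)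
    have hn3 : n = 3 := by
      rw [en] at h64 hlt
      interval_cases n <;> omega
    subst hn3
    have hk : Nat.card ψ.ker = 8 := en
    have hR : Nat.card ψ.range = 8 := by rw [hk] at hsplit; omega
    have heq : ψ.range = ψ.ker := Subgroup.eq_of_le_of_card_ge hle (by rw [hk, hR])
    have hker : φ.ker ≤ φ.range := by
      intro v hv
      have : v ∈ ψ.ker := MonoidHom.mem_ker.2 (by
        show φ (φ v) = 1
        rw [MonoidHom.mem_ker.1 hv, map_one])
      obtain ⟨w, hw⟩ := (heq ▸ this : v ∈ ψ.range)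
      exact ⟨φ w, hw⟩
    let φ' : φ.range →* V1 := φ.comp φ.range.subtype
    have hr' : φ'.range = ψ.range := by
      ext w
      constructor
      · rintro ⟨⟨_, v, rfl⟩, rfl⟩; exact ⟨v, rfl⟩
      · rintro ⟨v, rfl⟩; exact ⟨⟨_, v, rfl⟩, rfl⟩
    have hk' : Nat.card φ'.ker = Nat.card φ.ker :=
      Nat.card_congr ⟨fun v => ⟨v.1.1, MonoidHom.mem_ker.2 (MonoidHom.mem_ker.1 v.2 : φ' v.1 = 1)⟩,
        fun v => ⟨⟨v.1, hker v.2⟩, MonoidHom.mem_ker.2 (MonoidHom.mem_ker.1 v.2 : φ v.1 = 1)⟩,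
        fun _ => rfl, fun _ => rfl⟩
    have h3 := hom_card φ'
    rw [hr', hR, hk'] at h3
    have h4 := hom_card φ
    rw [hV1, h3] at h4
    have : Nat.card φ.ker ≤ 8 := by
      by_contra hh
      have : 9 * 9 ≤ Nat.card φ.ker * Nat.card φ.ker := Nat.mul_le_mul (by omega) (by omega)
      rw [mul_assoc] at h4
      omega
    interval_cases Nat.card φ.ker <;> omega
  have hf : Nat.card ψ.ker * Nat.card {w : W // w.code.val % 64 = 0} ≤ Nat.card {v : Vq Q // S.act y v = v} := by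
    rw [← Nat.card_prod]
    refine Nat.card_le_card_of_injective (fun x => ⟨x.1.1.1 * M.e.symm x.2.1, ?_⟩) ?_
    · have h2 : S.act y x.1.1.1 = x.1.1.1 := by
        have h3 := congrArg Subtype.val (MonoidHom.mem_ker.1 x.1.2)
        rw [hψ, Subgroup.coe_one, mul_eq_one_iff_eq_inv, S.v_inv] at h3
        exact h3
      rw [S.act_hom, h2, M.fix _ (by rw [Equiv.apply_symm_apply]; exact x.2.2)]
    · rintro ⟨⟨⟨v, hv⟩, hvk⟩, w, hw⟩ ⟨⟨⟨v', hv'⟩, hvk'⟩, w', hw'⟩ e
      have e2 := congrArg M.e (congrArg Subtype.val e : v * M.e.symm w = v' * M.e.symm w')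
      rw [M.add, M.add, Equiv.apply_symm_apply, Equiv.apply_symm_apply] at e2
      have key : ∀ a b c d : W, a.code.val < 64 → c.code.val < 64 → b.code.val % 64 = 0 → d.code.val % 64 = 0 →
          a + b = c + d → a = c ∧ b = d := by
        intro a b c d ha hc hb hd h
        have h1 : a + c = b + d := by
          calc a + c = a + b + (b + c) := by rw [add_assoc, W.add_cancel]
            _ = c + d + (b + c) := by rw [h]
            _ = b + d + (c + c) := by abel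
            _ = b + d := by rw [W.add_self, add_zero]
        have h2 := low_add ha hc
        have h3 := high_add hb hd
        rw [← h1] at h3
        have h4 : (a + c).code.val = 0 := by omega
        have h5 : a + c = 0 := W.ext' h4
        exact ⟨W.add_eq_zero'.1 h5, W.add_eq_zero'.1 (h1 ▸ h5)⟩
      obtain ⟨ev, ew⟩ := key _ _ _ _ hv hv' hw hw' e2
      have ev' := M.e.injective ev
      subst ev'
      subst ew
      rfl
  rw [card_high] at hf
  omega

/-- The centraliser in `Q` of a conjugate in the centraliser is not abelian. -/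
theorem exists_noncomm {g : G} (hm : g * z * g⁻¹ * z = z * (g * z * g⁻¹)) (hne : g * z * g⁻¹ ≠ z) :
    ∃ a ∈ Q, ∃ b ∈ Q, a * (g * z * g⁻¹) = g * z * g⁻¹ * a ∧ b * (g * z * g⁻¹) = g * z * g⁻¹ * b ∧
      a * b * a⁻¹ * b⁻¹ = z := by
  set x := g * z * g⁻¹ with hxd
  suffices h : ¬ ∀ a ∈ Q ⊓ centralizer ({x} : Set G), ∀ b ∈ Q ⊓ centralizer ({x} : Set G), a * b = b * a by
    push Not at h
    obtain ⟨a, ha, b, hb, hab⟩ := h
    obtain ⟨haQ, hax⟩ := S.mem_inter.1 ha
    obtain ⟨hbQ, hbx⟩ := S.mem_inter.1 hb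
    refine ⟨a, haQ, b, hbQ, hax, hbx, ?_⟩
    rcases S.extra.conj_cases haQ hbQ with e | e
    · exact absurd (mul_inv_eq_iff_eq_mul.1 e) hab
    · rw [e, mul_inv_cancel_right]
  intro hab
  by_cases hx : x ∈ Q
  · have hx1 : x ≠ 1 := by simp [hxd, S.ne]
    obtain ⟨y, hy, hys⟩ := S.extra.exists_conj_eq hx hx1 hne
    have hsub : (↑(Q ⊓ centralizer ({x} : Set G)) : Set G) ⊆ {1, z, x⁻¹, z * x⁻¹} := fun w hw => by
      have hw' := S.mem_inter.1 hw
      simpa using S.extra.double_centralizer hx hy hys hw'.1 fun a ha hax =>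
        hab a (S.mem_inter.2 ⟨ha, hax⟩) w hw
    have h4 : ({1, z, x⁻¹, z * x⁻¹} : Set G).ncard ≤ 4 := by
      refine (Set.ncard_insert_le _ _).trans (Nat.succ_le_succ ?_)
      refine (Set.ncard_insert_le _ _).trans (Nat.succ_le_succ ?_)
      exact (Set.ncard_insert_le _ _).trans (by simp)
    have h := (Set.ncard_le_ncard hsub (Set.toFinite _)).trans h4
    have h256 := S.half_card hx hx1 hne
    have e : Nat.card ↥(Q ⊓ centralizer ({x} : Set G)) = (↑(Q ⊓ centralizer ({x} : Set G)) : Set G).ncard := rfl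
    omega
  · let O : S.Out := ⟨g, hm, hx⟩
    have h64 : 64 ≤ Nat.card O.C := O.card_C (M.fix_card O.tau_sq O.tau_ne)
    have : Fact (Nat.Prime 2) := ⟨Nat.prime_two⟩
    have hle : O.C ≤ Q := inf_le_left
    have h := CfsgLib.PGroup.extraspecial_abelian_card S.extra.extra (O.C.subgroupOf Q)
      (isMulCommutative_iff.2 fun a b => Subtype.ext (Subtype.ext (hab _ a.2 _ b.2)))
    rw [Nat.card_congr (Subgroup.subgroupOfEquivOfLe hle).toEquiv, S.card] at h
    have := Nat.mul_le_mul h64 h64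
    omega

theorem comm_D {g : G} (hm : g * z * g⁻¹ * z = z * (g * z * g⁻¹)) (hne : g * z * g⁻¹ ≠ z) {d : G} (hd : d ∈ M.D) :
    g * z * g⁻¹ * d = d * (g * z * g⁻¹) := by
  obtain ⟨a, ha, b, hb, hax, hbx, hab⟩ := M.exists_noncomm (g := g⁻¹) (by
    calc g⁻¹ * z * g⁻¹⁻¹ * z = g⁻¹ * (z * (g * z * g⁻¹)) * g := by group
      _ = g⁻¹ * (g * z * g⁻¹ * z) * g := by rw [hm]
      _ = z * (g⁻¹ * z * g⁻¹⁻¹) := by group) (fun e => hne (by
    calc g * z * g⁻¹ = g * (g⁻¹ * z * g⁻¹⁻¹) * g⁻¹ := by rw [e]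
      _ = z := by group))
  have key : ∀ {a : G}, a * (g⁻¹ * z * g⁻¹⁻¹) = g⁻¹ * z * g⁻¹⁻¹ * a →
      g * a * g⁻¹ ∈ centralizer ({z} : Set G) := fun {a} h => by
    refine S.mem_H.2 ?_
    calc g * a * g⁻¹ * z = g * (a * (g⁻¹ * z * g⁻¹⁻¹)) * g⁻¹ := by group
      _ = g * (g⁻¹ * z * g⁻¹⁻¹ * a) * g⁻¹ := by rw [h]
      _ = z * (g * a * g⁻¹) := by group
  have e : g * z * g⁻¹ = g * a * g⁻¹ * (g * b * g⁻¹) * (g * a * g⁻¹)⁻¹ * (g * b * g⁻¹)⁻¹ := by
    rw [← hab]; group
  rw [e]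
  exact M.comm_fix ⟨_, key hax⟩ ⟨_, key hbx⟩ hd

theorem conj_sign {g a d : G} (ha : a * (g * z * g⁻¹) = g * z * g⁻¹ * a) (hd : d ∈ M.D) :
    a * (g * d * g⁻¹) * a⁻¹ = g * d * g⁻¹ ∨ a * (g * d * g⁻¹) * a⁻¹ = g * z * g⁻¹ * (g * d * g⁻¹) := by
  have hc : g⁻¹ * a * g ∈ centralizer ({z} : Set G) := S.mem_H.2 (by
    calc g⁻¹ * a * g * z = g⁻¹ * (a * (g * z * g⁻¹)) * g := by group
      _ = g⁻¹ * (g * z * g⁻¹ * a) * g := by rw [ha]
      _ = z * (g⁻¹ * a * g) := by group)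
  rcases M.sign ⟨_, hc⟩ hd with e | e <;> simp only at e
  · left
    calc a * (g * d * g⁻¹) * a⁻¹ = g * (g⁻¹ * a * g * d * (g⁻¹ * a * g)⁻¹) * g⁻¹ := by group
      _ = g * d * g⁻¹ := by rw [e]
  · right
    calc a * (g * d * g⁻¹) * a⁻¹ = g * (g⁻¹ * a * g * d * (g⁻¹ * a * g)⁻¹) * g⁻¹ := by group
      _ = g * z * g⁻¹ * (g * d * g⁻¹) := by rw [e]; group

theorem Dc_le {g : G} (hm : g * z * g⁻¹ * z = z * (g * z * g⁻¹)) (hne : g * z * g⁻¹ ≠ z) {d : G} (hd : d ∈ M.D) :
    g * d * g⁻¹ ∈ centralizer ({z} : Set G) := by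
  have h := M.comm_D (g := g⁻¹) (d := d) (by
    calc g⁻¹ * z * g⁻¹⁻¹ * z = g⁻¹ * (z * (g * z * g⁻¹)) * g := by group
      _ = g⁻¹ * (g * z * g⁻¹ * z) * g := by rw [hm]
      _ = z * (g⁻¹ * z * g⁻¹⁻¹) := by group) (fun e => hne (by
    calc g * z * g⁻¹ = g * (g⁻¹ * z * g⁻¹⁻¹) * g⁻¹ := by rw [e]
      _ = z := by group)) hd
  refine S.mem_H.2 ?_
  calc g * d * g⁻¹ * z = g * (d * (g⁻¹ * z * g⁻¹⁻¹)) * g⁻¹ := by group
    _ = g * (g⁻¹ * z * g⁻¹⁻¹ * d) * g⁻¹ := by rw [h]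
    _ = z * (g * d * g⁻¹) := by group

theorem noFusion : NoFusion z Q := by
  intro g hx
  by_contra hne
  set x := g * z * g⁻¹ with hxd
  have hx1 : x ≠ 1 := by simp [hxd, S.ne]
  have hm : x * z = z * x := S.extra.comm_z hx
  have hπx : S.π ⟨x, S.mem_H.2 hm⟩ = 1 := (S.π_ker _).2 hx
  -- an involution of the quotient from the conjugate of the plane part
  obtain ⟨d, hd, hj1⟩ : ∃ d, ∃ hd : d ∈ M.D, S.π ⟨g * d * g⁻¹, M.Dc_le hm hne hd⟩ ≠ 1 := by
    by_contra hn
    push Not at hn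
    have ha := (S.π_ker _).1 (hn _ M.a0_mem)
    have hb := (S.π_ker _).1 (hn _ M.b0_mem)
    rcases S.extra.conj_cases ha hb with e | e
    · apply hx1
      rw [hxd, ← M.ab0]
      calc g * (M.a0 * M.b0 * M.a0⁻¹ * M.b0⁻¹) * g⁻¹
          = g * M.a0 * g⁻¹ * (g * M.b0 * g⁻¹) * (g * M.a0 * g⁻¹)⁻¹ * (g * M.b0 * g⁻¹)⁻¹ := by group
        _ = 1 := by rw [e, mul_inv_cancel]
    · apply hne
      rw [hxd, ← M.ab0]
      calc g * (M.a0 * M.b0 * M.a0⁻¹ * M.b0⁻¹) * g⁻¹
          = g * M.a0 * g⁻¹ * (g * M.b0 * g⁻¹) * (g * M.a0 * g⁻¹)⁻¹ * (g * M.b0 * g⁻¹)⁻¹ := by group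
        _ = z := by rw [e, mul_inv_cancel_right]
        _ = M.a0 * M.b0 * M.a0⁻¹ * M.b0⁻¹ := M.ab0.symm
  set J : centralizer ({z} : Set G) := ⟨g * d * g⁻¹, M.Dc_le hm hne hd⟩
  have hyy : S.π J * S.π J = 1 := by
    rw [← map_mul]
    refine (S.π_ker _).2 ?_
    show g * d * g⁻¹ * (g * d * g⁻¹) ∈ Q
    rcases S.extra.sq_cases hd.1 with e | e
    · rw [show g * d * g⁻¹ * (g * d * g⁻¹) = g * (d * d) * g⁻¹ by group, e, mul_one, mul_inv_cancel]; exact one_mem _
    · rw [show g * d * g⁻¹ * (g * d * g⁻¹) = g * (d * d) * g⁻¹ by group, e]; exact hx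
  -- the stabiliser of the vector centralises it
  have hstab : ∀ a, S.act a (S.vec x) = S.vec x → a * S.π J = S.π J * a := by
    intro a ha
    obtain ⟨c, rfl⟩ := S.π_surj a
    rw [S.act_vec c hx] at ha
    obtain ⟨e, he, hex⟩ : ∃ e : centralizer ({z} : Set G), S.π e = S.π c ∧ (e : G) * x = x * (e : G) := by
      rcases (S.vec_eq (S.conj_mem c hx) hx).1 ha with k | k
      · exact ⟨c, rfl, mul_inv_eq_iff_eq_mul.1 k⟩
      · obtain ⟨q, hq, hqx⟩ := S.extra.exists_conj_eq hx hx1 hne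
        refine ⟨⟨q, S.le hq⟩ * c, ?_, ?_⟩
        · rw [map_mul, (S.π_ker ⟨q, S.le hq⟩).2 hq, one_mul]
        · rw [← mul_inv_eq_iff_eq_mul]
          calc q * (c : G) * x * (q * (c : G))⁻¹ = q * ((c : G) * x * (c : G)⁻¹) * q⁻¹ := by group
            _ = (q * z) * x * q⁻¹ := by rw [k]; group
            _ = (z * q) * x * q⁻¹ := by rw [S.extra.comm_z hq]
            _ = z * (q * x * q⁻¹) := by group
            _ = x := by rw [hqx, ← mul_assoc, S.zz, one_mul]
    rw [← he, ← mul_inv_eq_iff_eq_mul, ← map_inv, ← map_mul, ← map_mul]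
    rcases M.conj_sign hex hd with k | k
    · exact congrArg S.π (Subtype.ext k)
    · rw [show e * J * e⁻¹ = ⟨x, S.mem_H.2 hm⟩ * J from Subtype.ext k, map_mul, hπx, one_mul]
  obtain ⟨f, hf⟩ := many_conj hyy hj1
  have hinj : Function.Injective fun i => (⟨M.e (S.act (f i) (S.vec x)), M.act_low _ (M.low_of_perp fun d hd => by
      rw [S.skew_vec hx hd.1, not_not]; exact M.comm_D hm hne hd), by
      have h4 : ¬ S.Four (S.act (f i) (S.vec x)) := by
        rw [S.four_act, S.four_vec hx, not_not]; exact (S.conj g).zz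
      refine Bool.eq_false_iff.2 fun h => h4 ((M.four _ (M.act_low _ (M.low_of_perp fun d hd => by
        rw [S.skew_vec hx hd.1, not_not]; exact M.comm_D hm hne hd))).2 h), fun h => by
      rw [M.e_eq_zero, ← S.act_unit (f i)] at h
      rcases (S.vec_eq_one hx).1 (S.act_inj _ h) with k | k
      exacts [hx1 k, hne k]⟩ : {w : W // w.code.val < 64 ∧ qW w = false ∧ w ≠ 0}) := by
    intro i j e
    apply hf
    have e1 := M.e.injective (congrArg Subtype.val e)
    have h := hstab ((f j)⁻¹ * f i) (by rw [S.act_mul, e1, S.act_inv_cancel])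
    show f i * S.π J * (f i)⁻¹ = f j * S.π J * (f j)⁻¹
    calc f i * S.π J * (f i)⁻¹ = f j * ((f j)⁻¹ * f i * S.π J) * (f i)⁻¹ := by group
      _ = f j * (S.π J * ((f j)⁻¹ * f i)) * (f i)⁻¹ := by rw [h]
      _ = f j * S.π J * (f j)⁻¹ := by group
  have := Nat.card_le_card_of_injective _ hinj
  rw [Nat.card_fin, card_singular] at this
  omega

theorem out_false (O : S.Out) : False := by
  have hne : O.g * z * O.g⁻¹ ≠ z := fun e => O.notQ (by rw [e]; exact S.zQ)
  have hF := M.noFusion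
  have hτ := O.tau_sq
  -- conjugated plane elements centralise the centraliser in `Q`
  have hcent : ∀ d (hd : d ∈ M.D), ∀ q ∈ O.C,
      S.act (S.π ⟨O.g * d * O.g⁻¹, M.Dc_le O.comm hne hd⟩) (S.vec q) = S.vec q := by
    intro d hd q hq
    obtain ⟨hqQ, hqx⟩ := O.mem_C.1 hq
    rw [S.act_vec _ hqQ]
    refine congrArg _ ?_
    show O.g * d * O.g⁻¹ * q * (O.g * d * O.g⁻¹)⁻¹ = q
    rcases M.conj_sign (g := O.g) hqx hd with e | e
    · rw [mul_inv_eq_iff_eq_mul] at e ⊢; exact e.symm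
    · refine absurd ?_ O.notQ
      have h : q * (O.g * d * O.g⁻¹ * q⁻¹ * (O.g * d * O.g⁻¹)⁻¹) ∈ Q :=
        mul_mem hqQ (S.conj_mem ⟨_, M.Dc_le O.comm hne hd⟩ (inv_mem hqQ))
      rwa [← mul_assoc, show q * (O.g * d * O.g⁻¹ * q⁻¹) = q * (O.g * d * O.g⁻¹) * q⁻¹ by group, e,
        mul_inv_cancel_right] at h
  obtain ⟨u, hu⟩ : ∃ u, S.Four (S.act (S.π O.X) u * u) := by
    by_contra hsing
    push Not at hsing
    have hR : ∀ w, ∃ q ∈ O.C, S.vec q = S.act (S.π O.X) w * w := fun w => by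
      obtain ⟨q, hq, e⟩ := S.surj (S.act (S.π O.X) w * w)
      exact ⟨q, O.commV hq e.symm (not_not.1 ((S.four_vec hq).not.1 (e ▸ hsing w))), e⟩
    have hbar : ∀ m, (∀ q ∈ O.C, ¬ S.Skew m (S.vec q)) → ∃ q ∈ O.C, S.vec q = m := by
      intro m hm
      have hfix : S.act (S.π O.X) m = m := by
        refine mul_inv_eq_one.1 ?_
        rw [S.v_inv]
        refine S.nondeg fun w hw => ?_
        obtain ⟨q, hq, e⟩ := hR w
        refine hm q hq ?_
        rw [e, S.skew_mul']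
        rw [S.skew_mul] at hw
        have e' : S.Skew (S.act (S.π O.X) m) w ↔ S.Skew m (S.act (S.π O.X) w) := by
          rw [← S.skew_act (S.π O.X), S.act_sq hτ]
        rw [e'] at hw
        exact hw
      obtain ⟨q, hq, rfl⟩ := S.surj m
      by_cases hqx : q * O.x = O.x * q
      · exact ⟨q, O.mem_C.2 ⟨hq, hqx⟩, rfl⟩
      obtain ⟨w, hw⟩ := S.perp_fix hτ (m := S.vec q) fun v hv => by
        obtain ⟨q', hq', rfl⟩ := S.surj v
        rcases O.splitV hq hfix hqx hq' hv with h | h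
        · exact hm q' h
        · have h1 := hm _ h
          rw [S.vec_mul (inv_mem hq) hq', S.vec_inv hq, S.v_inv, S.skew_mul'] at h1
          have h2 := not_not.1 h1
          exact fun k => S.not_skew_self _ (h2.2 k)
      obtain ⟨q2, hq2, e⟩ := hR w
      exact ⟨q2, hq2, e.trans hw⟩
    set J1 : centralizer ({z} : Set G) := ⟨O.g * M.a0 * O.g⁻¹, M.Dc_le O.comm hne M.a0_mem⟩
    set J2 : centralizer ({z} : Set G) := ⟨O.g * M.b0 * O.g⁻¹, M.Dc_le O.comm hne M.b0_mem⟩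
    have hlam : ∀ J : centralizer ({z} : Set G), (∀ q ∈ O.C, S.act (S.π J) (S.vec q) = S.vec q) →
        ∀ v, ∃ q ∈ O.C, S.vec q = S.act (S.π J) v * v := by
      intro J hJ v
      refine hbar _ fun q hq => ?_
      rw [S.skew_mul, not_not]
      conv_rhs => rw [← S.skew_act (S.π J), hJ q hq]
    have hc1 : ∀ q ∈ O.C, S.act (S.π J1) (S.vec q) = S.vec q := hcent _ M.a0_mem
    have hc2 : ∀ q ∈ O.C, S.act (S.π J2) (S.vec q) = S.vec q := hcent _ M.b0_mem
    have hcomm : S.π (J1 * J2 * J1⁻¹ * J2⁻¹) = 1 := by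
      have h : S.π J1 * S.π J2 = S.π J2 * S.π J1 := by
        rw [← inv_mul_eq_one]
        refine S.faithful fun v => ?_
        apply S.act_inj (S.π J1 * S.π J2)
        rw [← S.act_mul, mul_inv_cancel_left]
        obtain ⟨q1, h1, e1⟩ := hlam J1 hc1 v
        obtain ⟨q2, h2, e2⟩ := hlam J2 hc2 v
        have a1 : S.act (S.π J1) v = v * S.vec q1 := by rw [e1, S.v_comm, mul_assoc, S.v_sq, mul_one]
        have a2 : S.act (S.π J2) v = v * S.vec q2 := by rw [e2, S.v_comm, mul_assoc, S.v_sq, mul_one]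
        rw [S.act_mul, S.act_mul, a1, a2, S.act_hom, S.act_hom, hc2 q1 h1, hc1 q2 h2, a1, a2, mul_assoc, mul_assoc,
          S.v_comm (S.vec q2)]
      rw [map_mul, map_mul, map_mul, map_inv, map_inv, h, mul_inv_cancel_right, mul_inv_cancel]
    have hQ := (S.π_ker _).1 hcomm
    apply O.notQ
    have e : O.g * (M.a0 * M.b0 * M.a0⁻¹ * M.b0⁻¹) * O.g⁻¹ = O.g * z * O.g⁻¹ := congrArg (fun t => O.g * t * O.g⁻¹) M.ab0
    rw [← e, show O.g * (M.a0 * M.b0 * M.a0⁻¹ * M.b0⁻¹) * O.g⁻¹ =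
      ((J1 * J2 * J1⁻¹ * J2⁻¹ : centralizer ({z} : Set G)) : G) by
      simp only [J1, J2, Subgroup.coe_mul, InvMemClass.coe_inv]; group]
    exact hQ
  obtain ⟨p, hp, rfl⟩ := S.surj u
  obtain ⟨e0, he0, e0v⟩ := S.surj (S.act (S.π O.X) (S.vec p) * S.vec p)
  have he0f : S.act (S.π O.X) (S.vec e0) = S.vec e0 := by rw [e0v, S.act_hom, S.act_sq hτ, S.v_comm]
  have he0x : e0 * O.x ≠ O.x * e0 := by
    intro h
    rw [← e0v, S.four_vec he0] at hu
    apply hu
    have key : ∀ q ∈ Q, p * O.x * p⁻¹ = O.x * q → q * O.x = O.x * q → q * q = 1 := fun q hq e k => by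
      have h2 : O.x * q * (O.x * q) = 1 := by
        rw [← e, show p * O.x * p⁻¹ * (p * O.x * p⁻¹) = p * (O.x * O.x) * p⁻¹ by group, O.xx, mul_one, mul_inv_cancel]
      rw [show O.x * q * (O.x * q) = O.x * (q * O.x) * q by group, k, ← mul_assoc, O.xx, one_mul] at h2
      exact h2
    rcases O.reachV hp he0 e0v.symm with e | e
    · exact key e0 he0 e h
    · have := key (z * e0) (mul_mem S.zQ he0) e (by rw [mul_assoc, h, ← mul_assoc, O.zx, mul_assoc])
      rwa [show z * e0 * (z * e0) = z * (e0 * z) * e0 by group, S.extra.comm_z he0,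
        show z * (z * e0) * e0 = z * z * (e0 * e0) by group, S.zz, one_mul] at this
  have hxz : IsConj z (O.x * z) :=
    (isConj_iff.2 ⟨O.g, rfl⟩ : IsConj z O.x).trans (isConj_iff.2 ⟨e0, O.flip he0 he0f he0x⟩)
  have hC : 64 ≤ Nat.card O.C := O.card_C (M.fix_card hτ O.tau_ne)
  obtain ⟨k, hk, hk1⟩ : ∃ k ∈ O.K, k ≠ 1 := by
    by_contra hn
    push Not at hn
    let T := S.conj O.g
    have e := T.card_split O.C_le
    have hK : Nat.card ↥(O.C ⊓ Qc Q O.g) ≤ 1 := by
      rw [show O.C ⊓ Qc Q O.g = ⊥ from eq_bot_iff.2 fun k hk => hn k hk]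
      simp
    have h64 : 64 ≤ Nat.card (T.proj O.C_le).range := by
      by_contra hlt
      have := Nat.mul_le_mul hK (show Nat.card (T.proj O.C_le).range ≤ 63 by omega)
      omega
    obtain ⟨a, ⟨a', ha⟩, b, ⟨b', hb⟩, hne1, hnew⟩ := two_commutators (T.proj_range_pgroup O.C_le
      (S.pgroup.to_le inf_le_left)) h64 (w := T.proj O.C_le ⟨z, O.z_mem_C⟩)
    rw [← ha, ← hb, ← map_inv, ← map_inv, ← map_mul, ← map_mul, ← map_mul] at hne1 hnew
    rcases S.extra.conj_cases (O.mem_C.1 a'.2).1 (O.mem_C.1 b'.2).1 with h | h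
    · exact hne1 (by
        rw [show a' * b' * a'⁻¹ * b'⁻¹ = 1 from Subtype.ext (by simp [h]), map_one])
    · exact hnew (congrArg _ (Subtype.ext (by simp [h])))
  obtain ⟨hkQ, hkx⟩ := O.mem_C.1 hk.1
  obtain ⟨w, hw⟩ := S.perp_fix hτ (m := S.vec k) fun v hv => by
    obtain ⟨q', hq', rfl⟩ := S.surj v
    have hCk : ∀ c ∈ O.C, ¬ S.Skew (S.vec k) (S.vec c) := fun c hc => by
      rw [S.skew_vec hkQ (O.mem_C.1 hc).1, not_not]; exact ((O.K_props hk).2.2 c hc).symm
    rcases O.splitV he0 he0f he0x hq' hv with h | h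
    · exact hCk q' h
    · have h1 := hCk _ h
      rw [S.vec_mul (inv_mem he0) hq', S.vec_inv he0, S.v_inv, S.skew_mul', not_not] at h1
      have h2 : ¬ S.Skew (S.vec k) (S.vec e0) := by
        rw [e0v, S.skew_mul', not_not]
        conv_rhs => rw [← S.skew_act (S.π O.X), O.fixedV hk.1]
      exact fun a => h2 (h1.2 a)
  exact O.xz_notV hF hk hk1 hw hxz

/-- The involution is isolated. -/
theorem isolated (g : G) (hm : g * z * g⁻¹ * z = z * (g * z * g⁻¹)) : g * z * g⁻¹ = z := by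
  by_contra hne
  exact M.out_false ⟨g, hm, fun h => hne (M.noFusion g h)⟩

end Ctx.Minus

end CfsgLib.U6Large
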