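import Cfsg.Agent.Lib.U6Large.Aug
import Cfsg.Agent.Lib.U6Large.Minus

/-! With the automorphism group on top and the orthogonal shape, no other conjugate of the involution lies
in the large subgroup. -/

set_option autoImplicit false
set_option linter.unusedSectionVars false
set_option linter.style.longLine false

namespace CfsgLib.U6Large

open Subgroup CfsgLib.SpFourThree CfsgLib.ThreeTrans.UCent
open CfsgLib.ThreeTrans.UCent.W (mk')

universe u

variable {G : Type u} [Group G] [Finite G] {z : G} {Q : Subgroup G} {U : Aug z Q}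

namespace Aug

variable (M : U.S0.Minus)
include M

/-- The part of `Q` over the fixed plane, in `G`. -/
noncomputable def DG : Subgroup G := M.D.map U.H0.subtype

theorem DG_Q {w : G} (hw : w ∈ DG M) : w ∈ Q := by
  obtain ⟨d, hd, rfl⟩ := hw
  exact hd.1

theorem DG_mem_iff {w : G} (hq : w ∈ Q) : w ∈ DG M ↔ (M.e (U.vec hq)).code.val % 64 = 0 := by
  constructor
  · rintro ⟨d, hd, rfl⟩
    exact hd.2
  · intro h
    exact ⟨⟨w, U.Q_le0 hq⟩, ⟨hq, h⟩, rfl⟩

theorem z_DG : z ∈ DG M := (DG_mem_iff M U.zQ).2 (by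
  rw [show U.vec U.zQ = 1 from U.S0.vec_z, M.e_one]; rfl)

theorem sign0 {c w : G} (hc : c ∈ U.H0) (hw : w ∈ DG M) : c * w * c⁻¹ = w ∨ c * w * c⁻¹ = z * w := by
  obtain ⟨d, hd, rfl⟩ := hw
  rcases M.sign ⟨⟨c, hc⟩, by rw [U.cent_z0]; trivial⟩ hd with e | e
  · exact Or.inl (congrArg Subtype.val e)
  · exact Or.inr (congrArg Subtype.val e)

theorem comm_fix0 {a b w : G} (ha : a ∈ U.H0) (hb : b ∈ U.H0) (hw : w ∈ DG M) :
    a * b * a⁻¹ * b⁻¹ * w = w * (a * b * a⁻¹ * b⁻¹) := by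
  obtain ⟨d, hd, rfl⟩ := hw
  exact congrArg Subtype.val
    (M.comm_fix ⟨⟨a, ha⟩, by rw [U.cent_z0]; trivial⟩ ⟨⟨b, hb⟩, by rw [U.cent_z0]; trivial⟩ hd)

theorem low {w : G} (hq : w ∈ Q) (h : ∀ d ∈ DG M, w * d = d * w) : (M.e (U.vec hq)).code.val < 64 :=
  M.low_of_perp fun d hd => by
    rw [Aug.vec, U.S0.skew_vec (show (⟨w, U.Q_le0 hq⟩ : U.H0) ∈ Q.subgroupOf U.H0 from hq) hd.1, not_not]
    exact Subtype.ext (h d ⟨d, hd, rfl⟩)

theorem low_high {w : G} (hw : w ∈ DG M) (h : ∀ d ∈ DG M, w * d = d * w) : w = 1 ∨ w = z := by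
  have hq := DG_Q M hw
  have h1 := low M hq h
  have h2 := (DG_mem_iff M hq).1 hw
  have e : M.e (U.vec hq) = 0 := W.ext' (by
    show (M.e (U.vec hq)).code.val = 0
    omega)
  rw [M.e_eq_zero] at e
  rcases (U.S0.vec_eq_one (show (⟨w, U.Q_le0 hq⟩ : U.H0) ∈ Q.subgroupOf U.H0 from hq)).1 e with k | k
  · exact Or.inl (congrArg Subtype.val k)
  · exact Or.inr (congrArg Subtype.val k)

theorem DG_norm (hfix : ∀ v, (∀ y, U.S0.act y v = v) → (M.e v).code.val % 64 = 0) {h w : G}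
    (hh : h * z = z * h) (hw : w ∈ DG M) : h * w * h⁻¹ ∈ DG M := by
  have hq := U.norm h hh w (DG_Q M hw)
  refine (DG_mem_iff M hq).2 (hfix _ fun y => ?_)
  obtain ⟨c, rfl⟩ := U.π_surj y
  rw [U.act_vec c hq]
  have hh' : h⁻¹ * z = z * h⁻¹ := by
    calc h⁻¹ * z = h⁻¹ * (z * h) * h⁻¹ := by group
      _ = z * h⁻¹ := by rw [← hh]; group
  have hc : h⁻¹ * (c : G) * h ∈ U.H0 := by simpa using U.H0_norm h⁻¹ hh' _ c.2
  have e : (c : G) * (h * w * h⁻¹) * (c : G)⁻¹ = h * (h⁻¹ * (c : G) * h * w * (h⁻¹ * (c : G) * h)⁻¹) * h⁻¹ := by group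
  refine (U.S0.vec_eq (U.norm c (U.comm0 c.2) _ hq : _ ∈ Q) (hq : _ ∈ Q)).2 ?_
  rcases sign0 M hc hw with k | k <;> rw [k] at e
  · exact Or.inl (Subtype.ext e)
  · refine Or.inr (Subtype.ext ?_)
    show (c : G) * (h * w * h⁻¹) * (c : G)⁻¹ = z * (h * w * h⁻¹)
    rw [e, ← mul_assoc h, hh]
    group

/-- The conjugate by the inverse centralises the plane part. -/
theorem prev_comm {g : G} (hx : g * z * g⁻¹ ∈ Q) (hne : g * z * g⁻¹ ≠ z) {w : G} (hw : w ∈ DG M) :
    g⁻¹ * z * g * w = w * (g⁻¹ * z * g) := by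
  have hx1 : g * z * g⁻¹ ≠ 1 := by simp [U.ne]
  set C := Q ⊓ centralizer ({g * z * g⁻¹} : Set G) with hC
  have h256 : 256 ≤ Nat.card C := U.half_of U.extra U.card hx hx1 hne
  set C0 := C ⊓ Qc U.H0 g with hC0
  have h128 : Nat.card C ≤ 2 * Nat.card C0 :=
    U.half0 (g := g) fun d hd => Subgroup.mem_centralizer_singleton_iff.1 hd.2
  obtain ⟨a, ha, b, hb, hab⟩ : ∃ a ∈ C0, ∃ b ∈ C0, a * b ≠ b * a := by
    by_contra hn
    push Not at hn
    have : Fact (Nat.Prime 2) := ⟨Nat.prime_two⟩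
    have hle : C0 ≤ Q := inf_le_left.trans inf_le_left
    have h := CfsgLib.PGroup.extraspecial_abelian_card U.extra.extra (C0.subgroupOf Q)
      (isMulCommutative_iff.2 fun a b => Subtype.ext (Subtype.ext (hn _ a.2 _ b.2)))
    rw [Nat.card_congr (Subgroup.subgroupOfEquivOfLe hle).toEquiv, U.card] at h
    have h1 := Nat.mul_le_mul (show 128 ≤ Nat.card C0 by omega) (show 128 ≤ Nat.card C0 by omega)
    omega
  have e : a * b * a⁻¹ * b⁻¹ = z := by
    rcases U.extra.conj_cases ha.1.1 hb.1.1 with k | k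
    · exact absurd (mul_inv_eq_iff_eq_mul.1 k) hab
    · rw [k, mul_inv_cancel_right]
  have e' : g⁻¹ * z * g =
      g⁻¹ * a * g * (g⁻¹ * b * g) * (g⁻¹ * a * g)⁻¹ * (g⁻¹ * b * g)⁻¹ := by rw [← e]; group
  rw [e']
  exact comm_fix0 M (mem_Qc.1 ha.2) (mem_Qc.1 hb.2) hw

variable (hfix : ∀ v, (∀ y, U.S0.act y v = v) → (M.e v).code.val % 64 = 0)
include hfix

theorem minus_noFusion : NoFusion z Q := by
  intro g hx
  by_contra hne
  set x := g * z * g⁻¹ with hxd
  have hx1 : x ≠ 1 := by simp [hxd, U.ne]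
  have hz : g⁻¹ * z * g ∈ Q := mem_Qc.1 (U.z_mem_of_mem hx hne)
  have hne' : g⁻¹ * z * g ≠ z := fun e => hne (by
    calc g * z * g⁻¹ = g * (g⁻¹ * z * g) * g⁻¹ := by rw [e]
      _ = z := by group)
  have hpc : ∀ w ∈ DG M, g⁻¹ * z * g * w = w * (g⁻¹ * z * g) := fun w hw => prev_comm M hx hne hw
  have hxc : ∀ w ∈ DG M, x * w = w * x := fun w hw => by
    have := prev_comm M (g := g⁻¹) (by rwa [inv_inv]) (by rwa [inv_inv]) hw
    rwa [inv_inv] at this
  -- the conjugated plane part is in the centraliser, without `z`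
  have hzD : g⁻¹ * z * g ∉ DG M := fun h => by
    rcases low_high M h hpc with e | e
    · exact U.ne (by calc z = g * (g⁻¹ * z * g) * g⁻¹ := by group
                      _ = 1 := by rw [e, mul_one, mul_inv_cancel])
    · exact hne' e
  have hDc : ∀ w ∈ DG M, g * w * g⁻¹ * z = z * (g * w * g⁻¹) := fun w hw => by
    calc g * w * g⁻¹ * z = g * (w * (g⁻¹ * z * g)) * g⁻¹ := by group
      _ = g * (g⁻¹ * z * g * w) * g⁻¹ := by rw [hpc w hw]
      _ = z * (g * w * g⁻¹) := by group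
  -- a plane element fixed up to sign and sent into the subgroup of index two
  obtain ⟨m, hm, hm1, hmz, hmfix, hmH⟩ : ∃ m ∈ DG M, m ≠ 1 ∧ m ≠ z ∧
      (∀ c, c * z = z * c → c * m * c⁻¹ = m ∨ c * m * c⁻¹ = z * m) ∧ g * m * g⁻¹ ∈ U.H0 := by
    by_cases hall : ∀ c, c * z = z * c → ∀ d ∈ DG M, c * d * c⁻¹ = d ∨ c * d * c⁻¹ = z * d
    · suffices h : ∃ m ∈ DG M, m ≠ 1 ∧ m ≠ z ∧ g * m * g⁻¹ ∈ U.H0 by
        obtain ⟨m, hm, h1, h2, h3⟩ := h
        exact ⟨m, hm, h1, h2, fun c hc => hall c hc m hm, h3⟩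
      have ha : (M.a0 : G) ∈ DG M := ⟨M.a0, M.a0_mem, rfl⟩
      have hb : (M.b0 : G) ∈ DG M := ⟨M.b0, M.b0_mem, rfl⟩
      have hab : ((M.a0 : G) * M.b0 * (M.a0 : G)⁻¹ * (M.b0 : G)⁻¹) = z := congrArg Subtype.val M.ab0
      have hnc : (M.a0 : G) * M.b0 ≠ (M.b0 : G) * M.a0 := fun e => U.ne (by
        rw [← hab, e]; group)
      have nontriv : ∀ {p q : G}, q ∈ Q → p * q ≠ q * p → p ≠ 1 ∧ p ≠ z := fun {p q} hq h =>
        ⟨fun e => h (by rw [e, one_mul, mul_one]), fun e => h (by rw [e, U.extra.comm_z hq])⟩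
      by_cases h1 : g * M.a0 * g⁻¹ ∈ U.H0
      · exact ⟨_, ha, (nontriv (DG_Q M hb) hnc).1, (nontriv (DG_Q M hb) hnc).2, h1⟩
      by_cases h2 : g * M.b0 * g⁻¹ ∈ U.H0
      · exact ⟨_, hb, (nontriv (DG_Q M ha) hnc.symm).1, (nontriv (DG_Q M ha) hnc.symm).2, h2⟩
      have h3 : g * ((M.a0 : G) * M.b0) * g⁻¹ ∈ U.H0 := by
        rw [show g * ((M.a0 : G) * M.b0) * g⁻¹ = g * M.a0 * g⁻¹ * (g * M.b0 * g⁻¹) by group]
        exact U.H0_mul _ _ (hDc _ ha) (hDc _ hb) h1 h2
      have hn3 : (M.a0 : G) * M.b0 * M.a0 ≠ (M.a0 : G) * ((M.a0 : G) * M.b0) := fun e => hnc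
        (mul_left_cancel (show (M.a0 : G) * ((M.a0 : G) * M.b0) = (M.a0 : G) * ((M.b0 : G) * M.a0) by rw [← e, mul_assoc]))
      exact ⟨_, mul_mem ha hb, (nontriv (DG_Q M ha) hn3).1, (nontriv (DG_Q M ha) hn3).2, h3⟩
    · push Not at hall
      obtain ⟨h, hh, d, hd, hd1, hd2⟩ := hall
      have hh0 : h ∉ U.H0 := fun k => by
        rcases sign0 M k hd with e | e
        exacts [hd1 e, hd2 e]
      -- the two plane parts commute
      have hDD : ∀ w ∈ DG M, ∀ e ∈ DG M, g * e * g⁻¹ * w = w * (g * e * g⁻¹) := by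
        intro w hw e he
        have hdn : g⁻¹ * w * g * z = z * (g⁻¹ * w * g) := by
          calc g⁻¹ * w * g * z = g⁻¹ * (w * x) * g := by rw [hxd]; group
            _ = g⁻¹ * (x * w) * g := by rw [hxc w hw]
            _ = z * (g⁻¹ * w * g) := by rw [hxd]; group
        set k := g * e * g⁻¹ * w * (g * e * g⁻¹)⁻¹ * w⁻¹ with hk
        have k1 : k ∈ DG M := mul_mem (DG_norm M hfix (hDc e he) hw) (inv_mem hw)
        have k2 : g⁻¹ * k * g ∈ DG M := by
          have e2 : g⁻¹ * k * g = e * (g⁻¹ * w * g * e⁻¹ * (g⁻¹ * w * g)⁻¹) := by rw [hk]; group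
          rw [e2]
          exact mul_mem he (DG_norm M hfix hdn (inv_mem he))
        have k3 : ∀ v ∈ DG M, k * v = v * k := fun v hv => by
          by_contra hne2
          rcases U.extra.conj_cases (DG_Q M hv) (DG_Q M k1) with q | q
          · exact hne2 (mul_inv_eq_iff_eq_mul.1 q).symm
          apply hzD
          have hvn : g⁻¹ * v * g * z = z * (g⁻¹ * v * g) := by
            calc g⁻¹ * v * g * z = g⁻¹ * (v * x) * g := by rw [hxd]; group
              _ = g⁻¹ * (x * v) * g := by rw [hxc v hv]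
              _ = z * (g⁻¹ * v * g) := by rw [hxd]; group
          have := mul_mem (DG_norm M hfix hvn k2) (inv_mem k2)
          rwa [show g⁻¹ * v * g * (g⁻¹ * k * g) * (g⁻¹ * v * g)⁻¹ * (g⁻¹ * k * g)⁻¹ = g⁻¹ * (v * k * v⁻¹ * k⁻¹) * g by group,
            q, mul_inv_cancel_right] at this
        rcases low_high M k1 k3 with e1 | e1
        · rw [hk, mul_inv_eq_one, mul_inv_eq_iff_eq_mul] at e1
          exact e1
        · exact absurd (e1 ▸ k2) hzD
      have hH0 : ∀ e ∈ DG M, g * e * g⁻¹ ∈ U.H0 := fun e he => by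
        by_contra hn
        have hi : (g * e * g⁻¹)⁻¹ * z = z * (g * e * g⁻¹)⁻¹ := by
          have := hDc _ (inv_mem he)
          simpa [mul_assoc] using this
        have hc := U.H0_mul _ _ hi hh (fun k => hn (by simpa using inv_mem k)) hh0
        have key : ∀ v, (v = d ∨ v = z * d) → g * e * g⁻¹ * v * (g * e * g⁻¹)⁻¹ = v := fun v hv => by
          have hv' : v ∈ DG M := by
            rcases hv with rfl | rfl
            exacts [hd, mul_mem (z_DG M) hd]
          rw [hDD v hv' e he, mul_inv_cancel_right]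
        rcases sign0 M hc hd with q | q
        · refine hd1 ?_
          calc h * d * h⁻¹ = g * e * g⁻¹ * ((g * e * g⁻¹)⁻¹ * h * d * ((g * e * g⁻¹)⁻¹ * h)⁻¹) * (g * e * g⁻¹)⁻¹ := by group
            _ = d := by rw [q, key d (Or.inl rfl)]
        · refine hd2 ?_
          calc h * d * h⁻¹ = g * e * g⁻¹ * ((g * e * g⁻¹)⁻¹ * h * d * ((g * e * g⁻¹)⁻¹ * h)⁻¹) * (g * e * g⁻¹)⁻¹ := by group
            _ = z * d := by rw [q, key _ (Or.inr rfl)]
      have hdQ := DG_Q M hd
      have hd' := DG_norm M hfix hh hd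
      have hd'Q := DG_Q M hd'
      set m := d * (h * d * h⁻¹) with hm0
      have hmD : m ∈ DG M := mul_mem hd hd'
      have hmne : m ≠ 1 ∧ m ≠ z := by
        have key : ∀ {p : G}, h * d * h⁻¹ = p → p = d⁻¹ ∨ p = z * d⁻¹ → False := by
          intro p e hp
          rcases hp with rfl | rfl <;> rcases U.extra.sq_cases hdQ with s | s
          · exact hd1 (e.trans (inv_eq_of_mul_eq_one_right s))
          · exact hd2 (e.trans (inv_eq_of_mul_eq_one_right (by
              rw [← mul_assoc, U.extra.comm_z hdQ, mul_assoc, s, U.zz])))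
          · exact hd2 (e.trans (by rw [inv_eq_of_mul_eq_one_right s]))
          · refine hd1 (e.trans ?_)
            rw [← s]
            group
        constructor <;> intro k <;> rw [hm0] at k
        · exact key (eq_inv_of_mul_eq_one_right k) (Or.inl rfl)
        · exact key (p := z * d⁻¹) (by rw [← U.extra.comm_z (inv_mem hdQ), ← k, inv_mul_cancel_left]) (Or.inr rfl)
      have hfm : h * m * h⁻¹ = m ∨ h * m * h⁻¹ = z * m := by
        have hh2 : h * h ∈ U.H0 := U.H0_mul h h hh hh hh0 hh0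
        have e : h * m * h⁻¹ = h * d * h⁻¹ * (h * h * d * (h * h)⁻¹) := by rw [hm0]; group
        have sw : h * d * h⁻¹ * d = m ∨ h * d * h⁻¹ * d = z * m := by
          rcases U.extra.conj_cases hd'Q hdQ with q | q <;> rw [mul_inv_eq_iff_eq_mul] at q
          · exact Or.inl q
          · exact Or.inr (by rw [q, hm0, mul_assoc])
        rcases sign0 M hh2 hd with q | q <;> rw [q] at e
        · rw [e]; exact sw
        · rw [show h * d * h⁻¹ * (z * d) = z * (h * d * h⁻¹ * d) by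
            rw [← mul_assoc, U.extra.comm_z hd'Q, mul_assoc]] at e
          rcases sw with s | s <;> rw [s] at e
          · exact Or.inr e
          · exact Or.inl (by rw [e, ← mul_assoc, U.zz, one_mul])
      refine ⟨m, hmD, hmne.1, hmne.2, fun c hc => ?_, hH0 m hmD⟩
      by_cases hc0 : c ∈ U.H0
      · exact sign0 M hc0 hmD
      have hh' : h⁻¹ * z = z * h⁻¹ := by
        calc h⁻¹ * z = h⁻¹ * (z * h) * h⁻¹ := by group
          _ = z * h⁻¹ := by rw [← hh]; group
      have hc' := U.H0_mul _ _ hh' hc (fun k => hh0 (by simpa using inv_mem k)) hc0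
      have e : c * m * c⁻¹ = h * (h⁻¹ * c * m * (h⁻¹ * c)⁻¹) * h⁻¹ := by group
      rcases sign0 M hc' hmD with q | q <;> rw [q] at e
      · rw [e]; exact hfm
      · rw [show h * (z * m) * h⁻¹ = (h * z) * m * h⁻¹ by group, hh, show z * h * m * h⁻¹ = z * (h * m * h⁻¹) by group] at e
        rcases hfm with s | s <;> rw [s] at e
        · exact Or.inr e
        · exact Or.inl (by rw [e, ← mul_assoc, U.zz, one_mul])
  -- its image is centralised by the stabiliser of the vector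
  have hsign : ∀ c, c * x = x * c → c * (g * m * g⁻¹) * c⁻¹ = g * m * g⁻¹ ∨
      c * (g * m * g⁻¹) * c⁻¹ = x * (g * m * g⁻¹) := by
    intro c hc
    have hc' : g⁻¹ * c * g * z = z * (g⁻¹ * c * g) := by
      calc g⁻¹ * c * g * z = g⁻¹ * (c * x) * g := by rw [hxd]; group
        _ = g⁻¹ * (x * c) * g := by rw [hc]
        _ = z * (g⁻¹ * c * g) := by rw [hxd]; group
    rcases hmfix _ hc' with e | e
    · left
      calc c * (g * m * g⁻¹) * c⁻¹ = g * (g⁻¹ * c * g * m * (g⁻¹ * c * g)⁻¹) * g⁻¹ := by group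
        _ = g * m * g⁻¹ := by rw [e]
    · right
      calc c * (g * m * g⁻¹) * c⁻¹ = g * (g⁻¹ * c * g * m * (g⁻¹ * c * g)⁻¹) * g⁻¹ := by group
        _ = x * (g * m * g⁻¹) := by rw [e, hxd]; group
  have hmD' : g⁻¹ * (g * m * g⁻¹) * g ∈ DG M := by simpa [mul_assoc] using hm
  have hjQ : g * m * g⁻¹ ∉ Q := by
    intro hj
    obtain ⟨s, hs, hsz⟩ := U.extra.exists_conj_eq hx hx1 hne
    have hxx : x⁻¹ = x := inv_eq_of_mul_eq_one_right (U.extra_conj g).sq_one
    have hcomm : ∀ a ∈ Q, a * x = x * a → a * (g * m * g⁻¹) = g * m * g⁻¹ * a := by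
      intro a ha hax
      rcases U.extra.conj_cases ha hj with e | e
      · exact mul_inv_eq_iff_eq_mul.1 e
      · rcases hsign a hax with e' | e'
        · exact mul_inv_eq_iff_eq_mul.1 e'
        · exact absurd (mul_right_cancel (e'.symm.trans e)) hne
    rcases U.extra.double_centralizer hx hs hsz hj hcomm with e | e | e | e
    · exact hm1 (by calc m = g⁻¹ * (g * m * g⁻¹) * g := by group
                      _ = 1 := by rw [e]; group)
    · exact hzD (e ▸ hmD')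
    · exact hmz (by calc m = g⁻¹ * (g * m * g⁻¹) * g := by group
                      _ = z := by rw [e, hxx, hxd]; group)
    · apply hzD
      rw [e, hxx] at hmD'
      have := mul_mem hmD' (z_DG M)
      rwa [show g⁻¹ * (z * x) * g * z = g⁻¹ * z * g * (z * z) by rw [hxd]; group, U.zz, mul_one] at this
  set J : U.H0 := ⟨g * m * g⁻¹, hmH⟩
  have hπx : U.π ⟨x, U.Q_le0 hx⟩ = 1 := (U.π_ker _).2 hx
  have hj1 : U.π J ≠ 1 := fun e => hjQ ((U.π_ker _).1 e)
  have hyy : U.π J * U.π J = 1 := by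
    rw [← map_mul]
    refine (U.π_ker _).2 ?_
    show g * m * g⁻¹ * (g * m * g⁻¹) ∈ Q
    rw [show g * m * g⁻¹ * (g * m * g⁻¹) = g * (m * m) * g⁻¹ by group]
    rcases U.extra.sq_cases (DG_Q M hm) with e | e <;> rw [e]
    · simp
    · exact hx
  have hstab : ∀ a, U.S0.act a (U.vec hx) = U.vec hx → a * U.π J = U.π J * a := by
    intro a ha
    obtain ⟨e, he, hex⟩ := U.lift_fix hx hx1 hne ha
    rw [← he, ← mul_inv_eq_iff_eq_mul, ← map_inv, ← map_mul, ← map_mul]
    rcases hsign _ hex with k | k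
    · exact congrArg U.π (Subtype.ext k)
    · rw [show e * J * e⁻¹ = ⟨x, U.Q_le0 hx⟩ * J from Subtype.ext k, map_mul, hπx, one_mul]
  obtain ⟨f, hf⟩ := many_conj hyy hj1
  have hlow : (M.e (U.vec hx)).code.val < 64 := low M hx hxc
  have hmem : ∀ i, (M.e (U.S0.act (f i) (U.vec hx))).code.val < 64 ∧
      qW (M.e (U.S0.act (f i) (U.vec hx))) = false ∧ M.e (U.S0.act (f i) (U.vec hx)) ≠ 0 := by
    intro i
    refine ⟨M.act_low _ hlow, ?_, fun h => ?_⟩
    · have h4 : ¬ U.S0.Four (U.S0.act (f i) (U.vec hx)) := by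
        rw [U.S0.four_act, Aug.vec, U.S0.four_vec (show (⟨x, U.Q_le0 hx⟩ : U.H0) ∈ Q.subgroupOf U.H0 from hx), not_not]
        exact Subtype.ext (U.extra_conj g).sq_one
      exact Bool.eq_false_iff.2 fun h => h4 ((M.four _ (M.act_low _ hlow)).2 h)
    · rw [M.e_eq_zero, ← U.S0.act_unit (f i)] at h
      rcases (U.S0.vec_eq_one (show (⟨x, U.Q_le0 hx⟩ : U.H0) ∈ Q.subgroupOf U.H0 from hx)).1
        (U.S0.act_inj _ h) with k | k
      exacts [hx1 (congrArg Subtype.val k), hne (congrArg Subtype.val k)]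
  have hinj : Function.Injective fun i => (⟨_, hmem i⟩ : {w : W // w.code.val < 64 ∧ qW w = false ∧ w ≠ 0}) := by
    intro i j e
    apply hf
    have e1 := M.e.injective (congrArg Subtype.val e)
    have h := hstab ((f j)⁻¹ * f i) (by rw [U.S0.act_mul, e1, U.S0.act_inv_cancel])
    show f i * U.π J * (f i)⁻¹ = f j * U.π J * (f j)⁻¹
    calc f i * U.π J * (f i)⁻¹ = f j * ((f j)⁻¹ * f i * U.π J) * (f i)⁻¹ := by group
      _ = f j * (U.π J * ((f j)⁻¹ * f i)) * (f i)⁻¹ := by rw [h]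
      _ = f j * U.π J * (f j)⁻¹ := by group
  have := Nat.card_le_card_of_injective _ hinj
  rw [Nat.card_fin, card_singular] at this
  omega

end Aug

end CfsgLib.U6Large
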