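import Cfsg.Agent.Lib.OrbitTransfer.Width

/-! The transfer of a character of the centraliser when the involution is not fused into its large
extraspecial subgroup. -/

set_option autoImplicit false
set_option linter.style.longLine false

namespace CfsgLib.U6Large

open Subgroup MulAction CfsgLib.OrbitTransfer
open scoped commutatorElement

/-- Without fusion into the large subgroup the transfer agrees with the character on 2-elements. -/
theorem transfer_of_noFusion {G : Type*} [Group G] [Finite G] (z : G)
    (hz : orderOf z = 2) (E : Subgroup G) (hEH : E ≤ centralizer ({z} : Set G)) (hzE : z ∈ E)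
    (hEn : ∀ x ∈ centralizer ({z} : Set G), ∀ e ∈ E, x * e * x⁻¹ ∈ E)
    (hext : Cfsg.IsExtraspecial 2 ↥E) (hcent : centralizer (E : Set G) ≤ E) (w : ℕ) (hw : 3 ≤ w)
    (hcard : Nat.card ↥E = 2 ^ (2 * w + 1))
    (hcon : ∀ g : G, g * z * g⁻¹ ∈ E → g * z * g⁻¹ = z)
    (φ : ↥(centralizer ({z} : Set G)) →* Multiplicative (ZMod 2)) (x : ↥(centralizer ({z} : Set G)))
    (hx2 : ∃ r, (x : G) ^ 2 ^ r = 1) : φ.transfer (x : G) = φ x := by
  classical
  have : Fact (Nat.Prime 2) := ⟨Nat.prime_two⟩
  revert φ x
  set H := centralizer ({z} : Set G) with hH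
  intro φ x hx2
  have hz1 : z ≠ 1 := fun e => by simp [e] at hz
  have hz2 : z * z = 1 := by rw [← sq]; exact hz ▸ pow_orderOf_eq_one z
  have hzH : z ∈ H := hEH hzE
  have hzc : (⟨z, hzE⟩ : E) ∈ center E := by
    rw [mem_center_iff]
    intro g
    exact Subtype.ext (mem_centralizer_singleton_iff.1 (hEH g.2))
  have hZ : zpowers (⟨z, hzE⟩ : E) = center E :=
    CfsgLib.PGroup.extraspecial_zpowers_eq_center hext hzc (fun e => hz1 (congrArg Subtype.val e))
  have hzcases : ∀ y ∈ zpowers z, y = 1 ∨ y = z := by
    intro y hy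
    obtain ⟨i, rfl⟩ := hy
    have h2 : z ^ (2 : ℤ) = 1 := by rw [zpow_ofNat, sq]; exact hz2
    rcases Int.even_or_odd i with ⟨j, hj⟩ | ⟨j, hj⟩
    · left; show z ^ i = 1; rw [hj, ← two_mul, zpow_mul, h2, one_zpow]
    · right; show z ^ i = z; rw [hj, zpow_add, zpow_mul, h2, one_zpow, one_mul, zpow_one]
  have hcen : ∀ y (hy : y ∈ E), (⟨y, hy⟩ : E) ∈ center E → y ∈ zpowers z := by
    intro y hy h
    rw [← hZ] at h
    obtain ⟨i, hi⟩ := h
    exact ⟨i, congrArg Subtype.val hi⟩
  have hEsq : ∀ y ∈ E, y ^ 2 ∈ zpowers z := fun y hy =>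
    hcen _ (pow_mem hy 2) (CfsgLib.PGroup.extraspecial_pow_mem_center hext ⟨y, hy⟩)
  have hEcom : ∀ a ∈ E, ∀ b ∈ E, ⁅a, b⁆ ∈ zpowers z := fun a ha b hb =>
    hcen _ (mul_mem (mul_mem (mul_mem ha hb) (inv_mem ha)) (inv_mem hb))
      (CfsgLib.PGroup.extraspecial_comm_mem_center hext ⟨a, ha⟩ ⟨b, hb⟩)
  have hzcomm : ∀ a ∈ H, z * a = a * z := fun a ha => (mem_centralizer_singleton_iff.1 ha).symm
  have hfix : ∀ g : G, (∀ e ∈ E, g⁻¹ * e * g ∈ H) → g ∈ H := by
    intro g hg
    have hu : g * z * g⁻¹ ∈ centralizer (E : Set G) := by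
      rw [mem_centralizer_iff]
      intro e he
      have := hzcomm _ (hg e he)
      calc e * (g * z * g⁻¹) = g * ((g⁻¹ * e * g) * z) * g⁻¹ := by group
        _ = g * (z * (g⁻¹ * e * g)) * g⁻¹ := by rw [this]
        _ = g * z * g⁻¹ * e := by group
    rw [hH, mem_centralizer_singleton_iff]
    calc g * z = g * z * g⁻¹ * g := by group
      _ = z * g := by rw [hcon g (hcent hu)]
  obtain ⟨r, hxord⟩ := hx2
  have hEp : IsPGroup 2 E := hext.1.1
  have hxp : IsPGroup 2 (zpowers (x : G)) := by
    obtain ⟨j, -, hj⟩ := (Nat.dvd_prime_pow Nat.prime_two).1 (orderOf_dvd_of_pow_eq_one hxord)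
    exact IsPGroup.of_card (n := j) (by rw [Nat.card_zpowers, hj])
  have hEnorm : H ≤ normalizer (E : Set G) := fun a ha => by
    rw [mem_normalizer_iff]
    exact fun e => ⟨hEn a ha e, fun h => by simpa [mul_assoc] using hEn a⁻¹ (inv_mem ha) _ h⟩
  set N := E ⊔ zpowers (x : G) with hN
  have hNp : IsPGroup 2 N := hEp.to_sup_of_normal_left' hxp (zpowers_le.2 (hEnorm x.2))
  have hNH : N ≤ H := sup_le hEH (zpowers_le.2 x.2)
  let _ : Fintype (G ⧸ H) := Fintype.ofFinite _
  have hmain := transfer_eq_of_orbits φ (E := E) (N := N) hEH le_sup_left hNH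
    (fun n hn e => mem_normalizer_iff.1 (hEnorm (hNH hn)) e) (x := (x : G))
    (mem_sup_right (mem_zpowers _)) ?_
  · exact hmain
  intro q hq n hn hnq
  induction q using QuotientGroup.induction_on with
  | H g =>
  have hgH : g ∉ H := fun h => hq (QuotientGroup.eq.2 (by simpa using inv_mem h))
  have hD : ∀ e : G, e • (g : G ⧸ H) = g ↔ g⁻¹ * e * g ∈ H := fun e => by
    rw [show e • (g : G ⧸ H) = ((e * g : G) : G ⧸ H) from rfl, QuotientGroup.eq]
    constructor
    · intro h; simpa [mul_assoc] using inv_mem h
    · intro h; simpa [mul_assoc] using inv_mem h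
  let S : Subgroup G := E ⊓ MulAction.stabilizer G (g : G ⧸ H)
  have hS : ∀ y, y ∈ S ↔ y ∈ E ∧ y • (g : G ⧸ H) = g := fun y => Iff.rfl
  have hSE : S ≤ E := inf_le_left
  have habel : (z • (g : G ⧸ H) ≠ g ∨ f H φ z (g : G ⧸ H) = 1) → ∀ a ∈ S, ∀ b ∈ S, a * b = b * a := by
    intro hb a ha b hb'
    rw [← commutatorElement_eq_one_iff_mul_comm]
    refine (hzcases _ (hEcom a (hSE ha) b (hSE hb'))).resolve_right fun h => ?_
    have hzS : z ∈ S := h ▸ (by
      simpa [commutatorElement_def] using mul_mem (mul_mem (mul_mem ha hb') (inv_mem ha)) (inv_mem hb'))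
    rcases hb with hb | hb
    · exact hb ((hS z).1 hzS).2
    · have ha' := (hD a).1 ((hS a).1 ha).2
      have hb'' := (hD b).1 ((hS b).1 hb').2
      have hzg := (hD z).1 ((hS z).1 hzS).2
      rw [f_stab H φ rfl hzg] at hb
      have e : (⟨g⁻¹ * z * g, hzg⟩ : H) = ⁅(⟨_, ha'⟩ : H), ⟨_, hb''⟩⁆ := by
        ext
        simp only [commutatorElement_def, Subgroup.coe_mul, Subgroup.coe_inv]
        rw [commutatorElement_def] at h
        rw [← h]; group
      rw [e, map_commutatorElement, commutatorElement_eq_one_iff_mul_comm.2 (mul_comm _ _)] at hb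
      simp at hb
  have height : (z • (g : G ⧸ H) ≠ g ∨ f H φ z (g : G ⧸ H) = 1) → 8 * Nat.card S ≤ Nat.card E := by
    intro hb
    have hab := habel hb
    have h1 := CfsgLib.PGroup.extraspecial_abelian_card hext (S.subgroupOf E)
      ⟨⟨fun a b => Subtype.ext (Subtype.ext (hab _ a.2 _ b.2))⟩⟩
    rw [Nat.card_congr (Subgroup.subgroupOfEquivOfLe hSE).toEquiv, hcard] at h1
    have h2 : Nat.card S * Nat.card S ≤ 2 ^ (w + 1) * 2 ^ (w + 1) :=
      h1.trans (le_of_eq (by ring))
    have h3 : Nat.card S ≤ 2 ^ (w + 1) := Nat.mul_self_le_mul_self_iff.1 h2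
    rw [hcard]
    calc 8 * Nat.card S ≤ 2 ^ 3 * 2 ^ (w + 1) := by omega
      _ = 2 ^ (3 + (w + 1)) := by rw [← pow_add]
      _ ≤ 2 ^ (2 * w + 1) := Nat.pow_le_pow_right (by norm_num) (by omega)
  have hfour : 4 * Nat.card S ≤ Nat.card E := by
    have hmul := Subgroup.card_mul_index (S.subgroupOf E)
    rw [Nat.card_congr (Subgroup.subgroupOfEquivOfLe hSE).toEquiv] at hmul
    obtain ⟨j, hj⟩ := hEp.index (S.subgroupOf E)
    rcases j with _ | _ | j
    · exfalso
      rw [pow_zero, Subgroup.index_eq_one, subgroupOf_eq_top] at hj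
      exact hgH (hfix g fun e he => (hD e).1 ((hS e).1 (hj he)).2)
    · exfalso
      rw [pow_one] at hj
      set z' := g * z * g⁻¹ with hz'
      have hz'c : ∀ e, g⁻¹ * e * g ∈ H ↔ z' * e = e * z' := fun e => by
        rw [hH, mem_centralizer_singleton_iff, hz']
        constructor
        · intro h
          calc g * z * g⁻¹ * e = g * (z * (g⁻¹ * e * g)) * g⁻¹ := by group
            _ = g * ((g⁻¹ * e * g) * z) * g⁻¹ := by rw [h]
            _ = e * (g * z * g⁻¹) := by group
        · intro h
          calc g⁻¹ * e * g * z = g⁻¹ * (e * (g * z * g⁻¹)) * g := by group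
            _ = g⁻¹ * ((g * z * g⁻¹) * e) * g := by rw [h]
            _ = z * (g⁻¹ * e * g) := by group
      have hSc : ∀ s ∈ S, z' * s = s * z' := fun s hs => (hz'c s).1 ((hD s).1 ((hS s).1 hs).2)
      have hSmem : ∀ e ∈ E, z' * e = e * z' → e ∈ S := fun e he h =>
        (hS e).2 ⟨he, (hD e).2 ((hz'c e).2 h)⟩
      obtain ⟨e, hab⟩ := index_eq_two_iff_exists_notMem_and.1 hj
      obtain ⟨e, he⟩ := e
      have heS : e ∉ S := hab.1
      have hpair : ∀ y ∈ E, y ∈ S ∨ y * e ∈ S := fun y hy => (hab.2 ⟨y, hy⟩).symm
      have hzS : z ∈ S := by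
        by_contra hzS
        -- then `E` would be abelian
        have hne := CfsgLib.PGroup.extraspecial_not_isMulCommutative hext
        refine hne ⟨⟨fun a b => ?_⟩⟩
        have hn : (S.subgroupOf E).Normal := normal_of_index_eq_two hj
        haveI := isCyclic_of_prime_card (p := 2) (α := E ⧸ S.subgroupOf E) (by
          rw [← Subgroup.index_eq_card]; exact hj)
        have hc : commutator E ≤ S.subgroupOf E :=
          (Normal.quotient_commutative_iff_commutator_le (N := S.subgroupOf E)).1 IsCyclic.isMulCommutative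
        have h1 : ⁅(a : G), (b : G)⁆ ∈ S := hc (commutator_mem_commutator (mem_top a) (mem_top b))
        refine Subtype.ext (commutatorElement_eq_one_iff_mul_comm.1 ?_)
        exact (hzcases _ (hEcom _ a.2 _ b.2)).resolve_right fun h => hzS (h ▸ h1)
      have hz'H : z' ∈ H := by
        rw [hH, mem_centralizer_singleton_iff]
        exact hSc z hzS
      have hz'2 : z' * z' = 1 := by
        rw [hz', show g * z * g⁻¹ * (g * z * g⁻¹) = g * (z * z) * g⁻¹ by group, hz2]; group
      -- an element of `S` inducing the same automorphism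
      obtain ⟨v, hv, hvz, hvS⟩ : ∃ v ∈ S, v ∉ zpowers z ∧ ∀ s ∈ S, s * v = v * s := by
        by_contra hno
        push Not at hno
        have hzSub : center E ≤ S.subgroupOf E := by
          rw [← hZ, zpowers_le]; exact hzS
        obtain ⟨⟨j', hj'⟩, -⟩ := CfsgLib.PGroup.extraspecial_subgroup_card hext (S.subgroupOf E)
          (fun v hv hcomm => by
            rw [← hZ]
            have hvz : (v : G) ∈ zpowers z := by
              by_contra hvz
              obtain ⟨s, hs, hne⟩ := hno v hv hvz
              exact hne (congrArg Subtype.val (hcomm ⟨s, hSE hs⟩ hs))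
            obtain ⟨i, hi⟩ := hvz
            exact ⟨i, Subtype.ext hi⟩) hzSub
        rw [Nat.card_congr (Subgroup.subgroupOfEquivOfLe hSE).toEquiv] at hj'
        rw [hj', hj, hcard, ← pow_succ] at hmul
        have := Nat.pow_right_injective (le_refl 2) hmul
        omega
      have hEdec : ∀ y ∈ E, y ∈ S ∨ ∃ s ∈ S, y = s * e⁻¹ := fun y hy =>
        (hpair y hy).imp_right fun h => ⟨y * e, h, by group⟩
      have hve : ⁅v, e⁆ = z := (hzcases _ (hEcom v (hSE hv) e he)).resolve_left fun h => by
        have hve' : v * e = e * v := commutatorElement_eq_one_iff_mul_comm.1 h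
        refine hvz (hcen v (hSE hv) ?_)
        rw [mem_center_iff]
        rintro ⟨y, hy⟩
        refine Subtype.ext ?_
        show y * v = v * y
        rcases hEdec y hy with hy' | ⟨s, hs, rfl⟩
        · exact hvS y hy'
        · exact ((show Commute s v from hvS s hs).mul_left
            (show Commute e v from hve'.symm).inv_left).eq
      -- `z' e z'⁻¹ = e t` with `t ∈ S` an involution centralising `S` and `e`
      set e' := z' * e * z'⁻¹ with he'def
      have he' : e' ∈ E := hEn z' hz'H e he
      have he'S : e' ∉ S := fun h => heS (hSmem e he (by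
        have := hSc _ h
        calc z' * e = e' * z' := by rw [he'def]; group
          _ = z' * e' := this.symm
          _ = (z' * z') * e * z'⁻¹ := by rw [he'def]; group
          _ = e * z' := by rw [hz'2, one_mul, inv_eq_of_mul_eq_one_right hz'2]))
      have hzS' : ∀ y ∈ zpowers z, y ∈ S := fun y hy => zpowers_le.2 hzS hy
      have htS : e⁻¹ * e' ∈ S := by
        rcases hEdec _ (mul_mem (inv_mem he) he') with h | ⟨s, hs, h⟩
        · exact h
        · exfalso
          refine he'S ?_
          have h2 : e' = e * s * e⁻¹ := by rw [mul_assoc, ← h]; group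
          have hcm : ⁅e, s⁆ ∈ S := hzS' _ (hEcom e he s (hSE hs))
          have := mul_mem hcm hs
          rw [h2]
          simpa [commutatorElement_def] using this
      set t := e⁻¹ * e' with ht
      have hze : z' * e = e * t * z' := by rw [ht, he'def]; group
      have ht2 : t * t = 1 := by
        have h : (z' * z') * e = e * (t * t) * (z' * z') := by
          calc (z' * z') * e = z' * (z' * e) := mul_assoc _ _ _
            _ = (z' * e) * t * z' := by
              rw [show z' * (z' * e) = z' * (e * t * z') from congrArg (z' * ·) hze]; group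
            _ = e * t * (z' * t) * z' := by rw [hze]; group
            _ = e * t * (t * z') * z' := by rw [hSc t htS]
            _ = _ := by group
        rw [hz'2, one_mul, mul_one] at h
        exact mul_eq_left.1 h.symm
      have ht1 : t ≠ 1 := fun h => heS (hSmem e he (by rw [hze, h, mul_one]))
      have hte : t * e = e * t := by
        -- `(e t)² = e²` as squares are central
        have he2 : z' * (e * e) = (e * e) * z' := by
          rcases hzcases _ (by simpa [sq] using hEsq e he) with h | h <;> rw [h]
          · simp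
          · exact hSc z hzS
        have h : (e * t) * (e * t) = e * e := by
          calc (e * t) * (e * t) = (z' * e * z'⁻¹) * (z' * e * z'⁻¹) := by
                rw [show e * t = z' * e * z'⁻¹ by rw [hze]; group]
            _ = z' * (e * e) * z'⁻¹ := by group
            _ = e * e := by rw [he2]; group
        have h' : t * e * t = e := by
          have := congrArg (e⁻¹ * ·) h
          simpa [mul_assoc] using this
        calc t * e = (t * e * t) * t⁻¹ := by group
          _ = e * t := by rw [h', inv_eq_of_mul_eq_one_right ht2]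
      have hts : ∀ s ∈ S, t * s = s * t := by
        intro s hs
        -- `[e', s] = [e, s]`
        have hc : ⁅e', s⁆ = ⁅e, s⁆ := by
          have h1 : ⁅e', s⁆ = z' * ⁅e, s⁆ * z'⁻¹ := by
            have hs' : z' * s * z'⁻¹ = s := by rw [hSc s hs]; group
            conv_lhs => rw [← hs', he'def]
            simp only [commutatorElement_def]
            group
          rw [h1]
          rcases hzcases _ (hEcom e he s (hSE hs)) with h | h <;> rw [h]
          · group
          · rw [hSc z hzS]; group
        have h1 : e' = e * t := by rw [ht]; group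
        rw [h1, commutatorElement_def, commutatorElement_def] at hc
        have h3 : e * (t * s * t⁻¹) * e⁻¹ = e * s * e⁻¹ := by
          have h4 := congrArg (· * s) hc
          calc e * (t * s * t⁻¹) * e⁻¹ = e * t * s * (e * t)⁻¹ * s⁻¹ * s := by group
            _ = e * s * e⁻¹ * s⁻¹ * s := h4
            _ = e * s * e⁻¹ := by group
        have h5 : t * s * t⁻¹ = s := mul_left_cancel (mul_right_cancel h3)
        calc t * s = t * s * t⁻¹ * t := by group
          _ = s * t := by rw [h5]
      have htz : t = z := by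
        refine (hzcases t (hcen t (hSE htS) ?_)).resolve_left ht1
        rw [mem_center_iff]
        rintro ⟨y, hy⟩
        refine Subtype.ext ?_
        show y * t = t * y
        rcases hEdec y hy with hy' | ⟨s, hs, rfl⟩
        · exact (hts y hy').symm
        · exact ((show Commute s t from (hts s hs).symm).mul_left
            (show Commute e t from hte.symm).inv_left).eq
      have hve2 : v * e = z * (e * v) := by rw [← hve, commutatorElement_def]; group
      have hwe : Commute (v * z') e := by
        show v * z' * e = e * (v * z')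
        have hzz : ∀ y ∈ E, z * y = y * z := fun y hy => hzcomm y (hEH hy)
        calc v * z' * e = v * e * z * z' := by rw [mul_assoc, hze, htz]; group
          _ = z * (e * v * z) * z' := by rw [hve2]; group
          _ = z * (z * (e * v)) * z' := by rw [hzz (e * v) (mul_mem he (hSE hv))]
          _ = e * (v * z') := by rw [← mul_assoc z z, hz2, one_mul]; group
      have hws : ∀ s ∈ S, Commute (v * z') s := fun s hs =>
        (show Commute v s from (hvS s hs).symm).mul_left (hSc s hs)
      have hw : v * z' ∈ centralizer (E : Set G) := by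
        rw [mem_centralizer_iff]
        intro y hy
        rcases hEdec y hy with hy' | ⟨s, hs, rfl⟩
        · exact (hws y hy').eq.symm
        · exact ((hws s hs).mul_right hwe.inv_right).eq.symm
      have hz'E : z' ∈ E := by
        have := mul_mem (inv_mem (hSE hv)) (hcent hw)
        simpa using this
      refine hgH ?_
      rw [hH, mem_centralizer_singleton_iff]
      calc g * z = z' * g := by rw [hz']; group
        _ = z * g := by rw [hz', hcon g hz'E]
    · rw [hj] at hmul
      have : 4 ≤ 2 ^ (j + 1 + 1) := by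
        calc 4 = 2 ^ 2 := by norm_num
          _ ≤ _ := Nat.pow_le_pow_right (by norm_num) (by omega)
      calc 4 * Nat.card S ≤ 2 ^ (j + 1 + 1) * Nat.card S := Nat.mul_le_mul_right _ this
        _ = Nat.card E := by rw [mul_comm]; exact hmul
  obtain ⟨k, hk⟩ := hNp ⟨n, hn⟩
  exact gsum_orbit_zero φ hz2 hEp hzE (fun e he => hzcomm e (hEH he)) hEsq hEcom S hS hfour height
    ⟨k, by simpa using congrArg Subtype.val hk⟩ (fun e => mem_normalizer_iff.1 (hEnorm (hNH hn)) e)
    (hzcomm n (hNH hn)).symm hnq

end CfsgLib.U6Large
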