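import Cfsg.Agent.Lib.U6Large.NatAug
import Cfsg.Agent.Lib.U6Large.MinusAug
import Cfsg.Agent.Lib.U6Large.Transfer
import Cfsg.Agent.Lib.U6Large.Hyp

/-! Without fusion the transfer splits off a subgroup of index two with the simple centraliser shape. -/

set_option autoImplicit false
set_option linter.unusedSectionVars false
set_option linter.style.longLine false

namespace CfsgLib.U6Large

open Subgroup CfsgLib.SpFourThree

universe u

variable {G : Type u} [Group G] [Finite G] {z : G} {Q : Subgroup G}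

namespace Aug

variable (U : Aug z Q)
include U

open Classical in
/-- The character of the centraliser. -/
noncomputable def sgn : centralizer ({z} : Set G) →* Multiplicative (ZMod 2) where
  toFun c := if (c : G) ∈ U.H0 then 1 else Multiplicative.ofAdd 1
  map_one' := if_pos (one_mem _)
  map_mul' a b := by
    have ha := U.mem_H.1 a.2
    have hb := U.mem_H.1 b.2
    by_cases h1 : (a : G) ∈ U.H0 <;> by_cases h2 : (b : G) ∈ U.H0
    · rw [if_pos (show ((a * b : centralizer ({z} : Set G)) : G) ∈ U.H0 from mul_mem h1 h2), if_pos h1, if_pos h2]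
      rfl
    · rw [if_neg (fun h : ((a * b : centralizer ({z} : Set G)) : G) ∈ U.H0 =>
        h2 ((Subgroup.mul_mem_cancel_left _ h1).1 h)), if_pos h1, if_neg h2]
      rfl
    · rw [if_neg (fun h : ((a * b : centralizer ({z} : Set G)) : G) ∈ U.H0 =>
        h1 ((Subgroup.mul_mem_cancel_right _ h2).1 h)), if_neg h1, if_pos h2]
      rfl
    · rw [if_pos (show ((a * b : centralizer ({z} : Set G)) : G) ∈ U.H0 from U.H0_mul _ _ ha hb h1 h2),
        if_neg h1, if_neg h2]
      rfl

theorem sgn_eq_one (c : centralizer ({z} : Set G)) : U.sgn c = 1 ↔ (c : G) ∈ U.H0 := by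
  by_cases h : (c : G) ∈ U.H0
  · simp [sgn, h]
  · simp [sgn, h]

theorem transfer_eq (hF : NoFusion z Q) (c : centralizer ({z} : Set G)) :
    U.sgn.transfer (c : G) = U.sgn c := by
  have hall : ∀ (a : Multiplicative (ZMod 2)) (m : ℕ), Odd m → a ^ m = a := by
    rintro a m ⟨i, rfl⟩
    have h2 : a ^ 2 = 1 := CfsgLib.OrbitTransfer.m2_sq a
    rw [pow_add, pow_mul, h2, one_pow, one_mul, pow_one]
  obtain ⟨r, m, hm, hord⟩ := Nat.exists_eq_two_pow_mul_odd (orderOf_pos c).ne'
  have h := transfer_of_noFusion z U.extra.order_z Q U.le U.zQ (fun x hx e he => U.norm x (U.mem_H.1 hx) e he)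
    U.extra.extra (fun x hx => U.self x (Subgroup.mem_centralizer_iff.1 hx z U.zQ).symm fun q hq =>
      Subgroup.mem_centralizer_iff.1 hx q hq) 4 (by norm_num) (by rw [U.card]; norm_num) hF U.sgn (c ^ m)
    ⟨r, by
      rw [Subgroup.coe_pow, ← pow_mul, mul_comm, ← hord]
      exact congrArg Subtype.val (pow_orderOf_eq_one c)⟩
  rwa [Subgroup.coe_pow, map_pow, map_pow, hall _ m hm, hall _ m hm] at h

/-- The subgroup of index two. -/
noncomputable def top2 : Subgroup G := U.sgn.transfer.ker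

theorem mem_top2 (hF : NoFusion z Q) {c : G} (hc : c * z = z * c) : c ∈ U.top2 ↔ c ∈ U.H0 := by
  rw [top2, MonoidHom.mem_ker, U.transfer_eq hF ⟨c, U.mem_H.2 hc⟩, U.sgn_eq_one]

theorem index_top2 (hF : NoFusion z Q) : U.top2.index = 2 := by
  obtain ⟨h, hh, hh0⟩ := U.H0_ne
  have hne : U.sgn.transfer h ≠ 1 := fun e => hh0 ((U.mem_top2 hF hh).1 e)
  have htwo : ∀ a b : Multiplicative (ZMod 2), a ≠ 1 → b = 1 ∨ b = a := by decide
  have hsur : U.sgn.transfer.range = ⊤ := eq_top_iff.2 fun b _ => by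
    rcases htwo _ b hne with rfl | rfl
    · exact one_mem _
    · exact ⟨h, rfl⟩
  rw [top2, Subgroup.index_ker, hsur, Subgroup.card_top, Nat.card_eq_fintype_card, Fintype.card_multiplicative,
    ZMod.card]

/-- The data in the subgroup of index two. -/
noncomputable def Sub {M : Subgroup G} (hM : ∀ c : G, c * z = z * c → (c ∈ M ↔ c ∈ U.H0)) :
    Ctx (⟨z, (hM z rfl).2 (U.Q_le0 U.zQ)⟩ : M) (Q.subgroupOf M) where
  extra := by
    have : Fact (Nat.Prime 2) := ⟨Nat.prime_two⟩
    have hQM : Q ≤ M := fun q hq => (hM q (U.extra.comm_z hq)).2 (U.Q_le0 hq)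
    refine ⟨CfsgLib.LargeExtra.isExtraspecial_of_equiv (Subgroup.subgroupOfEquivOfLe hQM).symm U.extra.extra,
      by rw [Subgroup.orderOf_mk]; exact U.extra.order_z, le_antisymm ?_ ?_⟩
    · rintro _ ⟨⟨⟨q, hq0⟩, hq⟩, hc, rfl⟩
      rcases U.extra.central_cases (show q ∈ Q from hq) (fun p hp =>
        congrArg (fun w : (Q.subgroupOf M) => (w.1 : G))
          (Subgroup.mem_center_iff.1 hc ⟨⟨p, hQM hp⟩, hp⟩)) with rfl | rfl
      · exact one_mem _
      · exact Subgroup.mem_zpowers _
    · rw [Subgroup.zpowers_le]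
      exact ⟨⟨⟨z, (hM z rfl).2 (U.Q_le0 U.zQ)⟩, U.zQ⟩,
        Subgroup.mem_center_iff.2 fun q => Subtype.ext (Subtype.ext (U.extra.comm_z q.2)), rfl⟩
  le q hq := Subgroup.mem_centralizer_singleton_iff.2 (Subtype.ext (U.extra.comm_z hq))
  norm c hc q hq := U.norm c (congrArg Subtype.val hc) q hq
  card := by
    rw [Nat.card_congr (Subgroup.subgroupOfEquivOfLe
      (fun q hq => (hM q (U.extra.comm_z hq)).2 (U.Q_le0 hq))).toEquiv, U.card]
  self c hc h := U.self c (congrArg Subtype.val hc) fun q hq =>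
    congrArg Subtype.val (h ⟨q, (hM q (U.extra.comm_z hq)).2 (U.Q_le0 hq)⟩ hq)
  π := U.π.comp
    { toFun := fun c => ⟨((c : M) : G), (hM _ (congrArg Subtype.val (Subgroup.mem_centralizer_singleton_iff.1 c.2))).1 (c : M).2⟩
      map_one' := rfl
      map_mul' := fun _ _ => rfl }
  π_surj y := by
    obtain ⟨c, hc⟩ := U.π_surj y
    exact ⟨⟨⟨c, (hM c (U.comm0 c.2)).2 c.2⟩,
      Subgroup.mem_centralizer_singleton_iff.2 (Subtype.ext (U.comm0 c.2))⟩, hc⟩
  π_ker c := U.π_ker _

/-- The two alternatives from the shapes below the transfer. -/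
theorem conclusion (hF : NoFusion z Q) {K : Type*} [Field K] [Fintype K] (hK : Fintype.card K = 4)
    (hcases : ∀ (M : Subgroup G) (hM : ∀ c : G, c * z = z * c → (c ∈ M ↔ c ∈ U.H0)),
      Nonempty (U.Sub hM).Natural ∨ Nonempty (U.Sub hM).Minus) :
    (∃ G₀ : Subgroup G, G₀.index = 2 ∧ Nonempty (↥G₀ ≃* Cfsg.PSU 6 K 2) ∧
        Subgroup.centralizer (G₀ : Set G) = ⊥) ∨
      Subgroup.centralizer ({z} : Set G) ⊔ Cfsg.oddCore G = ⊤ := by
  by_cases hH : centralizer ({z} : Set G) = ⊤
  · exact Or.inr (by rw [hH, top_sup_eq])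
  have hM : ∀ c : G, c * z = z * c → (c ∈ U.top2 ↔ c ∈ U.H0) := fun c hc => U.mem_top2 hF hc
  have hidx := U.index_top2 hF
  have : U.top2.Normal := MonoidHom.normal_ker _
  obtain ⟨h, hh, hh0⟩ := U.H0_ne
  have hhM : h ∉ U.top2 := fun k => hh0 ((hM h hh).1 k)
  have hsplit : ∀ a : G, a ∈ U.top2 ∨ h⁻¹ * a ∈ U.top2 := fun a => by
    by_cases ha : a ∈ U.top2
    · exact Or.inl ha
    · exact Or.inr ((Subgroup.mul_mem_iff_of_index_two hidx).2
        (iff_of_false (fun k => hhM (by simpa using inv_mem k)) ha))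
  have fin : centralizer ({(⟨z, (hM z rfl).2 (U.Q_le0 U.zQ)⟩ : U.top2)} : Set U.top2) ⊔ Cfsg.oddCore U.top2 = ⊤ →
      Subgroup.centralizer ({z} : Set G) ⊔ Cfsg.oddCore G = ⊤ := by
    intro e
    have : Fact (Nat.Prime 2) := ⟨Nat.prime_two⟩
    have hle : U.top2 ≤ centralizer ({z} : Set G) ⊔ Cfsg.oddCore G := by
      have e' := congrArg (Subgroup.map U.top2.subtype) e
      rw [Subgroup.map_sup, ← MonoidHom.range_eq_map, Subgroup.range_subtype] at e'
      refine e'.symm.le.trans (sup_le (le_trans ?_ le_sup_left) (le_trans ?_ le_sup_right))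
      · rintro _ ⟨c, hc, rfl⟩
        exact U.mem_H.2 (congrArg Subtype.val (Subgroup.mem_centralizer_singleton_iff.1 hc))
      · have : ((Cfsg.oddCore U.top2).map U.top2.subtype).Normal := by
          have : (Cfsg.oddCore U.top2).Characteristic := CfsgLib.PCore.pPrimeCore_characteristic_inst
          exact ConjAct.normal_of_characteristic_of_normal
        exact CfsgLib.PCore.le_pPrimeCore_of_not_dvd this
          (by rw [Subgroup.card_subtype]; exact CfsgLib.PCore.not_dvd_card_pPrimeCore)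
    rw [eq_top_iff]
    intro a _
    rcases hsplit a with k | k
    · exact hle k
    · rw [show a = h * (h⁻¹ * a) by group]
      exact mul_mem (Subgroup.mem_sup_left (U.mem_H.2 hh)) (hle k)
  rcases hcases U.top2 hM with ⟨⟨N⟩⟩ | ⟨⟨M⟩⟩
  · rcases N.conclusion hK with k | k
    · refine Or.inl ⟨U.top2, hidx, k, ?_⟩
      rw [Subgroup.eq_bot_iff_forall]
      intro c hc
      rw [Subgroup.mem_centralizer_iff] at hc
      have hcQ : c ∈ Q := U.self c (hc z ((hM z rfl).2 (U.Q_le0 U.zQ))).symm fun q hq =>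
        hc q ((hM q (U.extra.comm_z hq)).2 (U.Q_le0 hq))
      rcases U.extra.central_cases hcQ (fun p hp => hc p ((hM p (U.extra.comm_z hp)).2 (U.Q_le0 hp))) with e | e
      · exact e
      · refine absurd (eq_top_iff.2 fun a _ => U.mem_H.2 ?_) hH
        rcases hsplit a with k | k
        · exact (e ▸ hc a k)
        · have k' := (e ▸ hc _ k : h⁻¹ * a * z = z * (h⁻¹ * a))
          calc a * z = h * (h⁻¹ * a * z) := by group
            _ = h * z * (h⁻¹ * a) := by rw [k', mul_assoc]
            _ = z * a := by rw [hh]; group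
    · exact Or.inr (fin k)
  · exact Or.inr (fin (sup_oddCore (U.Sub hM).extra.order_z M.isolated))

end Aug

end CfsgLib.U6Large
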