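import Cfsg.Agent.Lib.U6Large.Chart
import Cfsg.Agent.Lib.LargeExtra.Transport

/-! Two conjugate involutions centralising each other: bounds from the simple quotient. -/

set_option autoImplicit false
set_option linter.unusedSectionVars false
set_option linter.style.longLine false

namespace CfsgLib.U6Large

open Subgroup CfsgLib.SpFourThree

universe u

variable {G : Type u} [Group G]

/-- The subgroup at a conjugate. -/
def Qc (Q : Subgroup G) (g : G) : Subgroup G := Q.map (MulAut.conj g).toMonoidHom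

theorem mem_Qc {Q : Subgroup G} {g x : G} : x ∈ Qc Q g ↔ g⁻¹ * x * g ∈ Q := by
  constructor
  · rintro ⟨q, hq, rfl⟩
    simpa [MulAut.conj_apply, mul_assoc] using hq
  · intro h
    exact ⟨g⁻¹ * x * g, h, by simp [MulAut.conj_apply, mul_assoc]⟩

theorem conj_mem_Qc {Q : Subgroup G} {g q : G} (hq : q ∈ Q) : g * q * g⁻¹ ∈ Qc Q g := ⟨q, hq, rfl⟩

variable {z : G}

/-- The centraliser of a conjugate, taken back. -/
def back (g : G) : centralizer ({g * z * g⁻¹} : Set G) →* centralizer ({z} : Set G) where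
  toFun c := ⟨g⁻¹ * (c : G) * g, Subgroup.mem_centralizer_singleton_iff.2 (by
    have h := Subgroup.mem_centralizer_singleton_iff.1 c.2
    calc g⁻¹ * (c : G) * g * z = g⁻¹ * ((c : G) * (g * z * g⁻¹)) * g := by group
      _ = g⁻¹ * ((g * z * g⁻¹) * (c : G)) * g := by rw [h]
      _ = z * (g⁻¹ * (c : G) * g) := by group)⟩
  map_one' := Subtype.ext (by simp)
  map_mul' a b := Subtype.ext (by simp [mul_assoc])

theorem back_surj (g : G) : Function.Surjective (back (z := z) g) := by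
  intro d
  have h := Subgroup.mem_centralizer_singleton_iff.1 d.2
  refine ⟨⟨g * (d : G) * g⁻¹, Subgroup.mem_centralizer_singleton_iff.2 ?_⟩, Subtype.ext (by simp [back, mul_assoc])⟩
  calc g * (d : G) * g⁻¹ * (g * z * g⁻¹) = g * ((d : G) * z) * g⁻¹ := by group
    _ = g * (z * (d : G)) * g⁻¹ := by rw [h]
    _ = g * z * g⁻¹ * (g * (d : G) * g⁻¹) := by group

/-- No conjugate of `z` other than `z` lies in `Q`. -/
def NoFusion (z : G) (Q : Subgroup G) : Prop := ∀ g : G, g * z * g⁻¹ ∈ Q → g * z * g⁻¹ = z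

theorem NoFusion.rel {z : G} {Q : Subgroup G} (h : NoFusion z Q) {g k : G} (hk : k * z * k⁻¹ ∈ Qc Q g) :
    k * z * k⁻¹ = g * z * g⁻¹ := by
  rw [mem_Qc] at hk
  have e : g⁻¹ * k * z * (g⁻¹ * k)⁻¹ = g⁻¹ * (k * z * k⁻¹) * g := by group
  have := h (g⁻¹ * k) (e ▸ hk)
  rw [e] at this
  calc k * z * k⁻¹ = g * (g⁻¹ * (k * z * k⁻¹) * g) * g⁻¹ := by group
    _ = g * z * g⁻¹ := by rw [this]

namespace Ctx

variable [Finite G] {Q : Subgroup G} (S : Ctx z Q)
include S

theorem extra_conj (g : G) : CfsgLib.LargeExtra.ExtraAt (Qc Q g) (g * z * g⁻¹) where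
  extra := by
    have : Fact (Nat.Prime 2) := ⟨Nat.prime_two⟩
    exact CfsgLib.LargeExtra.isExtraspecial_of_equiv ((MulAut.conj g).subgroupMap Q) S.extra.extra
  order_z := by
    have := orderOf_injective (MulAut.conj g).toMonoidHom (MulEquiv.injective _) z
    simpa [MulAut.conj_apply, S.extra.order_z] using this
  centre := by
    refine le_antisymm ?_ ?_
    · rintro _ ⟨⟨y, q, hq, rfl⟩, hy, rfl⟩
      rcases S.extra.central_cases hq (fun p hp => by
        have h := congrArg Subtype.val (Subgroup.mem_center_iff.1 hy ⟨_, conj_mem_Qc (g := g) hp⟩)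
        simp only [Subgroup.coe_mul, MulEquiv.toMonoidHom_eq_coe, MonoidHom.coe_coe, MulAut.conj_apply] at h
        apply mul_left_cancel (a := g)
        apply mul_right_cancel (b := g⁻¹)
        calc g * (p * q) * g⁻¹ = g * p * g⁻¹ * (g * q * g⁻¹) := by group
          _ = g * q * g⁻¹ * (g * p * g⁻¹) := h
          _ = g * (q * p) * g⁻¹ := by group) with rfl | rfl
      · simp
      · simp [MulAut.conj_apply]
    · rw [Subgroup.zpowers_le]
      refine ⟨⟨g * z * g⁻¹, conj_mem_Qc S.zQ⟩, Subgroup.mem_center_iff.2 fun q => Subtype.ext ?_, rfl⟩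
      obtain ⟨q, hq⟩ := q
      obtain ⟨p, hp, rfl⟩ := hq
      simp only [Subgroup.coe_mul, MulEquiv.toMonoidHom_eq_coe, MonoidHom.coe_coe, MulAut.conj_apply]
      calc g * p * g⁻¹ * (g * z * g⁻¹) = g * (p * z) * g⁻¹ := by group
        _ = g * (z * p) * g⁻¹ := by rw [S.extra.comm_z hp]
        _ = g * z * g⁻¹ * (g * p * g⁻¹) := by group

/-- The data at a conjugate. -/
noncomputable def conj (g : G) : Ctx (g * z * g⁻¹) (Qc Q g) where
  extra := S.extra_conj g
  le := by
    rintro _ ⟨q, hq, rfl⟩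
    refine Subgroup.mem_centralizer_singleton_iff.2 ?_
    simp only [MulEquiv.toMonoidHom_eq_coe, MonoidHom.coe_coe, MulAut.conj_apply]
    calc g * q * g⁻¹ * (g * z * g⁻¹) = g * (q * z) * g⁻¹ := by group
      _ = g * (z * q) * g⁻¹ := by rw [S.extra.comm_z hq]
      _ = g * z * g⁻¹ * (g * q * g⁻¹) := by group
  norm c hc q hq := by
    rw [mem_Qc] at hq ⊢
    have hz : g⁻¹ * c * g * z = z * (g⁻¹ * c * g) := by
      calc g⁻¹ * c * g * z = g⁻¹ * (c * (g * z * g⁻¹)) * g := by group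
        _ = g⁻¹ * ((g * z * g⁻¹) * c) * g := by rw [hc]
        _ = z * (g⁻¹ * c * g) := by group
    have := S.norm _ hz _ hq
    simpa [mul_assoc] using this
  card := by
    rw [Qc, Subgroup.card_map_of_injective (MulEquiv.injective _), S.card]
  self c hc h := by
    rw [mem_Qc]
    refine S.self _ ?_ fun q hq => ?_
    · calc g⁻¹ * c * g * z = g⁻¹ * (c * (g * z * g⁻¹)) * g := by group
        _ = g⁻¹ * ((g * z * g⁻¹) * c) * g := by rw [hc]
        _ = z * (g⁻¹ * c * g) := by group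
    · have := h _ (conj_mem_Qc (g := g) hq)
      calc q * (g⁻¹ * c * g) = g⁻¹ * ((g * q * g⁻¹) * c) * g := by group
        _ = g⁻¹ * (c * (g * q * g⁻¹)) * g := by rw [this]
        _ = g⁻¹ * c * g * q := by group
  π := S.π.comp (back g)
  π_surj := S.π_surj.comp (back_surj g)
  π_ker c := by
    show S.π (back g c) = 1 ↔ _
    rw [S.π_ker, mem_Qc]
    rfl

/-- The projection of a subgroup of the centraliser. -/
noncomputable def proj {D : Subgroup G} (hD : D ≤ centralizer ({z} : Set G)) : D →* Cfsg.PSp 2 (ZMod 3) :=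
  S.π.comp (Subgroup.inclusion hD)

theorem card_split {D : Subgroup G} (hD : D ≤ centralizer ({z} : Set G)) :
    Nat.card D = Nat.card ↥(D ⊓ Q) * Nat.card (S.proj hD).range := by
  rw [(S.proj hD).ker.card_eq_card_quotient_mul_card_subgroup,
    Nat.card_congr (QuotientGroup.quotientKerEquivRange (S.proj hD)).toEquiv, mul_comm]
  congr 1
  refine Nat.card_congr ⟨fun d => ⟨d.1.1, d.1.2, ?_⟩, fun d => ⟨⟨d.1, d.2.1⟩, ?_⟩, fun _ => rfl, fun _ => rfl⟩
  · exact (S.π_ker _).1 (MonoidHom.mem_ker.1 d.2)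
  · exact MonoidHom.mem_ker.2 ((S.π_ker _).2 d.2.2)

theorem proj_range_pgroup {D : Subgroup G} (hD : D ≤ centralizer ({z} : Set G)) (h2 : IsPGroup 2 D) :
    IsPGroup 2 (S.proj hD).range := by
  rw [MonoidHom.range_eq_map]
  exact (h2.to_subgroup ⊤).map _

theorem card_proj_le {D : Subgroup G} (hD : D ≤ centralizer ({z} : Set G)) (h2 : IsPGroup 2 D) :
    Nat.card (S.proj hD).range ≤ 64 := by
  have : Finite (Cfsg.PSp 2 (ZMod 3)) := Nat.finite_of_card_ne_zero (by rw [target_card]; norm_num)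
  obtain ⟨g, hg⟩ := exists_into_syl (S.proj_range_pgroup hD h2)
  rw [← card_syl, ← Subgroup.card_map_of_injective (K := (S.proj hD).range)
    (f := (MulAut.conj g).toMonoidHom) (MulAut.conj g).injective]
  exact Subgroup.card_le_of_le (by rintro _ ⟨y, hy, rfl⟩; exact hg y hy)

theorem card_proj_abelian {D : Subgroup G} (hD : D ≤ centralizer ({z} : Set G)) (h2 : IsPGroup 2 D)
    (hc : ∀ a ∈ D, ∀ b ∈ D, a * b * a⁻¹ * b⁻¹ ∈ Q) : Nat.card (S.proj hD).range ≤ 16 := by
  refine no_abelian (S.proj_range_pgroup hD h2) ?_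
  rintro _ ⟨a, rfl⟩ _ ⟨b, rfl⟩
  rw [← mul_inv_eq_iff_eq_mul, ← mul_inv_eq_one]
  have h : S.proj hD (a * b * a⁻¹ * b⁻¹) = 1 := (S.π_ker _).2 (hc a a.2 b b.2)
  simpa [map_mul, mul_assoc] using h

theorem pgroup : IsPGroup 2 Q := IsPGroup.of_card (n := 9) (by rw [S.card]; norm_num)

/-- The centraliser in `Q` of a non-central element has index two. -/
theorem half_card {s : G} (hs : s ∈ Q) (h1 : s ≠ 1) (h2 : s ≠ z) :
    256 ≤ Nat.card ↥(Q ⊓ centralizer ({s} : Set G)) := by
  obtain ⟨y, hy, hys⟩ := S.extra.exists_conj_eq hs h1 h2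
  have hsub : (Q : Set G) ⊆ ↑(Q ⊓ centralizer ({s} : Set G)) ∪ (fun q => y * q) '' ↑(Q ⊓ centralizer ({s} : Set G)) := by
    intro q hq
    rcases S.extra.split_conj hs hy hys hq with e | e
    · exact Or.inl ⟨hq, Subgroup.mem_centralizer_singleton_iff.2 e⟩
    · exact Or.inr ⟨y⁻¹ * q, ⟨(mul_mem (inv_mem hy) hq : y⁻¹ * q ∈ Q), Subgroup.mem_centralizer_singleton_iff.2 e⟩,
        mul_inv_cancel_left y q⟩
  have hA : Nat.card ↥(Q ⊓ centralizer ({s} : Set G)) = (↑(Q ⊓ centralizer ({s} : Set G)) : Set G).ncard := rfl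
  have h := (Set.ncard_le_ncard hsub (Set.toFinite _)).trans
    ((Set.ncard_union_le _ _).trans (Nat.add_le_add_left (Set.ncard_image_le (Set.toFinite _)) _))
  have hQ : (Q : Set G).ncard = 512 := S.card
  omega

theorem mem_inter {s q : G} : q ∈ Q ⊓ centralizer ({s} : Set G) ↔ q ∈ Q ∧ q * s = s * q := by
  rw [Subgroup.mem_inf, Subgroup.mem_centralizer_singleton_iff]

/-- A conjugate of `z` in `Q` has `z` in its own subgroup. -/
theorem z_mem_of_mem {g : G} (hx : g * z * g⁻¹ ∈ Q) (hne : g * z * g⁻¹ ≠ z) : z ∈ Qc Q g := by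
  set x := g * z * g⁻¹ with hxd
  let T := S.conj g
  by_contra hz
  have hx1 : x ≠ 1 := by simp [hxd, S.ne]
  obtain ⟨y, hy, hys⟩ := S.extra.exists_conj_eq hx hx1 hne
  have hC := S.half_card hx hx1 hne
  have hxx : x * x = 1 := T.zz
  set C := Q ⊓ centralizer ({x} : Set G)
  have hCle : C ≤ centralizer ({x} : Set G) := inf_le_right
  have h2 : IsPGroup 2 C := S.pgroup.to_le inf_le_left
  have hsplit := T.card_split hCle
  have himg := T.card_proj_le hCle h2
  have hK : Nat.card ↥(C ⊓ Qc Q g) ≤ 2 := by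
    have hsub : (↑(C ⊓ Qc Q g) : Set G) ⊆ {1, x} := by
      intro k hk
      obtain ⟨⟨hkQ, hkc⟩, hkQx⟩ := hk
      have hkc' := Subgroup.mem_centralizer_singleton_iff.1 hkc
      have hcomm : ∀ a ∈ Q, a * x = x * a → a * k = k * a := by
        intro a ha hax
        rcases S.extra.conj_cases ha hkQ with e | e
        · exact mul_inv_eq_iff_eq_mul.1 e
        · refine absurd ?_ hz
          have := mul_mem (T.norm a hax k hkQx) (inv_mem hkQx)
          rwa [e, mul_inv_cancel_right] at this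
      rcases S.extra.double_centralizer hx hy hys hkQ hcomm with e | e | e | e
      · exact Or.inl e
      · exact absurd (e ▸ hkQx) hz
      · exact Or.inr (by rw [e, inv_eq_of_mul_eq_one_right hxx]; rfl)
      · refine absurd ?_ hz
        rw [inv_eq_of_mul_eq_one_right hxx] at e
        have := mul_mem (e ▸ hkQx) T.zQ
        rwa [mul_assoc, hxx, mul_one] at this
    calc Nat.card ↥(C ⊓ Qc Q g) = (↑(C ⊓ Qc Q g) : Set G).ncard := rfl
      _ ≤ ({1, x} : Set G).ncard := Set.ncard_le_ncard hsub (Set.toFinite _)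
      _ ≤ 2 := (Set.ncard_insert_le _ _).trans (by simp)
  have : Nat.card C ≤ 2 * 64 := hsplit ▸ Nat.mul_le_mul hK himg
  omega

/-- A conjugate of `z` outside `Q` has its own subgroup not containing `z`. -/
theorem z_notMem {g : G} (hx : g * z * g⁻¹ ∉ Q) : z ∉ Qc Q g := by
  intro hz
  have hne : g⁻¹ * z * g⁻¹⁻¹ ≠ z := by
    intro e
    apply hx
    have : g * z * g⁻¹ = z := by
      calc g * z * g⁻¹ = g * (g⁻¹ * z * g⁻¹⁻¹) * g⁻¹ := by rw [e]
        _ = z := by group
    rw [this]; exact S.zQ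
  have h := S.z_mem_of_mem (g := g⁻¹) (by rw [mem_Qc] at hz; simpa using hz) hne
  rw [mem_Qc] at h
  exact hx (by simpa using h)

end Ctx

end CfsgLib.U6Large
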