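import Cfsg.Agent.Lib.U6Large.Coord
import Cfsg.Agent.Lib.U6Large.Pair

/-! In the unitary shape no conjugate of the involution other than itself lies in the large subgroup. -/

set_option autoImplicit false
set_option linter.unusedSectionVars false
set_option linter.style.longLine false

namespace CfsgLib.U6Large

open Subgroup CfsgLib.SpFourThree CfsgLib.ThreeTrans.UCent
open CfsgLib.ThreeTrans.UCent.W (mk')

universe u

variable {G : Type u} [Group G] [Finite G] {z : G} {Q : Subgroup G} {S : Ctx z Q}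

namespace Ctx.Natural

variable (N : S.Natural)
include N

theorem base_case {g : G} (hx : g * z * g⁻¹ ∈ Q) (hne : g * z * g⁻¹ ≠ z) (hco : N.co (g * z * g⁻¹) = base) :
    False := by
  let T := S.conj g
  have hz : z ∈ Qc Q g := S.z_mem_of_mem hx hne
  set x := g * z * g⁻¹ with hxd
  have hxx : x * x = 1 := T.zz
  have hxH : x ∈ centralizer ({z} : Set G) := S.le hx
  set D := Qc Q g ⊓ centralizer ({z} : Set G) with hD
  have hD256 : 256 ≤ Nat.card D := T.half_card hz S.ne (Ne.symm hne)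
  have hDle : D ≤ centralizer ({z} : Set G) := inf_le_right
  have himg : Nat.card (S.proj hDle).range ≤ 16 := by
    refine S.card_proj_abelian hDle (T.pgroup.to_le inf_le_left) fun a ha b hb => ?_
    rcases T.extra.conj_cases ha.1 hb.1 with e | e
    · rw [e, mul_inv_cancel]; exact one_mem _
    · rw [e, mul_inv_cancel_right]; exact hx
  have hK : 16 ≤ Nat.card ↥(D ⊓ Q) := by
    have h := S.card_split hDle
    by_contra hlt
    have : Nat.card D ≤ 15 * 16 := h ▸ Nat.mul_le_mul (by omega) himg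
    omega
  obtain ⟨y, hy, hy'⟩ : ∃ y ∈ D ⊓ Q, y ∉ ({1, z, x, z * x} : Set G) := by
    by_contra hn
    push Not at hn
    have h4 : ({1, z, x, z * x} : Set G).ncard ≤ 4 := by
      refine (Set.ncard_insert_le _ _).trans (Nat.succ_le_succ ?_)
      refine (Set.ncard_insert_le _ _).trans (Nat.succ_le_succ ?_)
      exact (Set.ncard_insert_le _ _).trans (by simp)
    have h := Set.ncard_le_ncard (fun a ha => hn a ha : (↑(D ⊓ Q) : Set G) ⊆ _) (Set.toFinite _)
    have e : Nat.card ↥(D ⊓ Q) = (↑(D ⊓ Q) : Set G).ncard := rfl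
    omega
  simp only [Set.mem_insert_iff, Set.mem_singleton_iff, not_or] at hy'
  have hw0 : N.co y ≠ 0 := fun e => by
    rcases (N.co_zero hy.2).1 e with k | k
    exacts [hy'.1 k, hy'.2.1 k]
  have hw1 : N.co y ≠ base := fun e => by
    rcases N.co_eq hy.2 hx (e.trans hco.symm) with k | k
    exacts [hy'.2.2.1 k, hy'.2.2.2 k]
  have hwb : bt (N.co y) base = false := by
    rw [← hco]
    exact (N.comm_iff hy.2 hx).1 (T.extra.comm_z hy.1.1)
  obtain ⟨L, hL, hsum⟩ := span_words hwb hw0 hw1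
  have key : ∀ L' : List (List ℕ), (∀ l ∈ L', okW l = true ∧ wordW l base = base) →
      ∃ y' ∈ D ⊓ Q, N.co y' = (L'.map fun l => wordW l (N.co y)).sum := by
    intro L'
    induction L' with
    | nil => exact fun _ => ⟨1, one_mem _, by simp [N.co_one]⟩
    | cons l L' ih =>
      intro hl
      obtain ⟨y', hy'', e'⟩ := ih fun m hm => hl m (List.mem_cons_of_mem l hm)
      obtain ⟨hok, hfix⟩ := hl l List.mem_cons_self
      obtain ⟨c, hc⟩ := S.π_surj (ev l)
      obtain ⟨d, hd, hdx⟩ : ∃ d : centralizer ({z} : Set G), S.π d = ev l ∧ (d : G) * x = x * (d : G) := by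
        rcases N.co_eq (S.conj_mem c hx) hx (by rw [N.co_conj c hx, hc, hco, N.gW_ev hok, hfix]) with e | e
        · exact ⟨c, hc, mul_inv_eq_iff_eq_mul.1 e⟩
        · obtain ⟨q, hq, hqx⟩ := S.extra.exists_conj_eq hx (by simp [hxd, S.ne]) hne
          refine ⟨⟨q, S.le hq⟩ * c, ?_, ?_⟩
          · rw [map_mul, (S.π_ker ⟨q, S.le hq⟩).2 hq, one_mul, hc]
          · rw [← mul_inv_eq_iff_eq_mul]
            calc q * (c : G) * x * (q * (c : G))⁻¹ = q * ((c : G) * x * (c : G)⁻¹) * q⁻¹ := by group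
              _ = (q * z) * x * q⁻¹ := by rw [e]; group
              _ = (z * q) * x * q⁻¹ := by rw [S.extra.comm_z hq]
              _ = z * (q * x * q⁻¹) := by group
              _ = x := by rw [hqx, ← mul_assoc, S.zz, one_mul]
      refine ⟨(d : G) * y * (d : G)⁻¹ * y', mul_mem ⟨⟨T.norm d hdx y hy.1.1,
        (mul_mem (mul_mem d.2 hy.1.2) (inv_mem d.2) : (d : G) * y * (d : G)⁻¹ ∈ centralizer ({z} : Set G))⟩, S.conj_mem d hy.2⟩ hy'', ?_⟩
      rw [N.co_mul (S.conj_mem d hy.2) hy''.2, N.co_conj d hy.2, hd, N.gW_ev hok, e']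
      simp
  obtain ⟨y1, hy1, e1⟩ := key L hL
  obtain ⟨y0, hy0, e0⟩ : ∃ y0 ∈ D ⊓ Q, N.co y0 = om base := by
    rcases hsum with e | e
    · exact ⟨y1, hy1, e1.trans e⟩
    · refine ⟨x * y1, mul_mem ⟨⟨T.zQ, hxH⟩, hx⟩ hy1, ?_⟩
      rw [N.co_mul hx hy1.2, e1, e, hco, W.add_cancel]
  obtain ⟨j, hj, hnc⟩ : ∃ j ∈ D, j * y0 ≠ y0 * j := by
    by_contra hn
    push Not at hn
    obtain ⟨s, hs, hsz⟩ := T.extra.exists_conj_eq hz S.ne (Ne.symm hne)
    have ne0 : om base ≠ 0 := by decide +kernel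
    have ne1 : om base ≠ base := by decide +kernel
    rcases T.extra.double_centralizer hz hs hsz hy0.1.1 (fun a ha haz =>
      hn a ⟨ha, Subgroup.mem_centralizer_singleton_iff.2 haz⟩) with e | e | e | e
    · exact ne0 (by rw [← e0, e, N.co_one])
    · exact ne1 (by rw [← e0, e, hco])
    · exact ne0 (by rw [← e0, e, N.co_inv S.zQ, N.co_z])
    · exact ne1 (by rw [← e0, e, N.co_mul hx (inv_mem S.zQ), N.co_inv S.zQ, N.co_z, add_zero, hco])
  have hjc : j * y0 * j⁻¹ = x * y0 :=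
    (T.extra.conj_cases hj.1 hy0.1.1).resolve_left fun e => hnc (mul_inv_eq_iff_eq_mul.1 e)
  have hjx : j * x * j⁻¹ = x := mul_inv_eq_iff_eq_mul.2 (T.extra.comm_z hj.1)
  have h1 : N.gW (S.π ⟨j, hj.2⟩) base = base := by
    rw [← hco, ← N.co_conj ⟨j, hj.2⟩ hx]
    show N.co (j * x * j⁻¹) = N.co x
    rw [hjx]
  have h2 := N.co_conj ⟨j, hj.2⟩ hy0.2
  rw [e0, N.gW_om, h1] at h2
  change N.co (j * y0 * j⁻¹) = om base at h2
  rw [hjc, N.co_mul hx hy0.2, hco, e0, add_eq_right] at h2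
  exact base_ne h2

/-- No conjugate of `z` other than `z` lies in `Q`. -/
theorem noFusion : NoFusion z Q := by
  intro g hx
  by_contra hne
  have hx1 : g * z * g⁻¹ ≠ 1 := by simp [S.ne]
  have hp : iso (N.co (g * z * g⁻¹)) = true := by
    refine iso_iff.2 ⟨(N.sq_iff hx).1 (S.conj g).zz, fun e => ?_⟩
    rcases (N.co_zero hx).1 e with k | k
    exacts [hx1 k, hne k]
  obtain ⟨a, ha⟩ := N.exists_to_base hp
  obtain ⟨c, rfl⟩ := S.π_surj a
  have e : (c : G) * g * z * ((c : G) * g)⁻¹ = (c : G) * (g * z * g⁻¹) * (c : G)⁻¹ := by group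
  refine N.base_case (g := (c : G) * g) (e ▸ S.conj_mem c hx) (fun k => hne ?_) ?_
  · rw [e] at k
    calc g * z * g⁻¹ = (c : G)⁻¹ * ((c : G) * (g * z * g⁻¹) * (c : G)⁻¹) * (c : G) := by group
      _ = (c : G)⁻¹ * (z * (c : G)) := by rw [k, mul_assoc]
      _ = z := by rw [← S.mem_H.1 c.2, inv_mul_cancel_left]
  · rw [e, N.co_conj c hx, ha]

end Ctx.Natural

end CfsgLib.U6Large
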