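import Mathlib
import Cfsg.Agent.Lib.Recognition.SpFourThree.Target

/-! Seven generators of `PSp₄(3)`: equalities of words by matrices over the prime field, a Sylow
2-subgroup, the classes of involutions and two facts about the 2-subgroups. -/

set_option autoImplicit false
set_option maxRecDepth 100000
set_option maxHeartbeats 1000000
set_option linter.style.longLine false

namespace CfsgLib.U6Large

open Matrix CfsgLib.SpFourThree

/-- The matrices of the seven generators. -/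
def genC : List (List ℕ) := [
  [1, 0, 1, 0, 0, 1, 0, 0, 0, 0, 1, 0, 0, 0, 0, 1],
  [1, 0, 0, 1, 0, 1, 1, 0, 0, 0, 1, 0, 0, 0, 0, 1],
  [1, 0, 0, 0, 0, 1, 0, 1, 0, 0, 1, 0, 0, 0, 0, 1],
  [1, 1, 0, 0, 0, 2, 0, 0, 0, 0, 1, 0, 0, 0, 1, 2],
  [1, 0, 0, 0, 0, 2, 0, 0, 0, 0, 1, 0, 0, 0, 0, 2],
  [1, 0, 0, 0, 1, 2, 0, 0, 0, 0, 1, 1, 0, 0, 0, 2],
  [1, 0, 0, 0, 0, 0, 0, 2, 0, 0, 1, 0, 0, 1, 0, 0]]

/-- Words for four standard generators. -/
def letWords : List (List ℕ) := [[2, 2], [4, 5], [5, 3, 1, 4, 5, 3], [3, 4, 5, 6, 3, 4, 5, 4, 1, 3, 0]]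

/-- A Sylow 2-subgroup. -/
def sylW : List (List ℕ) := [
  [],
  [3],
  [5],
  [5, 3],
  [4, 5, 3, 4],
  [3, 4, 5, 3, 4],
  [4, 5, 3, 4, 3],
  [3, 4, 5, 3, 4, 3],
  [1, 6, 4, 5, 6, 1, 1],
  [1, 6, 5, 1, 6, 5, 6],
  [1, 6, 5, 6, 5, 3, 6],
  [2, 6, 5, 6, 3, 2, 6],
  [6, 2, 3, 6, 5, 6, 2],
  [6, 5, 3, 6, 5, 6, 1],
  [6, 5, 6, 1, 5, 6, 1],
  [0, 0, 5, 6, 5, 6, 3, 2],
  [0, 5, 6, 5, 2, 6, 2, 2],
  [1, 6, 4, 5, 6, 3, 1, 0],
  [1, 6, 5, 1, 6, 5, 6, 3],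
  [1, 6, 5, 1, 6, 5, 6, 5],
  [1, 6, 5, 6, 5, 3, 6, 3],
  [1, 6, 5, 6, 5, 3, 6, 5],
  [2, 2, 6, 5, 2, 6, 5, 0],
  [2, 3, 6, 5, 6, 5, 0, 0],
  [2, 6, 5, 6, 3, 2, 6, 3],
  [2, 6, 5, 6, 3, 2, 6, 5],
  [3, 6, 2, 3, 6, 5, 6, 2],
  [3, 6, 5, 3, 6, 5, 6, 1],
  [3, 6, 5, 6, 1, 5, 6, 1],
  [5, 1, 6, 4, 5, 6, 1, 1],
  [5, 1, 6, 5, 1, 6, 5, 6],
  [5, 1, 6, 5, 6, 5, 3, 6],
  [5, 6, 5, 3, 6, 5, 6, 1],
  [5, 6, 5, 6, 1, 5, 6, 1],
  [6, 1, 5, 6, 1, 5, 3, 6],
  [6, 2, 3, 6, 5, 6, 5, 2],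
  [6, 5, 3, 6, 5, 6, 1, 5],
  [6, 5, 6, 0, 5, 3, 6, 0],
  [6, 5, 6, 1, 5, 6, 1, 5],
  [0, 0, 5, 6, 5, 6, 1, 5, 0],
  [0, 5, 2, 6, 5, 1, 6, 2, 0],
  [0, 5, 6, 4, 5, 1, 6, 2, 2],
  [0, 5, 6, 5, 6, 5, 6, 5, 0],
  [1, 5, 6, 0, 5, 6, 5, 0, 0],
  [1, 6, 0, 5, 6, 5, 2, 6, 0],
  [1, 6, 5, 6, 5, 3, 6, 5, 3],
  [2, 2, 6, 5, 2, 6, 2, 1, 0],
  [2, 2, 6, 5, 2, 6, 5, 3, 0],
  [2, 3, 6, 5, 6, 2, 3, 2, 0],
  [2, 6, 1, 0, 5, 6, 5, 2, 0],
  [5, 1, 6, 4, 5, 6, 3, 1, 0],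
  [5, 2, 2, 6, 5, 2, 6, 5, 0],
  [5, 3, 6, 5, 3, 6, 5, 6, 1],
  [5, 3, 6, 5, 6, 1, 5, 6, 1],
  [6, 0, 0, 5, 6, 5, 6, 0, 0],
  [6, 0, 5, 2, 6, 5, 6, 1, 0],
  [0, 5, 6, 5, 6, 5, 6, 2, 1, 0],
  [0, 5, 6, 5, 6, 5, 6, 5, 3, 0],
  [1, 4, 5, 3, 6, 5, 6, 2, 0, 0],
  [1, 6, 1, 5, 3, 6, 5, 6, 0, 0],
  [4, 1, 5, 6, 5, 2, 6, 5, 1, 1],
  [4, 5, 1, 3, 6, 0, 5, 6, 1, 1],
  [5, 6, 0, 5, 2, 6, 5, 6, 1, 0],
  [6, 0, 0, 5, 6, 5, 6, 3, 0, 0]]

/-- The involutions of the Sylow subgroup with conjugating words. -/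
def invW : List (ℕ × ℕ × List ℕ) := [
  (1, 0, []),
  (2, 0, [4, 5, 3, 4]),
  (3, 1, []),
  (4, 1, [4]),
  (7, 1, [3, 4]),
  (8, 0, [6, 5, 4]),
  (11, 0, [2, 3, 6, 5, 6]),
  (12, 0, [2, 2, 6, 5, 6]),
  (17, 1, [6, 3, 4, 2]),
  (24, 1, [2, 6, 1, 1]),
  (25, 1, [4, 0, 0, 5, 6]),
  (26, 1, [6, 2, 6, 4, 0]),
  (29, 1, [4, 5, 6, 3, 4]),
  (35, 1, [4, 1, 5, 6, 0]),
  (39, 1, [0, 0, 5, 6]),
  (40, 1, [6, 5, 1, 3, 6]),
  (42, 1, [2, 3, 6, 5, 3, 6, 0]),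
  (43, 1, [1, 5, 6, 0]),
  (45, 1, [3, 6, 2, 6, 0]),
  (46, 1, [6, 2, 6, 0]),
  (48, 1, [2, 3, 6]),
  (49, 1, [6, 3, 1, 5, 6]),
  (50, 1, [2, 3, 6, 5, 6, 0]),
  (51, 1, [5, 6, 2, 6, 0]),
  (52, 1, [3, 2, 3, 6]),
  (53, 1, [0, 5, 6, 1]),
  (61, 1, [2, 6, 0, 5, 2, 6])]

/-- Their matrices. -/
def sylC : List (List ℕ) := [
  [1, 0, 0, 0, 0, 1, 0, 0, 0, 0, 1, 0, 0, 0, 0, 1],
  [1, 1, 0, 0, 0, 2, 0, 0, 0, 0, 1, 0, 0, 0, 1, 2],
  [1, 0, 0, 0, 1, 2, 0, 0, 0, 0, 1, 1, 0, 0, 0, 2],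
  [1, 1, 0, 0, 1, 2, 0, 0, 0, 0, 2, 2, 0, 0, 2, 1],
  [1, 2, 0, 0, 2, 2, 0, 0, 0, 0, 2, 1, 0, 0, 1, 1],
  [0, 1, 0, 0, 1, 1, 0, 0, 0, 0, 2, 1, 0, 0, 1, 0],
  [1, 2, 0, 0, 2, 0, 0, 0, 0, 0, 0, 2, 0, 0, 2, 2],
  [0, 2, 0, 0, 1, 0, 0, 0, 0, 0, 0, 2, 0, 0, 1, 0],
  [0, 0, 0, 2, 0, 0, 1, 0, 0, 1, 0, 0, 2, 0, 0, 0],
  [1, 1, 2, 2, 2, 1, 1, 2, 1, 1, 1, 1, 2, 1, 2, 1],
  [2, 1, 2, 1, 2, 2, 2, 2, 1, 2, 2, 1, 1, 1, 2, 2],
  [1, 1, 0, 2, 1, 2, 1, 0, 0, 2, 1, 1, 1, 0, 1, 2],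
  [1, 1, 0, 1, 1, 2, 2, 0, 0, 1, 1, 1, 2, 0, 1, 2],
  [1, 1, 1, 1, 2, 1, 2, 1, 2, 2, 1, 1, 1, 2, 2, 1],
  [1, 2, 2, 1, 1, 1, 2, 2, 1, 2, 1, 2, 1, 1, 1, 1],
  [0, 1, 1, 2, 1, 2, 0, 2, 1, 0, 2, 2, 2, 2, 2, 0],
  [2, 0, 1, 1, 1, 2, 0, 1, 1, 0, 1, 1, 2, 1, 0, 1],
  [0, 0, 2, 1, 0, 0, 1, 0, 0, 2, 0, 0, 2, 2, 0, 0],
  [1, 0, 1, 1, 2, 1, 0, 1, 1, 0, 2, 2, 2, 1, 0, 2],
  [2, 2, 2, 0, 0, 2, 1, 2, 2, 2, 1, 0, 0, 2, 2, 1],
  [2, 1, 0, 2, 2, 0, 1, 1, 1, 2, 0, 2, 1, 0, 1, 1],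
  [0, 2, 2, 1, 1, 1, 2, 0, 0, 1, 2, 1, 2, 2, 2, 0],
  [1, 0, 1, 0, 1, 1, 1, 1, 1, 2, 2, 1, 0, 1, 0, 2],
  [2, 2, 1, 0, 2, 0, 2, 2, 1, 2, 0, 1, 0, 2, 1, 2],
  [1, 0, 2, 1, 1, 2, 1, 0, 0, 1, 2, 2, 1, 1, 0, 1],
  [2, 2, 0, 1, 0, 1, 1, 1, 2, 1, 1, 0, 1, 0, 1, 2],
  [2, 0, 2, 1, 2, 1, 1, 0, 0, 1, 1, 1, 1, 1, 0, 2],
  [0, 2, 0, 2, 1, 2, 1, 2, 2, 2, 1, 1, 1, 0, 2, 0],
  [2, 0, 1, 0, 2, 2, 1, 1, 1, 2, 1, 2, 0, 1, 0, 1],
  [0, 0, 0, 2, 0, 0, 2, 2, 2, 1, 0, 0, 1, 0, 0, 0],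
  [1, 1, 2, 2, 2, 0, 1, 0, 0, 2, 0, 2, 1, 2, 1, 2],
  [2, 1, 2, 1, 0, 2, 0, 2, 2, 0, 1, 0, 2, 2, 1, 1],
  [1, 1, 1, 1, 2, 0, 2, 0, 0, 1, 0, 2, 2, 1, 1, 2],
  [1, 2, 2, 1, 0, 1, 0, 2, 2, 0, 2, 0, 2, 2, 2, 2],
  [0, 2, 0, 1, 1, 2, 2, 1, 1, 1, 1, 1, 2, 0, 2, 0],
  [2, 2, 0, 2, 0, 1, 2, 2, 1, 2, 1, 0, 2, 0, 1, 2],
  [2, 2, 1, 0, 0, 2, 2, 1, 1, 1, 1, 0, 0, 1, 2, 1],
  [1, 2, 0, 2, 1, 0, 1, 1, 1, 2, 0, 1, 1, 0, 2, 2],
  [0, 1, 2, 1, 2, 2, 2, 0, 0, 1, 1, 2, 2, 2, 1, 0],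
  [2, 1, 0, 2, 0, 1, 2, 1, 2, 2, 1, 0, 2, 0, 2, 2],
  [2, 0, 2, 1, 0, 2, 1, 1, 1, 2, 1, 0, 2, 2, 0, 1],
  [0, 1, 2, 1, 1, 2, 0, 1, 2, 0, 2, 2, 1, 1, 2, 0],
  [0, 0, 1, 0, 0, 0, 0, 1, 2, 0, 0, 0, 0, 2, 0, 0],
  [1, 2, 0, 2, 0, 2, 2, 1, 2, 2, 2, 0, 2, 0, 1, 1],
  [0, 2, 1, 1, 2, 2, 0, 2, 1, 0, 2, 1, 1, 2, 1, 0],
  [0, 1, 0, 2, 1, 0, 2, 0, 0, 2, 0, 2, 2, 0, 2, 0],
  [1, 0, 1, 1, 2, 2, 1, 0, 0, 1, 2, 1, 1, 2, 0, 1],
  [1, 1, 1, 0, 1, 0, 2, 2, 1, 2, 0, 2, 0, 2, 2, 1],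
  [1, 0, 2, 2, 2, 2, 2, 0, 0, 2, 2, 1, 2, 1, 0, 1],
  [1, 0, 2, 1, 0, 1, 1, 1, 1, 2, 2, 0, 2, 2, 0, 2],
  [0, 0, 2, 1, 0, 0, 1, 1, 2, 1, 0, 0, 1, 1, 0, 0],
  [1, 0, 1, 0, 0, 2, 0, 2, 1, 0, 2, 0, 0, 2, 0, 1],
  [0, 2, 0, 2, 2, 0, 2, 0, 0, 2, 0, 1, 2, 0, 1, 0],
  [2, 0, 1, 0, 0, 1, 0, 2, 1, 0, 1, 0, 0, 2, 0, 2],
  [0, 2, 2, 2, 1, 0, 2, 1, 1, 1, 0, 1, 1, 2, 2, 0],
  [2, 1, 1, 0, 1, 0, 1, 2, 1, 1, 0, 2, 0, 2, 2, 2],
  [0, 0, 1, 1, 0, 0, 0, 2, 2, 0, 0, 0, 2, 1, 0, 0],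
  [0, 0, 1, 0, 0, 0, 1, 2, 2, 2, 0, 0, 0, 1, 0, 0],
  [0, 2, 1, 1, 1, 0, 1, 2, 2, 2, 0, 1, 2, 1, 2, 0],
  [2, 1, 2, 0, 1, 0, 2, 1, 2, 2, 0, 2, 0, 1, 2, 2],
  [1, 2, 1, 0, 2, 2, 0, 1, 1, 0, 1, 2, 0, 1, 2, 2],
  [0, 0, 2, 2, 0, 0, 2, 1, 2, 2, 0, 0, 2, 1, 0, 0],
  [2, 1, 1, 0, 1, 1, 0, 1, 1, 0, 2, 1, 0, 1, 1, 1],
  [0, 1, 1, 1, 1, 1, 0, 2, 1, 0, 1, 2, 1, 2, 2, 0]]

/-- The product of two matrices given by their sixteen entries. -/
def mulC (a b : List ℕ) : List ℕ :=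
  (List.range 16).map fun n => (a.getD (4 * (n / 4)) 0 * b.getD (n % 4) 0 + a.getD (4 * (n / 4) + 1) 0 * b.getD (4 + n % 4) 0 +
    a.getD (4 * (n / 4) + 2) 0 * b.getD (8 + n % 4) 0 + a.getD (4 * (n / 4) + 3) 0 * b.getD (12 + n % 4) 0) % 3

/-- The identity. -/
def oneC : List ℕ := [1, 0, 0, 0, 0, 1, 0, 0, 0, 0, 1, 0, 0, 0, 0, 1]

/-- Equality up to sign. -/
def eqC (a b : List ℕ) : Bool := a == b || a == b.map fun x => (3 - x) % 3

/-- The matrix of a word. -/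
def wordC : List ℕ → List ℕ
  | [] => oneC
  | j :: l => mulC (genC.getD j oneC) (wordC l)

/-- The matrix of sixteen entries. -/
def mat (c : List ℕ) : Matrix (Fin 2 ⊕ Fin 2) (Fin 2 ⊕ Fin 2) (ZMod 3) :=
  Matrix.of fun i j => ((c.getD (4 * Model.idx i + Model.idx j) 0 : ℕ) : ZMod 3)

theorem mat_one : mat oneC = 1 := by decide +kernel

theorem idx_lt : ∀ i, Model.idx i < 4 := by decide

theorem mat_mul (a b : List ℕ) : mat (mulC a b) = mat a * mat b := by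
  ext i j
  have hn : ∀ n < 16, (mulC a b).getD n 0 = (a.getD (4 * (n / 4)) 0 * b.getD (n % 4) 0 +
      a.getD (4 * (n / 4) + 1) 0 * b.getD (4 + n % 4) 0 + a.getD (4 * (n / 4) + 2) 0 * b.getD (8 + n % 4) 0 +
      a.getD (4 * (n / 4) + 3) 0 * b.getD (12 + n % 4) 0) % 3 := fun n hn => by
    rw [mulC, List.getD_eq_getElem _ _ (by simpa using hn), List.getElem_map, List.getElem_range]
  have hi := idx_lt i
  have hj := idx_lt j
  simp only [mat, Matrix.mul_apply, Matrix.of_apply]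
  rw [hn _ (by omega), show (4 * Model.idx i + Model.idx j) / 4 = Model.idx i by omega,
    show (4 * Model.idx i + Model.idx j) % 4 = Model.idx j by omega, ZMod.natCast_mod,
    Fintype.sum_sum_type, Fin.sum_univ_two, Fin.sum_univ_two]
  simp only [Model.idx, Sum.elim_inl, Sum.elim_inr, Fin.val_zero, Fin.val_one]
  push_cast
  ring

theorem mat_neg : ∀ x < 3, (((3 - x) % 3 : ℕ) : ZMod 3) = -(x : ZMod 3) := by decide

theorem mat_of_eqC {a b : List ℕ} (h : eqC a b = true) (hb : ∀ x ∈ b, x < 3) : mat a = mat b ∨ mat a = -mat b := by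
  rcases Bool.or_eq_true _ _ ▸ h with h | h
  · exact Or.inl (by rw [beq_iff_eq.1 h])
  · refine Or.inr ?_
    rw [beq_iff_eq.1 h]
    ext i j
    simp only [mat, Matrix.neg_apply, Matrix.of_apply, List.getD_eq_getElem?_getD, List.getElem?_map]
    cases e : b[4 * Model.idx i + Model.idx j]? with
    | none => simp
    | some x => exact mat_neg x (hb x (List.mem_of_getElem? e))

theorem gen_mem : ∀ j < 7, mat (genC.getD j oneC) * Matrix.J (Fin 2) (ZMod 3) * (mat (genC.getD j oneC))ᵀ =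
    Matrix.J (Fin 2) (ZMod 3) := by decide +kernel

theorem gen_mem' (j : ℕ) : mat (genC.getD j oneC) ∈ symplecticGroup (Fin 2) (ZMod 3) := by
  refine SymplecticGroup.mem_iff.2 ?_
  rcases Nat.lt_or_ge j 7 with h | h
  · exact gen_mem j h
  · rw [List.getD_eq_default genC oneC (by simpa [genC] using h), mat_one]
    simp

/-- A generator. -/
def spGen (j : ℕ) : Sp43 := ⟨mat (genC.getD j oneC), gen_mem' j⟩

/-- The product of a word in the symplectic group. -/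
def spW : List ℕ → Sp43
  | [] => 1
  | j :: l => spGen j * spW l

theorem spW_mat : ∀ l, (spW l).1 = mat (wordC l)
  | [] => mat_one.symm
  | j :: l => by
    show (spGen j).1 * (spW l).1 = _
    rw [spW_mat l, wordC, mat_mul]
    rfl

theorem spW_append : ∀ l m, spW (l ++ m) = spW l * spW m
  | [], m => (one_mul _).symm
  | j :: l, m => by show spGen j * spW (l ++ m) = _; rw [spW_append l m, ← mul_assoc]; rfl

/-- The product of a word. -/
noncomputable def ev (l : List ℕ) : Cfsg.PSp 2 (ZMod 3) := QuotientGroup.mk' _ (spW l)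

theorem ev_nil : ev [] = 1 := map_one _

theorem ev_append (l m : List ℕ) : ev (l ++ m) = ev l * ev m := by rw [ev, spW_append, map_mul]; rfl

theorem ev_cons (j : ℕ) (l : List ℕ) : ev (j :: l) = ev [j] * ev l := ev_append [j] l

theorem wordC_lt : ∀ l, ∀ x ∈ wordC l, x < 3
  | [], x, hx => by
    simp [wordC, oneC] at hx
    omega
  | j :: l, x, hx => by
    simp only [wordC, mulC, List.mem_map] at hx
    obtain ⟨n, -, rfl⟩ := hx
    exact Nat.mod_lt _ (by norm_num)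

theorem ev_eq' {l m : List ℕ} {c : List ℕ} (hc : (spW l).1 = mat c) (h : eqC c (wordC m) = true) :
    ev l = ev m := by
  refine (QuotientGroup.eq.2 ?_).symm
  rw [CfsgLib.Sp.mem_center_iff]
  have hm : (spW m)⁻¹.1 * (spW m).1 = 1 := congrArg Subtype.val (inv_mul_cancel (spW m))
  show (spW m)⁻¹.1 * (spW l).1 = 1 ∨ (spW m)⁻¹.1 * (spW l).1 = -1
  rcases mat_of_eqC h (wordC_lt m) with e | e
  · left; rw [hc, e, ← spW_mat m, hm]
  · right; rw [hc, e, ← spW_mat m, mul_neg, hm]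

theorem ev_eq {l m : List ℕ} (h : eqC (wordC l) (wordC m) = true) : ev l = ev m := ev_eq' (spW_mat l) h

theorem len_wordC (l : List ℕ) : (wordC l).length = 16 := by cases l <;> simp [wordC, oneC, mulC]

theorem mat_inj {a b : List ℕ} (la : a.length = 16) (lb : b.length = 16) (ha : ∀ x ∈ a, x < 3)
    (hb : ∀ x ∈ b, x < 3) (e : mat a = mat b) : a = b := by
  refine List.ext_getElem (la.trans lb.symm) fun n hna hnb => ?_
  have : ∀ n < 16, ∃ i j, 4 * Model.idx i + Model.idx j = n := by decide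
  obtain ⟨i, j, hij⟩ := this n (la ▸ hna)
  have h2 := congrFun (congrFun e i) j
  simp only [mat, Matrix.of_apply, hij, List.getD_eq_getElem _ _ hna, List.getD_eq_getElem _ _ hnb] at h2
  have h3 := (ZMod.natCast_eq_natCast_iff' _ _ _).1 h2
  rwa [Nat.mod_eq_of_lt (ha _ (List.getElem_mem hna)), Nat.mod_eq_of_lt (hb _ (List.getElem_mem hnb))] at h3

theorem eqC_of_ev {l m : List ℕ} (e : ev l = ev m) : eqC (wordC l) (wordC m) = true := by
  have he := QuotientGroup.eq.1 e.symm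
  rw [CfsgLib.Sp.mem_center_iff] at he
  have hm : (spW m).1 * (spW m)⁻¹.1 = 1 := congrArg Subtype.val (mul_inv_cancel (spW m))
  have he' : (spW m)⁻¹.1 * (spW l).1 = 1 ∨ (spW m)⁻¹.1 * (spW l).1 = -1 := he
  simp only [eqC, Bool.or_eq_true, beq_iff_eq]
  rcases he' with e1 | e1
  · left
    refine mat_inj (len_wordC l) (len_wordC m) (wordC_lt l) (wordC_lt m) ?_
    rw [← spW_mat, ← spW_mat]
    have := congrArg ((spW m).1 * ·) e1
    simpa only [← mul_assoc, hm, one_mul, mul_one] using this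
  · right
    refine mat_inj (len_wordC l) (by simp [len_wordC m]) (wordC_lt l) (fun x hx => ?_) ?_
    · simp only [List.mem_map] at hx
      obtain ⟨y, -, rfl⟩ := hx
      exact Nat.mod_lt _ (by norm_num)
    · have e2 : (spW l).1 = -(spW m).1 := by
        have := congrArg ((spW m).1 * ·) e1
        simpa only [← mul_assoc, hm, one_mul, mul_neg, mul_one] using this
      rw [← spW_mat, e2, spW_mat]
      ext i j
      simp only [mat, Matrix.neg_apply, Matrix.of_apply, List.getD_eq_getElem?_getD, List.getElem?_map]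
      cases e3 : (wordC m)[4 * Model.idx i + Model.idx j]? with
      | none => simp
      | some x => exact (mat_neg x (wordC_lt m x (List.mem_of_getElem? e3))).symm

theorem ev_mul_eq {l m k : List ℕ} (h : eqC (mulC (wordC l) (wordC m)) (wordC k) = true) :
    ev l * ev m = ev k := by
  rw [← ev_append]
  refine ev_eq' (c := mulC (wordC l) (wordC m)) ?_ h
  rw [spW_append, mat_mul, ← spW_mat, ← spW_mat]
  rfl

theorem word_append (l m : List ℕ) : wordC (l ++ m) = mulC (wordC l) (wordC m) := by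
  refine mat_inj (len_wordC _) (by simp [mulC]) (wordC_lt _) (fun x hx => ?_) ?_
  · simp only [mulC, List.mem_map] at hx
    obtain ⟨n, -, rfl⟩ := hx
    exact Nat.mod_lt _ (by norm_num)
  · rw [← spW_mat, spW_append, mat_mul, ← spW_mat, ← spW_mat]
    rfl

/-! ### Generation -/

theorem pLet_eq : ∀ x ∈ ([0, 2, 4, 6] : List (Fin 8)), ∃ l, pLet x = ev l := by
  intro x hx
  have key : ∀ (x : Fin 8) (l : List ℕ), Model.letM x.val = mat (wordC l) ∨ Model.letM x.val = -mat (wordC l) →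
      pLet x = ev l := by
    intro x l e
    refine (QuotientGroup.eq.2 ?_).symm
    rw [CfsgLib.Sp.mem_center_iff]
    have hm : (spW l)⁻¹.1 * (spW l).1 = 1 := congrArg Subtype.val (inv_mul_cancel (spW l))
    show (spW l)⁻¹.1 * Model.letM x.val = 1 ∨ (spW l)⁻¹.1 * Model.letM x.val = -1
    rw [← spW_mat] at e
    rcases e with e | e
    · left; rw [e, hm]
    · right; rw [e, mul_neg, hm]
  have h0 : Model.letM 0 = mat (wordC (letWords.getD 0 [])) ∨ Model.letM 0 = -mat (wordC (letWords.getD 0 [])) := by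
    decide +kernel
  have h2 : Model.letM 2 = mat (wordC (letWords.getD 1 [])) ∨ Model.letM 2 = -mat (wordC (letWords.getD 1 [])) := by
    decide +kernel
  have h4 : Model.letM 4 = mat (wordC (letWords.getD 2 [])) ∨ Model.letM 4 = -mat (wordC (letWords.getD 2 [])) := by
    decide +kernel
  have h6 : Model.letM 6 = mat (wordC (letWords.getD 3 [])) ∨ Model.letM 6 = -mat (wordC (letWords.getD 3 [])) := by
    decide +kernel
  simp only [List.mem_cons, List.not_mem_nil, or_false] at hx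
  rcases hx with rfl | rfl | rfl | rfl
  exacts [⟨_, key _ _ h0⟩, ⟨_, key _ _ h2⟩, ⟨_, key _ _ h4⟩, ⟨_, key _ _ h6⟩]

/-- The seven generators generate. -/
theorem gen_top : Subgroup.closure (Set.range fun j : Fin 7 => ev [j.val]) = ⊤ := by
  have hw : ∀ l, ev l ∈ Subgroup.closure (Set.range fun j : Fin 7 => ev [j.val]) := by
    intro l
    induction l with
    | nil => rw [ev_nil]; exact one_mem _
    | cons j l ih =>
      rw [ev_cons]
      refine mul_mem ?_ ih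
      rcases Nat.lt_or_ge j 7 with h | h
      · exact Subgroup.subset_closure ⟨⟨j, h⟩, rfl⟩
      · have : ev [j] = ev [] := ev_eq (by
          show eqC (mulC (genC.getD j oneC) oneC) oneC = true
          rw [List.getD_eq_default genC oneC (by simpa [genC] using h)]
          decide)
        rw [this, ev_nil]; exact one_mem _
  rw [eq_top_iff, ← target_closure, Subgroup.closure_le]
  intro y hy
  have key : ∀ x ∈ ([0, 2, 4, 6] : List (Fin 8)), pLet x ∈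
      Subgroup.closure (Set.range fun j : Fin 7 => ev [j.val]) := fun x hx => by
    obtain ⟨l, hl⟩ := pLet_eq x hx
    rw [hl]
    exact hw l
  simp only [Set.mem_insert_iff, Set.mem_singleton_iff] at hy
  rcases hy with rfl | rfl | rfl | rfl
  exacts [key 0 (by decide), key 2 (by decide), key 4 (by decide), key 6 (by decide)]

theorem exists_word (y : Cfsg.PSp 2 (ZMod 3)) : ∃ l, ev l = y := by
  have : Finite (Cfsg.PSp 2 (ZMod 3)) := Nat.finite_of_card_ne_zero (by rw [target_card]; norm_num)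
  have hy : y ∈ Submonoid.closure (Set.range fun j : Fin 7 => ev [j.val]) := by
    rw [← Subgroup.closure_toSubmonoid_of_finite, gen_top]
    trivial
  induction hy using Submonoid.closure_induction with
  | mem x hx => obtain ⟨j, rfl⟩ := hx; exact ⟨_, rfl⟩
  | one => exact ⟨[], ev_nil⟩
  | mul a b _ _ ha hb => obtain ⟨l, rfl⟩ := ha; obtain ⟨m, rfl⟩ := hb; exact ⟨l ++ m, ev_append l m⟩

/-! ### The Sylow subgroup -/

theorem sylC_eq : sylW.map wordC = sylC := by decide +kernel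

theorem syl_mul_check : (sylC.all fun a => sylC.all fun b => sylC.any (eqC (mulC a b))) = true := by
  decide +kernel

theorem syl_inj_check : ((List.range 64).all fun i => (List.range 64).all fun j =>
    i == j || !eqC (sylC.getD i []) (sylC.getD j [])) = true := by decide +kernel

theorem syl_mul {i j : ℕ} (hi : i < 64) (hj : j < 64) :
    ∃ k < 64, ev (sylW.getD i []) * ev (sylW.getD j []) = ev (sylW.getD k []) := by
  have hl : sylC.length = 64 := by decide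
  have hw : sylW.length = 64 := by decide
  have e : ∀ n < 64, sylC.getD n [] = wordC (sylW.getD n []) := fun n hn => by
    rw [List.getD_eq_getElem _ _ (hl.symm ▸ hn), List.getD_eq_getElem _ _ (hw.symm ▸ hn)]
    simp only [← sylC_eq, List.getElem_map]
  have h := List.all_eq_true.1 (List.all_eq_true.1 syl_mul_check _ (List.getElem_mem (hl.symm ▸ hi))) _
    (List.getElem_mem (hl.symm ▸ hj))
  obtain ⟨c, hc, hcc⟩ := List.any_eq_true.1 h
  obtain ⟨k, hk, rfl⟩ := List.getElem_of_mem hc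
  refine ⟨k, hl ▸ hk, ?_⟩
  rw [← List.getD_eq_getElem _ [] (hl.symm ▸ hi), ← List.getD_eq_getElem _ [] (hl.symm ▸ hj),
    ← List.getD_eq_getElem _ [] hk, e i hi, e j hj, e k (hl ▸ hk)] at hcc
  exact ev_mul_eq hcc

/-- The subgroup of the sixty-four words. -/
noncomputable def syl : Subgroup (Cfsg.PSp 2 (ZMod 3)) where
  carrier := {y | ∃ i < 64, y = ev (sylW.getD i [])}
  one_mem' := ⟨0, by norm_num, ev_nil.symm⟩
  mul_mem' := by
    rintro _ _ ⟨i, hi, rfl⟩ ⟨j, hj, rfl⟩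
    obtain ⟨k, hk, e⟩ := syl_mul hi hj
    exact ⟨k, hk, e⟩
  inv_mem' := by
    rintro _ ⟨i, hi, rfl⟩
    obtain ⟨j, hj, hij⟩ : ∃ j < 64, eqC (mulC (wordC (sylW.getD i [])) (wordC (sylW.getD j []))) (wordC []) = true := by
      have h : ((List.range 64).all fun i => (List.range 64).any fun j =>
          eqC (mulC (sylC.getD i []) (sylC.getD j [])) oneC) = true := by decide +kernel
      have hi' := List.all_eq_true.1 h i (List.mem_range.2 hi)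
      obtain ⟨j, hj, hij⟩ := List.any_eq_true.1 hi'
      refine ⟨j, List.mem_range.1 hj, ?_⟩
      rwa [← sylC_eq, List.getD_eq_getElem _ _ (by simpa using (show i < sylW.length from hi)),
        List.getD_eq_getElem _ _ (by simpa using (show j < sylW.length from List.mem_range.1 hj)),
        List.getElem_map, List.getElem_map, ← List.getD_eq_getElem sylW [] _, ← List.getD_eq_getElem sylW [] _] at hij
    refine ⟨j, hj, inv_eq_of_mul_eq_one_right ?_⟩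
    rw [ev_mul_eq hij, ev_nil]

theorem mem_syl {y : Cfsg.PSp 2 (ZMod 3)} : y ∈ syl ↔ ∃ i < 64, y = ev (sylW.getD i []) := Iff.rfl

theorem card_syl : Nat.card syl = 64 := by
  have hb : Function.Bijective (fun i : Fin 64 => (⟨ev (sylW.getD i []), ⟨i, i.2, rfl⟩⟩ : syl)) := by
    refine ⟨fun i j e => ?_, fun ⟨y, i, hi, e⟩ => ⟨⟨i, hi⟩, Subtype.ext e.symm⟩⟩
    by_contra hne
    have hc := eqC_of_ev (congrArg Subtype.val e)
    have h := List.all_eq_true.1 (List.all_eq_true.1 syl_inj_check i (List.mem_range.2 i.2)) j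
      (List.mem_range.2 j.2)
    rw [← sylC_eq, List.getD_eq_getElem _ _ (by simpa using (show i.val < sylW.length from i.2)),
      List.getD_eq_getElem _ _ (by simpa using (show j.val < sylW.length from j.2)),
      List.getElem_map, List.getElem_map, ← List.getD_eq_getElem sylW [] _, ← List.getD_eq_getElem sylW [] _] at h
    simp only [List.getD_eq_getElem?_getD] at hc
    simp [hc, Fin.val_ne_of_ne hne] at h
  rw [← Nat.card_eq_of_bijective _ hb, Nat.card_fin]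

/-- A 2-subgroup is conjugate into the sixty-four words. -/
theorem exists_into_syl {P : Subgroup (Cfsg.PSp 2 (ZMod 3))} (hP : IsPGroup 2 P) :
    ∃ g, ∀ y ∈ P, g * y * g⁻¹ ∈ syl := by
  have : Fact (Nat.Prime 2) := ⟨Nat.prime_two⟩
  have : Finite (Cfsg.PSp 2 (ZMod 3)) := Nat.finite_of_card_ne_zero (by rw [target_card]; norm_num)
  let S : Sylow 2 (Cfsg.PSp 2 (ZMod 3)) := Sylow.ofCard syl (by
    rw [card_syl, target_card, show (25920 : ℕ) = 2 ^ 6 * 405 by norm_num,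
      Nat.factorization_mul (by norm_num) (by norm_num), Finsupp.add_apply, Nat.Prime.factorization_pow Nat.prime_two,
      Finsupp.single_eq_same, Nat.factorization_eq_zero_of_not_dvd (by norm_num : ¬ 2 ∣ 405)]
    norm_num)
  obtain ⟨R, hR⟩ := hP.exists_le_sylow
  obtain ⟨g, hg⟩ := MulAction.exists_smul_eq (Cfsg.PSp 2 (ZMod 3)) R S
  refine ⟨g, fun y hy => ?_⟩
  have h1 : g * y * g⁻¹ ∈ ((g • R : Sylow 2 _) : Subgroup _) :=
    Subgroup.mem_map.2 ⟨y, hR hy, rfl⟩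
  rw [hg] at h1
  exact h1

/-! ### Involutions -/

theorem inv_check : ((List.range 64).all fun i => !eqC (mulC (sylC.getD i []) (sylC.getD i [])) oneC || i == 0 ||
    invW.any fun c => c.1 == i && eqC (mulC (sylC.getD i []) (wordC c.2.2))
      (mulC (wordC c.2.2) (wordC (if c.2.1 == 0 then [3] else [3, 5])))) = true := by decide +kernel

/-- The two classes of involutions. -/
theorem involution_cases {y : Cfsg.PSp 2 (ZMod 3)} (hy : y * y = 1) (h1 : y ≠ 1) :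
    IsConj y (ev [3]) ∨ IsConj y (ev [3, 5]) := by
  have : Fact (Nat.Prime 2) := ⟨Nat.prime_two⟩
  have : Finite (Cfsg.PSp 2 (ZMod 3)) := Nat.finite_of_card_ne_zero (by rw [target_card]; norm_num)
  obtain ⟨g, hg⟩ := exists_into_syl (P := Subgroup.zpowers y) (IsPGroup.of_card (n := 1) (by
      rw [Nat.card_zpowers, orderOf_eq_prime (by rw [pow_two, hy]) h1]; rfl))
  obtain ⟨i, hi, e⟩ := hg y (Subgroup.mem_zpowers y)
  have e2 : ev (sylW.getD i []) * ev (sylW.getD i []) = ev [] := by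
    rw [← e, ev_nil, show g * y * g⁻¹ * (g * y * g⁻¹) = g * (y * y) * g⁻¹ by group, hy]
    group
  have hC : sylC.getD i [] = wordC (sylW.getD i []) := by
    rw [← sylC_eq, List.getD_eq_getElem _ _ (by simpa using (show i < sylW.length from hi)), List.getElem_map,
      ← List.getD_eq_getElem sylW []]
  have h := List.all_eq_true.1 inv_check i (List.mem_range.2 hi)
  rw [hC] at h
  have hsq : eqC (mulC (wordC (sylW.getD i [])) (wordC (sylW.getD i []))) oneC = true := by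
    rw [← ev_append] at e2
    have h2 := eqC_of_ev e2
    rwa [word_append] at h2
  simp only [hsq, Bool.not_true, Bool.false_or, Bool.or_eq_true, beq_iff_eq, List.any_eq_true,
    Bool.and_eq_true] at h
  rcases h with rfl | ⟨c, -, -, hc⟩
  · exfalso
    refine h1 ?_
    have e' : g * y * g⁻¹ = 1 := e.trans ev_nil
    simpa using conj_eq_one_iff.1 e'
  · have h3 : ev (sylW.getD i []) * ev c.2.2 = ev c.2.2 * ev (if c.2.1 == 0 then [3] else [3, 5]) := by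
      rw [← ev_append, ← ev_append]
      exact ev_eq (by rw [word_append, word_append]; simp only [beq_iff_eq]; exact hc)
    have hy' : IsConj y (ev (if c.2.1 == 0 then [3] else [3, 5])) :=
      isConj_iff.2 ⟨(ev c.2.2)⁻¹ * g, by
        rw [show (ev c.2.2)⁻¹ * g * y * ((ev c.2.2)⁻¹ * g)⁻¹ = (ev c.2.2)⁻¹ * (g * y * g⁻¹ * ev c.2.2) by group, e, h3,
          inv_mul_cancel_left]⟩
    split at hy'
    · exact Or.inl hy'
    · exact Or.inr hy'

/-! ### 2-subgroups -/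

theorem sq_cent_check : (((List.range 64).filter fun i => (List.range 64).all fun j =>
    eqC (mulC (sylC.getD i []) (mulC (sylC.getD j []) (sylC.getD j [])))
      (mulC (mulC (sylC.getD j []) (sylC.getD j [])) (sylC.getD i []))).length ≤ 16) := by decide +kernel

/-- No 2-subgroup of order at least thirty-two is abelian. -/
theorem no_abelian {P : Subgroup (Cfsg.PSp 2 (ZMod 3))} (hP : IsPGroup 2 P)
    (hc : ∀ a ∈ P, ∀ b ∈ P, a * b = b * a) : Nat.card P ≤ 16 := by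
  classical
  have : Finite (Cfsg.PSp 2 (ZMod 3)) := Nat.finite_of_card_ne_zero (by rw [target_card]; norm_num)
  obtain ⟨g, hg⟩ := exists_into_syl hP
  let Q : Subgroup (Cfsg.PSp 2 (ZMod 3)) := P.map (MulAut.conj g).toMonoidHom
  have hQ : Nat.card Q = Nat.card P := Subgroup.card_map_of_injective (MulEquiv.injective _)
  have hQs : Q ≤ syl := by rintro _ ⟨y, hy, rfl⟩; exact hg y hy
  have hQc : ∀ a ∈ Q, ∀ b ∈ Q, a * b = b * a := by
    rintro _ ⟨a, ha, rfl⟩ _ ⟨b, hb, rfl⟩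
    rw [← map_mul, ← map_mul, hc a ha b hb]
  by_contra hlt
  rw [← hQ, not_le] at hlt
  have hrel := Subgroup.relIndex_mul_index (le_refl Q)
  let Qs : Subgroup syl := Q.subgroupOf syl
  have hcard : Nat.card Qs = Nat.card Q := Nat.card_congr (Subgroup.subgroupOfEquivOfLe hQs).toEquiv
  have hidx : Qs.index ≤ 2 := by
    have h1 := Qs.card_mul_index
    rw [hcard, card_syl] at h1
    by_contra h3
    have hd : Qs.index ∣ 64 := Dvd.intro_left _ h1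
    have : 3 ≤ Qs.index := by omega
    have h4 : Nat.card Q * 3 ≤ 64 := h1 ▸ Nat.mul_le_mul_left _ this
    have hd2 : Nat.card Q ∣ 2 ^ 6 := Dvd.intro _ h1
    obtain ⟨k, hk, e⟩ := (Nat.dvd_prime_pow Nat.prime_two).1 hd2
    rw [e] at hlt h4
    interval_cases k <;> omega
  have hsq : ∀ y ∈ syl, y * y ∈ Q := by
    intro y hy
    have hi : Qs.index = 1 ∨ Qs.index = 2 := by
      have := Qs.index_ne_zero_of_finite
      omega
    rcases hi with hi | hi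
    · have : (⟨y, hy⟩ : syl) ∈ Qs := by rw [Subgroup.index_eq_one.1 hi]; trivial
      exact mul_mem this this
    · exact Subgroup.mul_self_mem_of_index_two hi ⟨y, hy⟩
  let L := (List.range 64).filter fun i => (List.range 64).all fun j =>
    eqC (mulC (sylC.getD i []) (mulC (sylC.getD j []) (sylC.getD j [])))
      (mulC (mulC (sylC.getD j []) (sylC.getD j [])) (sylC.getD i []))
  have hC : ∀ n < 64, sylC.getD n [] = wordC (sylW.getD n []) := fun n hn => by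
    rw [← sylC_eq, List.getD_eq_getElem _ _ (by simpa using (show n < sylW.length from hn)), List.getElem_map,
      ← List.getD_eq_getElem sylW []]
  have hsub : (Q : Set (Cfsg.PSp 2 (ZMod 3))) ⊆ (fun i => ev (sylW.getD i [])) '' {i | i ∈ L} := by
    intro q hq
    obtain ⟨i, hi, e⟩ := hQs hq
    refine ⟨i, List.mem_filter.2 ⟨List.mem_range.2 hi, List.all_eq_true.2 fun j hj => ?_⟩, e.symm⟩
    have hj := List.mem_range.1 hj
    have h2 := hQc q hq _ (hsq _ ⟨j, hj, rfl⟩)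
    rw [e, ← ev_append, ← ev_append, ← ev_append] at h2
    have h3 := eqC_of_ev h2
    simp only [word_append, ← hC i hi, ← hC j hj] at h3
    exact h3
  have hfin : Set.Finite {i | i ∈ L} := L.finite_toSet
  have := Set.ncard_le_ncard hsub (hfin.image _)
  rw [← Nat.card_coe_set_eq] at this
  have h16 : {i | i ∈ L}.ncard ≤ 16 := by
    rw [show {i | i ∈ L} = ↑L.toFinset by ext; simp, Set.ncard_coe_finset]
    exact (List.toFinset_card_le L).trans sq_cent_check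
  have := this.trans ((Set.ncard_image_le hfin).trans h16)
  exact absurd this (not_le.2 hlt)

theorem comm_check : eqC (mulC (wordC (sylW.getD 1 [])) (wordC (sylW.getD 4 [])))
      (mulC (wordC (sylW.getD 3 [])) (mulC (wordC (sylW.getD 4 [])) (wordC (sylW.getD 1 [])))) = true ∧
    eqC (mulC (wordC (sylW.getD 1 [])) (wordC (sylW.getD 9 [])))
      (mulC (wordC (sylW.getD 26 [])) (mulC (wordC (sylW.getD 9 [])) (wordC (sylW.getD 1 [])))) = true ∧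
    eqC (wordC (sylW.getD 3 [])) (wordC []) = false ∧ eqC (wordC (sylW.getD 26 [])) (wordC []) = false ∧
    eqC (wordC (sylW.getD 3 [])) (wordC (sylW.getD 26 [])) = false := by decide +kernel

/-- A 2-subgroup of order sixty-four has at least two non-trivial commutators. -/
theorem two_commutators {P : Subgroup (Cfsg.PSp 2 (ZMod 3))} (hP : IsPGroup 2 P) (h64 : 64 ≤ Nat.card P)
    {w : Cfsg.PSp 2 (ZMod 3)} : ∃ a ∈ P, ∃ b ∈ P, a * b * a⁻¹ * b⁻¹ ≠ 1 ∧ a * b * a⁻¹ * b⁻¹ ≠ w := by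
  have : Finite (Cfsg.PSp 2 (ZMod 3)) := Nat.finite_of_card_ne_zero (by rw [target_card]; norm_num)
  obtain ⟨g, hg⟩ := exists_into_syl hP
  have hQ : P.map (MulAut.conj g).toMonoidHom = syl := Subgroup.eq_of_le_of_card_ge
    (by rintro _ ⟨y, hy, rfl⟩; exact hg y hy)
    (by rw [card_syl, Subgroup.card_map_of_injective (MulEquiv.injective _)]; exact h64)
  have hmem : ∀ i, i < 64 → g⁻¹ * ev (sylW.getD i []) * g ∈ P := by
    intro i hi
    have : ev (sylW.getD i []) ∈ P.map (MulAut.conj g).toMonoidHom := hQ ▸ ⟨i, hi, rfl⟩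
    obtain ⟨y, hy, e⟩ := this
    rw [← e]
    simpa [MulAut.conj_apply, mul_assoc] using hy
  obtain ⟨c1, c2, n1, n2, n3⟩ := comm_check
  have key : ∀ i j k, eqC (mulC (wordC (sylW.getD i [])) (wordC (sylW.getD j [])))
      (mulC (wordC (sylW.getD k [])) (mulC (wordC (sylW.getD j [])) (wordC (sylW.getD i [])))) = true →
      (g⁻¹ * ev (sylW.getD i []) * g) * (g⁻¹ * ev (sylW.getD j []) * g) * (g⁻¹ * ev (sylW.getD i []) * g)⁻¹ *
        (g⁻¹ * ev (sylW.getD j []) * g)⁻¹ = g⁻¹ * ev (sylW.getD k []) * g := by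
    intro i j k h
    have e : ev (sylW.getD i []) * ev (sylW.getD j []) =
        ev (sylW.getD k []) * (ev (sylW.getD j []) * ev (sylW.getD i [])) := by
      rw [← ev_append, ← ev_append, ← ev_append]
      exact ev_eq (by rw [word_append, word_append, word_append]; exact h)
    calc _ = g⁻¹ * (ev (sylW.getD i []) * ev (sylW.getD j []) * (ev (sylW.getD i []))⁻¹ *
          (ev (sylW.getD j []))⁻¹) * g := by group
      _ = _ := by rw [e]; group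
  have ne1 : ∀ k, eqC (wordC (sylW.getD k [])) (wordC []) = false → g⁻¹ * ev (sylW.getD k []) * g ≠ 1 := by
    intro k h e
    have e' : ev (sylW.getD k []) = ev [] := by
      rw [ev_nil]
      calc _ = g * (g⁻¹ * ev (sylW.getD k []) * g) * g⁻¹ := by group
        _ = 1 := by rw [e]; group
    rw [eqC_of_ev e'] at h
    exact Bool.noConfusion h
  by_cases hw : g⁻¹ * ev (sylW.getD 3 []) * g = w
  · refine ⟨_, hmem 1 (by norm_num), _, hmem 9 (by norm_num), ?_⟩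
    rw [key _ _ _ c2]
    refine ⟨ne1 _ n2, fun e => ?_⟩
    rw [← hw] at e
    rw [eqC_of_ev (mul_left_cancel (mul_right_cancel e.symm))] at n3
    exact Bool.noConfusion n3
  · refine ⟨_, hmem 1 (by norm_num), _, hmem 4 (by norm_num), ?_⟩
    rw [key _ _ _ c1]
    exact ⟨ne1 _ n1, hw⟩

end CfsgLib.U6Large
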