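import Mathlib
import Cfsg.Agent.Lib.LargeExtra.Extra
import Cfsg.Agent.Lib.U6Large.SpThree

/-! An involution whose centraliser extends an extraspecial group of order `2^9` by `PSp₄(3)`: the
quotient by the centre, its two forms and the action of the simple group on it. -/

set_option autoImplicit false
set_option linter.unusedSectionVars false
set_option linter.style.longLine false

namespace CfsgLib.U6Large

open Subgroup CfsgLib.SpFourThree

universe u

variable {G : Type u} [Group G]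

/-- The data. -/
structure Ctx (z : G) (Q : Subgroup G) where
  /-- Extraspecial with centre generated by the involution. -/
  extra : CfsgLib.LargeExtra.ExtraAt Q z
  le : Q ≤ centralizer ({z} : Set G)
  norm : ∀ c : G, c * z = z * c → ∀ q ∈ Q, c * q * c⁻¹ ∈ Q
  card : Nat.card Q = 512
  self : ∀ c : G, c * z = z * c → (∀ q ∈ Q, q * c = c * q) → c ∈ Q
  /-- The map onto the simple quotient. -/
  π : centralizer ({z} : Set G) →* Cfsg.PSp 2 (ZMod 3)
  π_surj : Function.Surjective π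
  π_ker : ∀ c, π c = 1 ↔ (c : G) ∈ Q

/-- The quotient by the centre. -/
abbrev Vq (Q : Subgroup G) : Type u := ↥Q ⧸ center ↥Q

namespace Ctx

variable [Finite G] {z : G} {Q : Subgroup G} (S : Ctx z Q)
include S

theorem zz : z * z = 1 := S.extra.sq_one
theorem zQ : z ∈ Q := S.extra.z_mem
theorem ne : z ≠ 1 := S.extra.ne_one

theorem mem_center_iff {x : G} (hx : x ∈ Q) : (⟨x, hx⟩ : Q) ∈ center ↥Q ↔ x = 1 ∨ x = z := by
  constructor
  · intro h
    exact S.extra.central_cases hx fun q hq => congrArg Subtype.val (Subgroup.mem_center_iff.1 h ⟨q, hq⟩)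
  · rintro (rfl | rfl) <;> refine Subgroup.mem_center_iff.2 fun q => Subtype.ext ?_
    · simp
    · exact S.extra.comm_z q.2

/-- The class of an element of `Q`. -/
noncomputable def vec (x : G) : Vq Q := by
  classical exact (fun _ => if h : x ∈ Q then QuotientGroup.mk' _ ⟨x, h⟩ else 1) S

theorem vec_def {x : G} (hx : x ∈ Q) : S.vec x = QuotientGroup.mk' _ ⟨x, hx⟩ := dif_pos hx

theorem vec_mul {x y : G} (hx : x ∈ Q) (hy : y ∈ Q) : S.vec (x * y) = S.vec x * S.vec y := by
  rw [S.vec_def hx, S.vec_def hy, S.vec_def (mul_mem hx hy), ← map_mul]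
  rfl

theorem vec_one : S.vec 1 = 1 := by rw [S.vec_def (one_mem Q)]; exact map_one _

theorem vec_eq_one {x : G} (hx : x ∈ Q) : S.vec x = 1 ↔ x = 1 ∨ x = z := by
  rw [S.vec_def hx, ← S.mem_center_iff hx, QuotientGroup.mk'_apply, QuotientGroup.eq_one_iff]

theorem vec_z : S.vec z = 1 := (S.vec_eq_one S.zQ).2 (Or.inr rfl)

theorem vec_inv {x : G} (hx : x ∈ Q) : S.vec x⁻¹ = (S.vec x)⁻¹ := by
  rw [eq_inv_iff_mul_eq_one, ← S.vec_mul (inv_mem hx) hx, inv_mul_cancel, S.vec_one]

theorem vec_eq {x y : G} (hx : x ∈ Q) (hy : y ∈ Q) : S.vec x = S.vec y ↔ x = y ∨ x = z * y := by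
  rw [← mul_inv_eq_one, ← S.vec_inv hy, ← S.vec_mul hx (inv_mem hy), S.vec_eq_one (mul_mem hx (inv_mem hy)),
    mul_inv_eq_one, mul_inv_eq_iff_eq_mul]

theorem surj (v : Vq Q) : ∃ x ∈ Q, S.vec x = v := by
  obtain ⟨x, rfl⟩ := QuotientGroup.mk'_surjective _ v
  exact ⟨x, x.2, S.vec_def x.2⟩

/-- A representative. -/
noncomputable def rep (v : Vq Q) : G := (S.surj v).choose

theorem rep_mem (v : Vq Q) : S.rep v ∈ Q := (S.surj v).choose_spec.1
theorem vec_rep (v : Vq Q) : S.vec (S.rep v) = v := (S.surj v).choose_spec.2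

theorem v_comm (v w : Vq Q) : v * w = w * v := by
  obtain ⟨x, hx, rfl⟩ := S.surj v
  obtain ⟨y, hy, rfl⟩ := S.surj w
  rw [← S.vec_mul hx hy, ← S.vec_mul hy hx, S.vec_eq (mul_mem hx hy) (mul_mem hy hx)]
  rcases S.extra.conj_cases hx hy with h | h
  · left; rw [← mul_inv_eq_iff_eq_mul]; exact h
  · right; rw [← mul_assoc, ← mul_inv_eq_iff_eq_mul]; exact h

theorem v_sq (v : Vq Q) : v * v = 1 := by
  obtain ⟨x, hx, rfl⟩ := S.surj v
  rw [← S.vec_mul hx hx, S.vec_eq_one (mul_mem hx hx)]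
  exact S.extra.sq_cases hx

theorem v_inv (v : Vq Q) : v⁻¹ = v := inv_eq_of_mul_eq_one_right (S.v_sq v)

theorem card_V : Nat.card (Vq Q) = 256 := by
  have hc : Nat.card (center ↥Q) = 2 := by
    have : (center ↥Q : Set ↥Q) = {1, ⟨z, S.zQ⟩} := by
      ext ⟨x, hx⟩
      simp only [SetLike.mem_coe, Set.mem_insert_iff, Set.mem_singleton_iff, S.mem_center_iff hx, Subtype.ext_iff,
        OneMemClass.coe_one]
    show Nat.card (center ↥Q : Set ↥Q) = 2
    rw [this, Nat.card_coe_set_eq, Set.ncard_pair (fun e => S.ne (congrArg Subtype.val e).symm)]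
  have h := (center ↥Q).card_eq_card_quotient_mul_card_subgroup
  rw [S.card, hc] at h
  show Nat.card (↥Q ⧸ center ↥Q) = 256
  omega

/-! ### The two forms -/

/-- Representatives do not commute. -/
def Skew (v w : Vq Q) : Prop := S.rep v * S.rep w ≠ S.rep w * S.rep v

/-- Representatives have order four. -/
def Four (v : Vq Q) : Prop := S.rep v * S.rep v ≠ 1

theorem skew_vec {x y : G} (hx : x ∈ Q) (hy : y ∈ Q) : S.Skew (S.vec x) (S.vec y) ↔ x * y ≠ y * x := by
  have hz : ∀ {q}, q ∈ Q → q * z = z * q := fun h => S.extra.comm_z h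
  have key : ∀ {a a' b : G}, a ∈ Q → a' ∈ Q → b ∈ Q → (a = a' ∨ a = z * a') → (a * b = b * a ↔ a' * b = b * a') := by
    intro a a' b ha ha' hb h
    rcases h with rfl | rfl
    · exact Iff.rfl
    · rw [mul_assoc, ← mul_assoc b z, hz hb, mul_assoc]
      exact mul_right_inj z
  refine Iff.not ((key (S.rep_mem _) hx (S.rep_mem _) ((S.vec_eq (S.rep_mem _) hx).1 (S.vec_rep _))).trans ?_)
  rw [eq_comm, key (S.rep_mem _) hy hx ((S.vec_eq (S.rep_mem _) hy).1 (S.vec_rep _))]
  exact eq_comm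

theorem four_vec {x : G} (hx : x ∈ Q) : S.Four (S.vec x) ↔ x * x ≠ 1 := by
  refine Iff.not ?_
  rcases (S.vec_eq (S.rep_mem _) hx).1 (S.vec_rep (S.vec x)) with h | h <;> rw [h]
  rw [mul_assoc, ← mul_assoc x z, S.extra.comm_z hx, mul_assoc z x, ← mul_assoc z z, S.zz, one_mul]

theorem skew_symm {v w : Vq Q} : S.Skew v w ↔ S.Skew w v := ne_comm

theorem not_skew_one (v : Vq Q) : ¬ S.Skew 1 v := by
  obtain ⟨x, hx, rfl⟩ := S.surj v
  rw [← S.vec_one, S.skew_vec (one_mem Q) hx]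
  simp

theorem not_skew_self (v : Vq Q) : ¬ S.Skew v v := fun h => h rfl

theorem skew_mul (u v w : Vq Q) : S.Skew (u * v) w ↔ ¬ (S.Skew u w ↔ S.Skew v w) := by
  obtain ⟨x, hx, rfl⟩ := S.surj u
  obtain ⟨y, hy, rfl⟩ := S.surj v
  obtain ⟨t, ht, rfl⟩ := S.surj w
  rw [← S.vec_mul hx hy, S.skew_vec (mul_mem hx hy) ht, S.skew_vec hx ht, S.skew_vec hy ht]
  have cl : ∀ {a b : G}, a ∈ Q → b ∈ Q → a * b = b * a ∨ (a * b ≠ b * a ∧ a * b = z * (b * a)) := by
    intro a b ha hb
    by_cases h : a * b = b * a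
    · exact Or.inl h
    · refine Or.inr ⟨h, ?_⟩
      rcases S.extra.conj_cases ha hb with e | e
      · exact absurd (mul_inv_eq_iff_eq_mul.1 e) h
      · rw [mul_inv_eq_iff_eq_mul] at e; rw [e, mul_assoc]
  have hne : ∀ a : G, a ≠ z * a := fun a e => S.ne (right_eq_mul.1 e)
  rcases cl hx ht with h1 | ⟨h1, e1⟩ <;> rcases cl hy ht with h2 | ⟨h2, e2⟩
  · have : x * y * t = t * (x * y) := by rw [mul_assoc, h2, ← mul_assoc, h1, mul_assoc]
    simp [h1, h2, this]
  · have : x * y * t = z * (t * (x * y)) := by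
      rw [mul_assoc, e2, ← mul_assoc x z, S.extra.comm_z hx, mul_assoc z x, ← mul_assoc x t, h1, mul_assoc t x]
    simp [h1, h2, this, (hne _).symm]
  · have : x * y * t = z * (t * (x * y)) := by rw [mul_assoc, h2, ← mul_assoc, e1, mul_assoc, mul_assoc t x]
    simp [h1, h2, this, (hne _).symm]
  · have : x * y * t = t * (x * y) := by
      rw [mul_assoc, e2, ← mul_assoc x z, S.extra.comm_z hx, mul_assoc z x, ← mul_assoc x t, e1, mul_assoc z (t * x) y,
        ← mul_assoc z z, S.zz, one_mul, mul_assoc]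
    simp [h1, h2, this]

theorem skew_mul' (u v w : Vq Q) : S.Skew w (u * v) ↔ ¬ (S.Skew w u ↔ S.Skew w v) := by
  rw [S.skew_symm, S.skew_mul, S.skew_symm (v := u), S.skew_symm (v := v)]

theorem four_mul (u v : Vq Q) : S.Four (u * v) ↔ ¬ ((S.Four u ↔ S.Four v) ↔ ¬ S.Skew u v) := by
  obtain ⟨x, hx, rfl⟩ := S.surj u
  obtain ⟨y, hy, rfl⟩ := S.surj v
  rw [← S.vec_mul hx hy, S.four_vec (mul_mem hx hy), S.four_vec hx, S.four_vec hy, S.skew_vec hx hy]
  have hzc : ∀ {q}, q ∈ Q → q * z = z * q := fun h => S.extra.comm_z h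
  have hcomm : y * x = x * y ∨ (x * y ≠ y * x ∧ y * x = z * (x * y)) := by
    by_cases h : x * y = y * x
    · exact Or.inl h.symm
    · refine Or.inr ⟨h, ?_⟩
      rcases S.extra.conj_cases hy hx with e | e
      · exact absurd (mul_inv_eq_iff_eq_mul.1 e).symm h
      · rw [mul_inv_eq_iff_eq_mul] at e; rw [e, mul_assoc]
  rcases hcomm with h | ⟨hne, h⟩
  · have e : x * y * (x * y) = x * x * (y * y) := by rw [mul_assoc, ← mul_assoc y x, h]; simp only [mul_assoc]
    rcases S.extra.sq_cases hx with a | a <;> rcases S.extra.sq_cases hy with b | b <;>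
      simp [e, a, b, h, S.zz, S.ne]
  · have e : x * y * (x * y) = z * (x * x * (y * y)) := by
      rw [mul_assoc, ← mul_assoc y x, h, ← mul_assoc x (z * (x * y)), ← mul_assoc x z, hzc hx]
      simp only [mul_assoc]
    rcases S.extra.sq_cases hx with a | a <;> rcases S.extra.sq_cases hy with b | b <;>
      simp [e, a, b, hne, S.zz, S.ne]

theorem not_four_one : ¬ S.Four 1 := by rw [← S.vec_one, S.four_vec (one_mem Q)]; simp

theorem nondeg {v : Vq Q} (h : ∀ w, ¬ S.Skew v w) : v = 1 := by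
  obtain ⟨x, hx, rfl⟩ := S.surj v
  refine (S.vec_eq_one hx).2 (S.extra.central_cases hx fun q hq => ?_)
  exact (not_not.1 ((S.skew_vec hx hq).not.1 (h (S.vec q)))).symm

/-! ### The action -/

theorem mem_H {c : G} : c ∈ centralizer ({z} : Set G) ↔ c * z = z * c := Subgroup.mem_centralizer_singleton_iff

/-- A lift. -/
noncomputable def lift (y : Cfsg.PSp 2 (ZMod 3)) : centralizer ({z} : Set G) := (S.π_surj y).choose

theorem π_lift (y : Cfsg.PSp 2 (ZMod 3)) : S.π (S.lift y) = y := (S.π_surj y).choose_spec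

/-- The action of the simple group. -/
noncomputable def act (y : Cfsg.PSp 2 (ZMod 3)) (v : Vq Q) : Vq Q :=
  S.vec ((S.lift y : G) * S.rep v * (S.lift y : G)⁻¹)

theorem conj_mem (c : centralizer ({z} : Set G)) {q : G} (hq : q ∈ Q) : (c : G) * q * (c : G)⁻¹ ∈ Q :=
  S.norm c (S.mem_H.1 c.2) q hq

theorem act_vec (c : centralizer ({z} : Set G)) {q : G} (hq : q ∈ Q) :
    S.act (S.π c) (S.vec q) = S.vec ((c : G) * q * (c : G)⁻¹) := by
  set d := S.lift (S.π c) with hd
  have hcd : ((c⁻¹ * d : centralizer ({z} : Set G)) : G) ∈ Q := by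
    rw [← S.π_ker, map_mul, map_inv, S.π_lift, inv_mul_cancel]
  set k := ((c⁻¹ * d : centralizer ({z} : Set G)) : G)
  have e : (d : G) = (c : G) * k := by simp [k]
  have hr := S.rep_mem (S.vec q)
  have h1 : k * S.rep (S.vec q) * k⁻¹ ∈ Q := mul_mem (mul_mem hcd hr) (inv_mem hcd)
  rw [act, ← hd, e, show (c : G) * k * S.rep (S.vec q) * ((c : G) * k)⁻¹ =
    (c : G) * (k * S.rep (S.vec q) * k⁻¹) * (c : G)⁻¹ by group, S.vec_eq (S.conj_mem c h1) (S.conj_mem c hq)]
  have hv : S.vec (k * S.rep (S.vec q) * k⁻¹) = S.vec q := by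
    rw [S.vec_mul (mul_mem hcd hr) (inv_mem hcd), S.vec_mul hcd hr, S.v_comm (S.vec k), mul_assoc,
      ← S.vec_mul hcd (inv_mem hcd), mul_inv_cancel, S.vec_one, mul_one, S.vec_rep]
  rcases (S.vec_eq h1 hq).1 hv with h | h <;> rw [h]
  · exact Or.inl rfl
  · right
    rw [show (c : G) * (z * q) * (c : G)⁻¹ = ((c : G) * z) * q * (c : G)⁻¹ by group, S.mem_H.1 c.2]
    group

theorem act_one (v : Vq Q) : S.act 1 v = v := by
  obtain ⟨q, hq, rfl⟩ := S.surj v
  rw [← map_one S.π, S.act_vec 1 hq]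
  simp

theorem act_mul (x y : Cfsg.PSp 2 (ZMod 3)) (v : Vq Q) : S.act (x * y) v = S.act x (S.act y v) := by
  obtain ⟨q, hq, rfl⟩ := S.surj v
  obtain ⟨c, rfl⟩ := S.π_surj x
  obtain ⟨d, rfl⟩ := S.π_surj y
  rw [← map_mul, S.act_vec _ hq, S.act_vec _ hq, S.act_vec _ (S.conj_mem d hq)]
  simp only [Subgroup.coe_mul]
  group

theorem act_hom (x : Cfsg.PSp 2 (ZMod 3)) (v w : Vq Q) : S.act x (v * w) = S.act x v * S.act x w := by
  obtain ⟨p, hp, rfl⟩ := S.surj v
  obtain ⟨q, hq, rfl⟩ := S.surj w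
  obtain ⟨c, rfl⟩ := S.π_surj x
  rw [← S.vec_mul hp hq, S.act_vec _ (mul_mem hp hq), S.act_vec _ hp, S.act_vec _ hq,
    ← S.vec_mul (S.conj_mem c hp) (S.conj_mem c hq)]
  group

theorem act_unit (x : Cfsg.PSp 2 (ZMod 3)) : S.act x 1 = 1 := by
  have h := S.act_hom x 1 1
  rw [one_mul] at h
  exact left_eq_mul.1 h

theorem act_inv_cancel (x : Cfsg.PSp 2 (ZMod 3)) (v : Vq Q) : S.act x⁻¹ (S.act x v) = v := by
  rw [← S.act_mul, inv_mul_cancel, S.act_one]

theorem act_inj (x : Cfsg.PSp 2 (ZMod 3)) {v w : Vq Q} (h : S.act x v = S.act x w) : v = w := by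
  rw [← S.act_inv_cancel x v, h, S.act_inv_cancel]

theorem skew_act (x : Cfsg.PSp 2 (ZMod 3)) (v w : Vq Q) : S.Skew (S.act x v) (S.act x w) ↔ S.Skew v w := by
  obtain ⟨p, hp, rfl⟩ := S.surj v
  obtain ⟨q, hq, rfl⟩ := S.surj w
  obtain ⟨c, rfl⟩ := S.π_surj x
  rw [S.act_vec _ hp, S.act_vec _ hq, S.skew_vec (S.conj_mem c hp) (S.conj_mem c hq), S.skew_vec hp hq]
  refine Iff.not ?_
  rw [show (c : G) * p * (c : G)⁻¹ * ((c : G) * q * (c : G)⁻¹) = (c : G) * (p * q) * (c : G)⁻¹ by group,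
    show (c : G) * q * (c : G)⁻¹ * ((c : G) * p * (c : G)⁻¹) = (c : G) * (q * p) * (c : G)⁻¹ by group]
  exact ⟨fun h => mul_left_cancel (mul_right_cancel h), fun h => by rw [h]⟩

theorem four_act (x : Cfsg.PSp 2 (ZMod 3)) (v : Vq Q) : S.Four (S.act x v) ↔ S.Four v := by
  obtain ⟨q, hq, rfl⟩ := S.surj v
  obtain ⟨c, rfl⟩ := S.π_surj x
  rw [S.act_vec _ hq, S.four_vec (S.conj_mem c hq), S.four_vec hq]
  refine Iff.not ?_
  rw [show (c : G) * q * (c : G)⁻¹ * ((c : G) * q * (c : G)⁻¹) = (c : G) * (q * q) * (c : G)⁻¹ by group,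
    conj_eq_one_iff]

theorem sign_mul {a b : G} (c : centralizer ({z} : Set G)) (ha : a ∈ Q)
    (h : ∀ q ∈ Q, (c : G) * q * (c : G)⁻¹ = q ∨ (c : G) * q * (c : G)⁻¹ = z * q) (hb : b ∈ Q) :
    ((c : G) * (a * b) * (c : G)⁻¹ = a * b ↔
      ((c : G) * a * (c : G)⁻¹ = a ↔ (c : G) * b * (c : G)⁻¹ = b)) := by
  have hne : ∀ x : G, z * x ≠ x := fun x e => S.ne (mul_eq_right.1 e)
  have e : (c : G) * (a * b) * (c : G)⁻¹ = ((c : G) * a * (c : G)⁻¹) * ((c : G) * b * (c : G)⁻¹) := by group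
  rw [e]
  rcases h a ha with u | u <;> rcases h b hb with v | v <;> rw [u, v]
  · simp
  · refine iff_of_false (fun k => ?_) (by simp [hne])
    rw [← mul_assoc, S.extra.comm_z ha, mul_assoc] at k
    exact hne _ k
  · refine iff_of_false (fun k => ?_) (by simp [hne])
    rw [mul_assoc] at k
    exact hne _ k
  · refine iff_of_true ?_ (by simp [hne])
    rw [mul_assoc, ← mul_assoc a z, S.extra.comm_z ha, mul_assoc, ← mul_assoc z z, S.zz, one_mul]

/-- Every linear form on the quotient is given by commuting with an element. -/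
theorem exists_pair (P : Vq Q → Prop) (hP : ∀ v w, P (v * w) ↔ (P v ↔ P w)) :
    ∃ r, ∀ v, P v ↔ ¬ S.Skew r v := by
  classical
  letI : CommGroup (Vq Q) := { (inferInstance : Group (Vq Q)) with mul_comm := S.v_comm }
  let A := Additive (Vq Q)
  letI : Module (ZMod 2) A := AddCommGroup.zmodModule fun x => by
    rw [two_nsmul]; exact S.v_sq (Additive.toMul x)
  let f : A → (A →ₗ[ZMod 2] ZMod 2) := fun v =>
    (AddMonoidHom.mk' (fun w : A => if S.Skew (Additive.toMul v) (Additive.toMul w) then (1 : ZMod 2) else 0)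
      fun a b => by
        show (if S.Skew (Additive.toMul v) (Additive.toMul a * Additive.toMul b) then (1 : ZMod 2) else 0) = _
        simp only [S.skew_mul']
        by_cases h1 : S.Skew (Additive.toMul v) (Additive.toMul a) <;>
          by_cases h2 : S.Skew (Additive.toMul v) (Additive.toMul b) <;>
          simp [h1, h2, CharTwo.add_self_eq_zero]).toZModLinearMap 2
  let L : A →ₗ[ZMod 2] (A →ₗ[ZMod 2] ZMod 2) :=
    (AddMonoidHom.mk' f fun a b => LinearMap.ext fun w => by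
      show (if S.Skew (Additive.toMul a * Additive.toMul b) (Additive.toMul w) then (1 : ZMod 2) else 0) =
        (if S.Skew (Additive.toMul a) (Additive.toMul w) then (1 : ZMod 2) else 0) +
          (if S.Skew (Additive.toMul b) (Additive.toMul w) then (1 : ZMod 2) else 0)
      simp only [S.skew_mul]
      by_cases h1 : S.Skew (Additive.toMul a) (Additive.toMul w) <;>
        by_cases h2 : S.Skew (Additive.toMul b) (Additive.toMul w) <;>
        simp [h1, h2, CharTwo.add_self_eq_zero]).toZModLinearMap 2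
  have inj : Function.Injective L := by
    rw [injective_iff_map_eq_zero]
    intro v hv
    refine Additive.toMul.injective (S.nondeg fun w hw => ?_)
    have h := LinearMap.congr_fun hv (Additive.ofMul w)
    change (if _ then (1 : ZMod 2) else 0) = 0 at h
    rw [if_pos (by exact hw)] at h
    exact one_ne_zero h
  have surj := (LinearMap.injective_iff_surjective_of_finrank_eq_finrank
    (Subspace.dual_finrank_eq (K := ZMod 2) (V := A)).symm).1 inj
  let χ : A →ₗ[ZMod 2] ZMod 2 :=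
    (AddMonoidHom.mk' (fun w : A => if P (Additive.toMul w) then (0 : ZMod 2) else 1) fun a b => by
      show (if P (Additive.toMul a * Additive.toMul b) then (0 : ZMod 2) else 1) = _
      simp only [hP]
      by_cases h1 : P (Additive.toMul a) <;> by_cases h2 : P (Additive.toMul b) <;>
        simp [h1, h2, CharTwo.add_self_eq_zero]).toZModLinearMap 2
  obtain ⟨r, hr⟩ := surj χ
  refine ⟨Additive.toMul r, fun v => ?_⟩
  have h := LinearMap.congr_fun hr (Additive.ofMul v)
  change (if S.Skew (Additive.toMul r) v then (1 : ZMod 2) else 0) = if P v then 0 else 1 at h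
  by_cases h1 : S.Skew (Additive.toMul r) v <;> by_cases h2 : P v <;> simp [h1, h2] at h ⊢

/-- An element of the centraliser inducing the identity on the quotient lies in `Q`. -/
theorem faithful {y : Cfsg.PSp 2 (ZMod 3)} (h : ∀ v, S.act y v = v) : y = 1 := by
  classical
  obtain ⟨c, rfl⟩ := S.π_surj y
  refine (S.π_ker c).2 ?_
  have hsign : ∀ q ∈ Q, (c : G) * q * (c : G)⁻¹ = q ∨ (c : G) * q * (c : G)⁻¹ = z * q := fun q hq => by
    refine (S.vec_eq (S.conj_mem c hq) hq).1 ?_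
    rw [← S.act_vec c hq, h]
  let P : Vq Q → Prop := fun v => (c : G) * S.rep v * (c : G)⁻¹ = S.rep v
  have hPv : ∀ q ∈ Q, P (S.vec q) ↔ (c : G) * q * (c : G)⁻¹ = q := fun q hq => by
    rcases (S.vec_eq (S.rep_mem _) hq).1 (S.vec_rep (S.vec q)) with e | e
    · show (c : G) * S.rep (S.vec q) * (c : G)⁻¹ = S.rep (S.vec q) ↔ _
      rw [e]
    · show (c : G) * S.rep (S.vec q) * (c : G)⁻¹ = S.rep (S.vec q) ↔ _
      rw [e, show (c : G) * (z * q) * (c : G)⁻¹ = ((c : G) * z) * q * (c : G)⁻¹ by group, S.mem_H.1 c.2,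
        show z * (c : G) * q * (c : G)⁻¹ = z * ((c : G) * q * (c : G)⁻¹) by group, mul_right_inj]
  obtain ⟨v, hv⟩ := S.exists_pair P fun a b => by
    obtain ⟨p, hp, rfl⟩ := S.surj a
    obtain ⟨q, hq, rfl⟩ := S.surj b
    rw [← S.vec_mul hp hq, hPv _ (mul_mem hp hq), hPv _ hp, hPv _ hq]
    exact S.sign_mul c hp hsign hq
  obtain ⟨r, hr, rfl⟩ := S.surj v
  have hrq : ∀ q ∈ Q, r * q * r⁻¹ = (c : G) * q * (c : G)⁻¹ := fun q hq => by
    have h1 := hv (S.vec q)
    rw [hPv q hq, S.skew_vec hr hq, not_not] at h1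
    rcases hsign q hq with e | e
    · rw [e, mul_inv_eq_iff_eq_mul]
      exact h1.1 e
    · rw [e]
      refine (S.extra.conj_cases hr hq).resolve_left fun k => S.ne ?_
      have := h1.2 (mul_inv_eq_iff_eq_mul.1 k)
      rw [e] at this
      exact mul_eq_right.1 this
  have hk : ((c : G)⁻¹ * r) ∈ Q := by
    refine S.self _ ?_ fun q hq => ?_
    · exact S.mem_H.1 (mul_mem (inv_mem c.2) (S.le hr))
    · have := hrq q hq
      calc q * ((c : G)⁻¹ * r) = (c : G)⁻¹ * ((c : G) * q * (c : G)⁻¹) * r := by group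
        _ = (c : G)⁻¹ * r * q := by rw [← this]; group
  simpa using mul_mem hr (inv_mem hk)

end Ctx

end CfsgLib.U6Large
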