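import Cfsg.Agent.Lib.U6Large.Outside

/-! The fused involution acts as a unitary transvection and centralises every fixed vector. -/

set_option autoImplicit false
set_option linter.unusedSectionVars false
set_option linter.style.longLine false

namespace CfsgLib.U6Large

open Subgroup CfsgLib.SpFourThree CfsgLib.ThreeTrans.UCent
open CfsgLib.ThreeTrans.UCent.W (mk')

universe u

variable {G : Type u} [Group G] [Finite G] {z : G} {Q : Subgroup G} {S : Ctx z Q}

theorem card_flat : Nat.card {w : W // flat w = true} = 16 := by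
  rw [Nat.card_eq_fintype_card]; decide +kernel

theorem card_perp_base : Nat.card {w : W // perp w base = true} = 64 := by
  rw [Nat.card_eq_fintype_card]; decide +kernel

theorem three_fix_iff (w : W) : wordW [3] w = w ↔ perp w base = true := by rw [three_eq_tv, tv_fix base_ne]

namespace Ctx.Natural

variable (N : S.Natural)
include N

/-- Lifts of a set of coordinates inside a subgroup. -/
theorem card_ge (D : Subgroup G) (P : W → Bool) (h : ∀ q ∈ Q, P (N.co q) = true → q ∈ D) :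
    2 * Nat.card {w : W // P w = true} ≤ Nat.card D := by
  choose f hfQ hf using N.co_surj
  have hmem : ∀ (b : Bool) (w : {w : W // P w = true}), cond b z 1 * f w.1 ∈ D := fun b w => by
    have hb : cond b z 1 ∈ Q := by cases b <;> simp [S.zQ, one_mem]
    refine h _ (mul_mem hb (hfQ _)) ?_
    rw [N.co_mul hb (hfQ _), hf]
    cases b <;> simp [N.co_one, N.co_z, w.2]
  calc 2 * Nat.card {w : W // P w = true} = Nat.card (Bool × {w : W // P w = true}) := by
        rw [Nat.card_prod, Nat.card_eq_fintype_card (α := Bool), Fintype.card_bool]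
    _ ≤ Nat.card D := by
      refine Nat.card_le_card_of_injective (fun x => (⟨_, hmem x.1 x.2⟩ : D)) ?_
      rintro ⟨b, w, hw⟩ ⟨b', w', hw'⟩ e
      have e : cond b z 1 * f w = cond b' z 1 * f w' := congrArg Subtype.val e
      have hb : ∀ b : Bool, cond b z 1 ∈ Q := fun b => by cases b <;> simp [S.zQ, one_mem]
      have hbz : ∀ b : Bool, N.co (cond b z 1) = 0 := fun b => by cases b <;> simp [N.co_one, N.co_z]
      have ew : w = w' := by
        have := congrArg N.co e
        rwa [N.co_mul (hb b) (hfQ _), N.co_mul (hb b') (hfQ _), hbz, hbz, zero_add, zero_add, hf, hf] at this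
      subst ew
      have hb2 := mul_right_cancel e
      cases b <;> cases b' <;> simp [S.ne, Ne.symm S.ne] at hb2 ⊢

end Ctx.Natural

namespace Ctx.Out

variable (O : S.Out) (N : S.Natural)
include O N

theorem pair_false (hτ : S.π O.X = ev [3, 5]) : False := by
  have hg : ∀ u, N.gW (S.π O.X) u = wordW [3, 5] u := fun u => by rw [hτ, N.gW_pair]
  have hflat : ∀ q ∈ O.C, flat (N.co q) = true := fun q hq => (pair_fix _).1 (by rw [← hg, O.fixed N hq])
  have hCmem : ∀ q ∈ Q, flat (N.co q) = true → q ∈ O.C := fun q hq h => by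
    obtain ⟨u, hu⟩ := pair_surj h
    exact O.comm_of_reach N hq (by rw [hg, hu]) ((N.sq_iff hq).2 (flat_facts h h).1)
  have hC : 32 ≤ Nat.card O.C := by
    have := N.card_ge O.C flat hCmem
    rwa [card_flat] at this
  obtain ⟨k, hk, hk1⟩ : ∃ k ∈ O.K, k ≠ 1 := by
    by_contra hn
    push Not at hn
    have e := (S.conj O.g).card_split O.C_le
    have hK : Nat.card ↥(O.C ⊓ Qc Q O.g) ≤ 1 := by
      rw [show O.C ⊓ Qc Q O.g = ⊥ from eq_bot_iff.2 fun k hk => hn k hk]
      simp
    have himg : Nat.card ((S.conj O.g).proj O.C_le).range ≤ 16 := by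
      refine (S.conj O.g).card_proj_abelian O.C_le (S.pgroup.to_le inf_le_left) fun a ha b hb => ?_
      have h : a * b = b * a := (N.comm_iff ha.1 hb.1).2 (flat_facts (hflat a ha) (hflat b hb)).2.2.1
      rw [h, mul_inv_cancel_right, mul_inv_cancel]
      exact one_mem _
    have := Nat.mul_le_mul hK himg
    omega
  have hF := N.noFusion
  have hkQ := (O.mem_C.1 hk.1).1
  obtain ⟨u0, hu0⟩ := pair_surj (hflat k hk.1)
  have hxz : ¬ IsConj z (O.x * z) := O.xz_not (hF := hF) N hk hk1 (u := u0) (by rw [hg, hu0])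
  obtain ⟨l, u, hl, hcomm, hne, hu, hbt⟩ := b_words (hflat k hk.1) (O.k_co_ne N hk hk1)
  obtain ⟨c, hc⟩ := S.π_surj (ev l)
  obtain ⟨q, hq, hcq, hfix⟩ := O.invol N (c := c) (by rw [hc, hτ, hcomm])
  obtain ⟨v, hv⟩ := pair_surj ((pair_fix _).1 (by rw [← hg, hfix]))
  obtain ⟨d, hd, hdx⟩ := O.adjust N hq hcq (u := v) (by rw [hg, hv]) hxz
  have hk' := O.conj_K hdx hk
  set k' := (d : G) * k * (d : G)⁻¹
  have hco : N.co k' = wordW l (N.co k) := by rw [N.co_conj d hkQ, hd, hc, N.gW_ev hl]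
  have hk'1 : k' ≠ 1 := fun e => hk1 (conj_eq_one_iff.1 e)
  obtain ⟨p0, hp0, hp0u⟩ := N.co_surj u0
  obtain ⟨p, hp, rfl⟩ := N.co_surj u
  have e0 := O.reach_k (hF := hF) N hk hk1 hp0 (by rw [hg, hp0u, hu0])
  have e1 := O.reach_k (hF := hF) N hk' hk'1 hp (by rw [hg, hu, hco])
  have hpk : p * k = k * p := (N.comm_iff hp hkQ).2 hbt
  have hk'Q := (O.mem_C.1 hk'.1).1
  refine O.xk_not (hF := hF) (mul_mem hk' hk) (fun e => hne ?_) ?_
  · rw [← hco]
    have := congrArg N.co e
    rwa [N.co_mul hk'Q hkQ, N.co_one, W.add_eq_zero'] at this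
  · refine ((isConj_iff.2 ⟨p * p0 * O.g, ?_⟩ : IsConj z (O.x * (k' * k))))
    have hpz : p * z = z * p := S.extra.comm_z hp
    calc p * p0 * O.g * z * (p * p0 * O.g)⁻¹ = p * (p0 * O.x * p0⁻¹) * p⁻¹ := by rw [x]; group
      _ = p * O.x * (z * k) * p⁻¹ := by rw [e0]; group
      _ = (p * O.x * p⁻¹) * (p * (z * k) * p⁻¹) := by group
      _ = O.x * (z * k') * (z * k) := by
        rw [e1, ← mul_assoc p z, hpz, mul_assoc z p, hpk, ← mul_assoc z k, mul_inv_cancel_right]
      _ = O.x * (k' * k) := by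
        rw [mul_assoc O.x, mul_assoc z k', ← mul_assoc k' z, S.extra.comm_z hk'Q, mul_assoc z k', ← mul_assoc z z,
          S.zz, one_mul]

theorem good_false (hτ : S.π O.X = ev [3]) {q0 : G} (hq0 : q0 ∈ Q) (hq0f : perp (N.co q0) base = true)
    (hq0x : q0 * O.x ≠ O.x * q0) : False := by
  have hg : ∀ u, N.gW (S.π O.X) u = wordW [3] u := fun u => by rw [hτ, N.gW_ev (by rfl)]
  have hperp : ∀ q ∈ O.C, perp (N.co q) base = true := fun q hq =>
    (three_fix_iff _).1 (by rw [← hg, O.fixed N hq])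
  have hF := N.noFusion
  have hflip : ∀ q ∈ Q, perp (N.co q) base = true → q * O.x ≠ O.x * q → q * O.x * q⁻¹ = O.x * z := by
    intro q hq hf hqx
    have hco : N.co (O.x * q * O.x⁻¹) = N.co q := by rw [O.co_x N hq, hg, (three_fix_iff _).2 hf]
    rcases N.co_eq (S.conj_mem O.X hq) hq hco with e | e
    · exact absurd (mul_inv_eq_iff_eq_mul.1 e).symm hqx
    · change O.x * q * O.x⁻¹ = z * q at e
      rw [mul_inv_eq_iff_eq_mul] at e ⊢
      calc q * O.x = z * z * (q * O.x) := by rw [S.zz, one_mul]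
        _ = z * (z * q * O.x) := by group
        _ = O.x * z * q := by rw [← e, ← mul_assoc, O.zx]
  have hxz : IsConj z (O.x * z) :=
    (isConj_iff.2 ⟨O.g, rfl⟩ : IsConj z O.x).trans (isConj_iff.2 ⟨q0, hflip q0 hq0 hq0f hq0x⟩)
  have hline : ∀ k ∈ O.K, k ≠ 1 → onLine base (N.co k) = false := by
    intro k hk hk1
    by_contra h
    obtain ⟨u, hu⟩ := three_surj (Bool.not_eq_false _ ▸ h : onLine base (N.co k) = true)
    exact O.xz_not (hF := hF) N hk hk1 (u := u) (by rw [hg, hu]) hxz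
  have hsplit : ∀ q ∈ Q, perp (N.co q) base = true → q * O.x ≠ O.x * q → ∀ q' ∈ Q,
      perp (N.co q') base = true → q' ∈ O.C ∨ q⁻¹ * q' ∈ O.C := by
    intro q hq hf hqx q' hq' hf'
    by_cases h : q' * O.x = O.x * q'
    · exact Or.inl (O.mem_C.2 ⟨hq', h⟩)
    · refine Or.inr (O.mem_C.2 ⟨mul_mem (inv_mem hq) hq', ?_⟩)
      rw [← mul_inv_eq_iff_eq_mul]
      calc q⁻¹ * q' * O.x * (q⁻¹ * q')⁻¹ = q⁻¹ * (q' * O.x * q'⁻¹) * q := by group
        _ = q⁻¹ * (q * O.x * q⁻¹) * q := by rw [hflip q' hq' hf' h, hflip q hq hf hqx]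
        _ = O.x := by group
  have hC : 64 ≤ Nat.card O.C := by
    let D : Set G := {q | q ∈ Q ∧ perp (N.co q) base = true}
    have hsub : D ⊆ ↑O.C ∪ (fun q => q0 * q) '' ↑O.C := by
      rintro q ⟨hq, hf⟩
      rcases hsplit q0 hq0 hq0f hq0x q hq hf with h | h
      · exact Or.inl h
      · exact Or.inr ⟨_, h, mul_inv_cancel_left q0 q⟩
    let D' : Subgroup G :=
      { carrier := D
        one_mem' := ⟨one_mem _, by rw [N.co_one]; exact perp_zero _⟩
        mul_mem' := fun {a b} ha hb => ⟨mul_mem ha.1 hb.1, by rw [N.co_mul ha.1 hb.1]; exact perp_add ha.2 hb.2⟩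
        inv_mem' := fun {a} ha => ⟨inv_mem ha.1, by rw [N.co_inv ha.1]; exact ha.2⟩ }
    have h1 := N.card_ge D' (fun w => perp w base) fun q hq h => ⟨hq, h⟩
    rw [card_perp_base] at h1
    have h2 : Nat.card D' = D.ncard := rfl
    have h3 : Nat.card O.C = (↑O.C : Set G).ncard := rfl
    have := (Set.ncard_le_ncard hsub (Set.toFinite _)).trans
      ((Set.ncard_union_le _ _).trans (Nat.add_le_add_left (Set.ncard_image_le (Set.toFinite _)) _))
    omega
  obtain ⟨k, hk, hk1⟩ : ∃ k ∈ O.K, k ≠ 1 := by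
    by_contra hn
    push Not at hn
    let T := S.conj O.g
    have e := T.card_split O.C_le
    have hK : Nat.card ↥(O.C ⊓ Qc Q O.g) ≤ 1 := by
      rw [show O.C ⊓ Qc Q O.g = ⊥ from eq_bot_iff.2 fun k hk => hn k hk]
      simp
    have h64 : 64 ≤ Nat.card (T.proj O.C_le).range := by
      by_contra hlt
      have := Nat.mul_le_mul hK (show Nat.card (T.proj O.C_le).range ≤ 63 by omega)
      omega
    obtain ⟨a, ⟨a', ha⟩, b, ⟨b', hb⟩, hne1, hnew⟩ := two_commutators (T.proj_range_pgroup O.C_le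
      (S.pgroup.to_le inf_le_left)) h64 (w := T.proj O.C_le ⟨z, O.z_mem_C⟩)
    rw [← ha, ← hb, ← map_inv, ← map_inv, ← map_mul, ← map_mul, ← map_mul] at hne1 hnew
    rcases S.extra.conj_cases (O.mem_C.1 a'.2).1 (O.mem_C.1 b'.2).1 with h | h
    · exact hne1 (by
        rw [show a' * b' * a'⁻¹ * b'⁻¹ = 1 from Subtype.ext (by simp [h]), map_one])
    · exact hnew (congrArg _ (Subtype.ext (by simp [h])))
  have hkQ := (O.mem_C.1 hk.1).1
  have hkline := hline k hk hk1
  have hiff : ∀ q ∈ Q, perp (N.co q) base = true → (q * O.x = O.x * q ↔ bt (N.co q) (N.co k) = false) := by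
    intro q hq hf
    refine ⟨fun h => (N.comm_iff hq hkQ).1 ((O.K_props hk).2.2 q (O.mem_C.2 ⟨hq, h⟩)), fun h => ?_⟩
    by_contra hqx
    refine Bool.noConfusion (hkline.symm.trans (mem_line_of_bt base_iso fun u hu => ?_))
    obtain ⟨q', hq', rfl⟩ := N.co_surj u
    rcases hsplit q hq hf hqx q' hq' hu with h' | h'
    · exact (N.comm_iff hq' hkQ).1 ((O.K_props hk).2.2 q' h')
    · have h1 := (N.comm_iff (O.mem_C.1 h').1 hkQ).1 ((O.K_props hk).2.2 _ h')
      rw [N.co_mul (inv_mem hq) hq', N.co_inv hq, bt_add, h] at h1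
      simpa using h1
  obtain ⟨l, hl, hcomm, hon, hne⟩ := t_words (k := N.co k) (by rw [← hg, O.fixed N hk.1]) hkline
  obtain ⟨c, hc⟩ := S.π_surj (ev l)
  obtain ⟨q, hq, hcq, hfix⟩ := O.invol N (c := c) (by rw [hc, hτ, hcomm])
  have hqp : perp (N.co q) base = true := (three_fix_iff _).1 (by rw [← hg, hfix])
  have hqline : onLine base (N.co q) = true := by
    refine mem_line_of_bt base_iso fun u hu => ?_
    obtain ⟨q', hq', rfl⟩ := N.co_surj u
    have hq'' : (c : G)⁻¹ * q' * (c : G) ∈ Q := by simpa using S.conj_mem c⁻¹ hq'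
    have hco'' : N.co ((c : G)⁻¹ * q' * (c : G)) = N.gW (S.π c)⁻¹ (N.co q') := by
      rw [← map_inv, ← N.co_conj c⁻¹ hq']; simp
    have hperp'' : perp (N.co ((c : G)⁻¹ * q' * (c : G))) base = true := by
      refine (three_fix_iff _).1 (N.gW_inj (ev l) ?_)
      rw [hco'', hc, ← hg, hτ, ← N.gW_mul, ← N.gW_mul, ← N.gW_mul, hcomm, mul_inv_cancel_right,
        mul_inv_cancel, N.gW_one, ← hτ, hg, (three_fix_iff _).2 hu]
    have hA := hiff q' hq' hu
    have hB := hiff _ hq'' hperp''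
    rw [hco'', ← N.gW_bt (S.π c), ← N.gW_mul, mul_inv_cancel, N.gW_one, hc, N.gW_ev hl] at hB
    have hB' : ((c : G)⁻¹ * q' * (c : G)) * O.x = O.x * ((c : G)⁻¹ * q' * (c : G)) ↔
        q' * (O.x * q) = O.x * q * q' := by
      rw [← hcq]
      constructor <;> intro h
      · calc q' * ((c : G) * O.x * (c : G)⁻¹) = (c : G) * (((c : G)⁻¹ * q' * (c : G)) * O.x) * (c : G)⁻¹ := by group
          _ = (c : G) * (O.x * ((c : G)⁻¹ * q' * (c : G))) * (c : G)⁻¹ := by rw [h]
          _ = (c : G) * O.x * (c : G)⁻¹ * q' := by group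
      · calc (c : G)⁻¹ * q' * (c : G) * O.x = (c : G)⁻¹ * (q' * ((c : G) * O.x * (c : G)⁻¹)) * (c : G) := by group
          _ = (c : G)⁻¹ * ((c : G) * O.x * (c : G)⁻¹ * q') * (c : G) := by rw [h]
          _ = O.x * ((c : G)⁻¹ * q' * (c : G)) := by group
    have hC' : q' * (O.x * q) = O.x * q * q' ↔ ((q' * O.x = O.x * q') ↔ (q' * q = q * q')) := by
      have hxq : O.x * q' = q' * O.x ∨ O.x * q' = z * (q' * O.x) := by
        by_cases h : q' * O.x = O.x * q'
        · exact Or.inl h.symm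
        · refine Or.inr ?_
          have h2 := hflip q' hq' hu h
          rw [mul_inv_eq_iff_eq_mul] at h2
          rw [h2, mul_assoc O.x, ← mul_assoc z O.x, O.zx, mul_assoc O.x z, ← mul_assoc z z, S.zz, one_mul]
      have hqq : q * q' = q' * q ∨ q * q' = z * (q' * q) := by
        rcases S.extra.conj_cases hq hq' with e | e
        · exact Or.inl (mul_inv_eq_iff_eq_mul.1 e)
        · rw [mul_inv_eq_iff_eq_mul] at e
          exact Or.inr (by rw [e, mul_assoc])
      have hne : ∀ a : G, z * a ≠ a := fun a e => S.ne (mul_eq_right.1 e)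
      rcases hxq with a | a <;> rcases hqq with b | b
      · exact iff_of_true (by rw [mul_assoc O.x, b, ← mul_assoc O.x, a, mul_assoc]) (iff_of_true a.symm b.symm)
      · refine iff_of_false (fun k => ?_) (by simp [a, b, (hne _).symm])
        rw [mul_assoc O.x, b, ← mul_assoc O.x, ← O.zx, mul_assoc z, ← mul_assoc O.x q', a, mul_assoc] at k
        exact hne _ k.symm
      · refine iff_of_false (fun k => ?_) (by simp [a, b, (hne _).symm])
        rw [mul_assoc O.x, b, ← mul_assoc O.x, a, mul_assoc z, mul_assoc q'] at k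
        exact hne _ k.symm
      · refine iff_of_true ?_ (by simp [a, b, (hne _).symm])
        rw [mul_assoc O.x, b, ← mul_assoc O.x, ← O.zx, mul_assoc z, ← mul_assoc O.x q', a, mul_assoc z, ← mul_assoc z z,
          S.zz, one_mul, mul_assoc]
    have hD : bt (N.co q') (wordW l (N.co k) + N.co k) = false := perp_line hu hon
    rw [bt_add'] at hD
    have hbt := N.comm_iff hq' hq
    rw [hB', hC', hA, hbt] at hB
    cases h1 : bt (N.co q') (N.co q) <;> cases h2 : bt (N.co q') (N.co k) <;>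
      cases h3 : bt (N.co q') (wordW l (N.co k)) <;> simp [h1, h2, h3] at hD hB ⊢
  obtain ⟨v, hv⟩ := three_surj hqline
  obtain ⟨p, hp, rfl⟩ := N.co_surj v
  obtain ⟨p', hp', e⟩ : ∃ p' ∈ Q, p' * O.x * p'⁻¹ = O.x * q := by
    rcases O.reach N hp hq (by rw [hg, hv]) with e | e
    · exact ⟨p, hp, e⟩
    · refine ⟨p * q0, mul_mem hp hq0, ?_⟩
      calc p * q0 * O.x * (p * q0)⁻¹ = p * (q0 * O.x * q0⁻¹) * p⁻¹ := by group
        _ = p * O.x * (z * p⁻¹) := by rw [hflip q0 hq0 hq0f hq0x]; group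
        _ = p * O.x * p⁻¹ * z := by rw [← S.extra.comm_z (inv_mem hp), mul_assoc _ p⁻¹]
        _ = O.x * (z * q * z) := by rw [e]; group
        _ = O.x * q := by rw [mul_assoc z, S.extra.comm_z hq, ← mul_assoc z, S.zz, one_mul]
  let d : centralizer ({z} : Set G) := ⟨p', S.le hp'⟩⁻¹ * c
  have hd : S.π d = ev l := by
    rw [map_mul, map_inv, (S.π_ker ⟨p', S.le hp'⟩).2 hp', inv_one, one_mul, hc]
  have hdx : (d : G) * O.x = O.x * (d : G) := by
    rw [← mul_inv_eq_iff_eq_mul]
    show p'⁻¹ * (c : G) * O.x * (p'⁻¹ * (c : G))⁻¹ = O.x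
    calc p'⁻¹ * (c : G) * O.x * (p'⁻¹ * (c : G))⁻¹ = p'⁻¹ * ((c : G) * O.x * (c : G)⁻¹) * p' := by group
      _ = O.x := by rw [hcq, ← e]; group
  have hk' := O.conj_K hdx hk
  have hk'Q := (O.mem_C.1 hk'.1).1
  have hco : N.co ((d : G) * k * (d : G)⁻¹ * k) = wordW l (N.co k) + N.co k := by
    rw [N.co_mul hk'Q hkQ, N.co_conj d hkQ, hd, N.gW_ev hl]
  refine Bool.noConfusion ((hline _ (mul_mem hk' hk) fun e => hne ?_).symm.trans (hco.symm ▸ hon))
  rw [e, N.co_one, eq_comm, W.add_eq_zero'] at hco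
  exact hco

theorem three_props (hτ : S.π O.X = ev [3]) :
    (∀ q ∈ Q, perp (N.co q) base = true → q * O.x = O.x * q) ∧ ¬ IsConj z (O.x * z) := by
  have hgood : ∀ q ∈ Q, perp (N.co q) base = true → q * O.x = O.x * q := fun q hq h =>
    by_contra fun hn => O.good_false N hτ hq h hn
  refine ⟨hgood, ?_⟩
  have hC := N.card_ge O.C (fun w => perp w base) fun q hq h => O.mem_C.2 ⟨hq, hgood q hq h⟩
  rw [card_perp_base] at hC
  obtain ⟨k, hk, hk1⟩ := O.K_ne_bot hC
  have hline : onLine base (N.co k) = true := mem_line_of_bt base_iso fun u hu => by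
    obtain ⟨q, hq, rfl⟩ := N.co_surj u
    exact (N.comm_iff hq (O.mem_C.1 hk.1).1).1 ((O.K_props hk).2.2 q (O.mem_C.2 ⟨hq, hgood q hq hu⟩))
  obtain ⟨u, hu⟩ := three_surj hline
  exact O.xz_not (hF := N.noFusion) N hk hk1 (u := u) (by rw [hτ, N.gW_ev (by rfl), hu])

end Ctx.Out

end CfsgLib.U6Large
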