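import Cfsg.Agent.Lib.U6Large.Tables

/-! The unitary shape: the coordinates of an element and the action of the simple group on them. -/

set_option autoImplicit false
set_option linter.unusedSectionVars false
set_option linter.style.longLine false

namespace CfsgLib.U6Large

open Subgroup CfsgLib.SpFourThree CfsgLib.ThreeTrans.UCent
open CfsgLib.ThreeTrans.UCent.W (mk')

universe u

variable {G : Type u} [Group G] [Finite G] {z : G} {Q : Subgroup G} {S : Ctx z Q}

namespace Ctx.Natural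

variable (N : S.Natural)
include N

theorem e_one : N.e 1 = 0 := by
  have h := N.add 1 1
  rw [one_mul] at h
  exact left_eq_add.1 h

theorem e_eq_zero {v : Vq Q} : N.e v = 0 ↔ v = 1 := by rw [← N.e_one, N.e.apply_eq_iff_eq]

/-- The coordinates of an element of `Q`. -/
noncomputable def co (x : G) : W := N.e (S.vec x)

theorem co_mul {p q : G} (hp : p ∈ Q) (hq : q ∈ Q) : N.co (p * q) = N.co p + N.co q := by
  rw [co, S.vec_mul hp hq, N.add]; rfl

theorem co_zero {q : G} (hq : q ∈ Q) : N.co q = 0 ↔ q = 1 ∨ q = z := by rw [co, N.e_eq_zero, S.vec_eq_one hq]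

theorem co_one : N.co 1 = 0 := (N.co_zero (one_mem Q)).2 (Or.inl rfl)

theorem co_z : N.co z = 0 := (N.co_zero S.zQ).2 (Or.inr rfl)

theorem co_inv {q : G} (hq : q ∈ Q) : N.co q⁻¹ = N.co q := by
  have h := N.co_mul (inv_mem hq) hq
  rw [inv_mul_cancel, N.co_one, eq_comm, W.add_eq_zero'] at h
  exact h

theorem co_eq {p q : G} (hp : p ∈ Q) (hq : q ∈ Q) (h : N.co p = N.co q) : p = q ∨ p = z * q :=
  (S.vec_eq hp hq).1 (N.e.injective h)

theorem co_surj (x : W) : ∃ q ∈ Q, N.co q = x := by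
  obtain ⟨q, hq, e⟩ := S.surj (N.e.symm x)
  exact ⟨q, hq, by rw [co, e, Equiv.apply_symm_apply]⟩

theorem comm_iff {p q : G} (hp : p ∈ Q) (hq : q ∈ Q) : p * q = q * p ↔ bt (N.co p) (N.co q) = false := by
  rw [co, co, ← Bool.not_eq_true, ← N.skew, S.skew_vec hp hq, not_not]

theorem sq_iff {q : G} (hq : q ∈ Q) : q * q = 1 ↔ qW (N.co q) = false := by
  rw [co, ← Bool.not_eq_true, ← N.four, S.four_vec hq, not_not]

/-- The action on coordinates. -/
noncomputable def gW (y : Cfsg.PSp 2 (ZMod 3)) (x : W) : W := N.e (S.act y (N.e.symm x))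

theorem gW_one (x : W) : N.gW 1 x = x := by rw [gW, S.act_one, Equiv.apply_symm_apply]

theorem gW_mul (a b : Cfsg.PSp 2 (ZMod 3)) (x : W) : N.gW (a * b) x = N.gW a (N.gW b x) := by
  rw [gW, gW, gW, Equiv.symm_apply_apply, S.act_mul]

theorem gW_inv (a : Cfsg.PSp 2 (ZMod 3)) (x : W) : N.gW a⁻¹ (N.gW a x) = x := by
  rw [← N.gW_mul, inv_mul_cancel, N.gW_one]

theorem gW_inj (a : Cfsg.PSp 2 (ZMod 3)) {x y : W} (h : N.gW a x = N.gW a y) : x = y := by
  rw [← N.gW_inv a x, h, N.gW_inv]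

theorem e_symm_add (x y : W) : N.e.symm (x + y) = N.e.symm x * N.e.symm y := by
  apply N.e.injective
  rw [N.add, Equiv.apply_symm_apply, Equiv.apply_symm_apply, Equiv.apply_symm_apply]

theorem gW_add (a : Cfsg.PSp 2 (ZMod 3)) (x y : W) : N.gW a (x + y) = N.gW a x + N.gW a y := by
  rw [gW, N.e_symm_add, S.act_hom, N.add]; rfl

theorem gW_zero (a : Cfsg.PSp 2 (ZMod 3)) : N.gW a 0 = 0 := by
  have h := N.gW_add a 0 0
  rw [add_zero] at h
  exact left_eq_add.1 h

theorem gW_ne (a : Cfsg.PSp 2 (ZMod 3)) {x : W} (h : x ≠ 0) : N.gW a x ≠ 0 := fun e =>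
  h (N.gW_inj a (e.trans (N.gW_zero a).symm))

theorem gW_bt (a : Cfsg.PSp 2 (ZMod 3)) (x y : W) : bt (N.gW a x) (N.gW a y) = bt x y := by
  rw [Bool.eq_iff_iff, gW, gW, ← N.skew, S.skew_act, N.skew, Equiv.apply_symm_apply, Equiv.apply_symm_apply]

theorem gW_qW (a : Cfsg.PSp 2 (ZMod 3)) (x : W) : qW (N.gW a x) = qW x := by
  rw [Bool.eq_iff_iff, gW, ← N.four, S.four_act, N.four, Equiv.apply_symm_apply]

theorem gW_ev {l : List ℕ} (h : okW l = true) (x : W) : N.gW (ev l) x = wordW l x := by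
  induction l with
  | nil => rw [ev_nil, N.gW_one]; rfl
  | cons j l ih =>
    simp only [okW, List.all_cons, Bool.and_eq_true] at h
    rw [ev_cons, N.gW_mul, ih h.2, gW, N.gen j (Nat.lt_succ_of_le (Nat.le_of_ble_eq_true h.1)),
      Equiv.apply_symm_apply]
    rfl

theorem gW_om (a : Cfsg.PSp 2 (ZMod 3)) : ∀ x, N.gW a (om x) = om (N.gW a x) := by
  have key : ∀ {a : Cfsg.PSp 2 (ZMod 3)}, (∀ x, N.gW a (om x) = om (N.gW a x)) →
      ∀ x, N.gW a⁻¹ (om x) = om (N.gW a⁻¹ x) := fun {a} h x => N.gW_inj a (by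
    rw [← N.gW_mul, mul_inv_cancel, N.gW_one, h, ← N.gW_mul, mul_inv_cancel, N.gW_one])
  have hmem : a ∈ Subgroup.closure (Set.range fun j : Fin 7 => ev [j.val]) := by rw [gen_top]; trivial
  induction hmem using Subgroup.closure_induction with
  | mem y hy =>
    obtain ⟨j, rfl⟩ := hy
    have hok : okW [j.val] = true := by
      simp only [okW, List.all_cons, List.all_nil, Bool.and_true]
      exact Nat.ble_eq_true_of_le (Nat.le_of_lt_succ j.2)
    intro x
    rw [N.gW_ev hok, N.gW_ev hok, word_om hok]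
  | one => intro x; rw [N.gW_one, N.gW_one]
  | mul y w _ _ h1 h2 => intro x; rw [N.gW_mul, N.gW_mul, h2, h1]
  | inv y _ h => exact key h

theorem gW_tv (a : Cfsg.PSp 2 (ZMod 3)) (p x : W) : N.gW a (tv p x) = tv (N.gW a p) (N.gW a x) := by
  have e : bt (N.gW a x) (om (N.gW a p)) = bt x (om p) := by rw [← N.gW_om, N.gW_bt]
  rw [tv, tv, N.gW_add, N.gW_add, e, N.gW_bt]
  cases bt x (om p) <;> cases bt x p <;> simp [N.gW_zero, N.gW_om]

theorem gW_perp (a : Cfsg.PSp 2 (ZMod 3)) (x p : W) : perp (N.gW a x) (N.gW a p) = perp x p := by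
  rw [perp, perp, ← N.gW_om, N.gW_bt, N.gW_bt]

theorem gW_iso (a : Cfsg.PSp 2 (ZMod 3)) {p : W} (h : iso p = true) : iso (N.gW a p) = true := by
  rw [iso_iff] at h ⊢
  exact ⟨by rw [N.gW_qW, h.1], N.gW_ne a h.2⟩

theorem gW_faithful {a b : Cfsg.PSp 2 (ZMod 3)} (h : ∀ x, N.gW a x = N.gW b x) : a = b := by
  rw [← inv_mul_eq_one]
  refine S.faithful fun v => N.e.injective ?_
  have := h (N.e v)
  rw [S.act_mul]
  apply congrArg
  rw [gW, gW, Equiv.symm_apply_apply] at this
  rw [← N.e.injective this, S.act_inv_cancel]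

/-- The action of an element of the centraliser. -/
theorem co_conj (c : centralizer ({z} : Set G)) {q : G} (hq : q ∈ Q) :
    N.co ((c : G) * q * (c : G)⁻¹) = N.gW (S.π c) (N.co q) := by
  rw [co, co, gW, Equiv.symm_apply_apply, S.act_vec c hq]

/-- A singular vector is moved to the base one. -/
theorem exists_to_base {p : W} (hp : iso p = true) : ∃ a, N.gW a p = base := by
  obtain ⟨l, hl, e⟩ := to_base hp
  exact ⟨ev l, by rw [N.gW_ev hl, e]⟩

theorem gW_three (x : W) : N.gW (ev [3]) x = tv base x := by rw [N.gW_ev (by rfl), three_eq_tv]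

theorem gW_pair (x : W) : N.gW (ev [3, 5]) x = wordW [3, 5] x := N.gW_ev (by rfl) x

end Ctx.Natural

end CfsgLib.U6Large
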