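import Cfsg.Agent.Lib.U6Large.Chart
import Cfsg.Agent.Lib.ThreeTrans.UCent.Geom

/-! The two possible shapes of the action on the quotient by the centre, in eight bit coordinates. -/

set_option autoImplicit false
set_option linter.style.longLine false

namespace CfsgLib.U6Large

open CfsgLib.SpFourThree CfsgLib.ThreeTrans.UCent
open CfsgLib.ThreeTrans.UCent.W (mk')

universe u

/-- Unit vector images of the seven generators in the unitary module. -/
def genW : List (List ℕ) := [
  [2, 3, 8, 12, 32, 48, 64, 128],
  [1, 2, 12, 4, 32, 48, 64, 128],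
  [1, 2, 8, 12, 32, 48, 128, 192],
  [4, 8, 1, 2, 16, 32, 64, 128],
  [1, 2, 16, 32, 4, 8, 64, 128],
  [1, 2, 4, 8, 64, 128, 16, 32],
  [21, 42, 57, 30, 45, 54, 64, 128]]

/-- The linear map with given images of the unit vectors. -/
def mapW (im : List ℕ) (x : W) : W :=
  mk' ((List.range 8).foldl (fun r i => if x.code.val.testBit i then Nat.xor r (im.getD i 0) else r) 0)

/-- A word acting on the unitary module. -/
def wordW : List ℕ → W → W
  | [], x => x
  | j :: l, x => mapW (genW.getD j []) (wordW l x)

variable {G : Type u} [Group G]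

namespace Ctx

variable [Finite G] {z : G} {Q : Subgroup G}

/-- The unitary shape. -/
structure Natural (S : Ctx z Q) where
  /-- The coordinates. -/
  e : Vq Q ≃ W
  add : ∀ v w, e (v * w) = e v + e w
  skew : ∀ v w, S.Skew v w ↔ bt (e v) (e w) = true
  four : ∀ v, S.Four v ↔ qW (e v) = true
  gen : ∀ j < 7, ∀ v, e (S.act (ev [j]) v) = mapW (genW.getD j []) (e v)

/-- The orthogonal shape: the whole group fixes a plane, which is read in the last slot. -/
structure Minus (S : Ctx z Q) where
  /-- The coordinates. -/
  e : Vq Q ≃ W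
  add : ∀ v w, e (v * w) = e v + e w
  skew : ∀ v w, S.Skew v w ↔ bt (e v) (e w) = true
  four : ∀ v, (e v).code.val < 64 → (S.Four v ↔ qW (e v) = true)
  fix : ∀ v, (e v).code.val % 64 = 0 → ∀ y, S.act y v = v

end Ctx

end CfsgLib.U6Large
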