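import Cfsg.Agent.Lib.U6Large.Tables

/-! Certificates for the stabiliser of a flat vector in the unitary shape: its normal elementary abelian
2-subgroups and the invariant singular subspaces. -/

set_option autoImplicit false
set_option maxRecDepth 100000
set_option maxHeartbeats 1000000
set_option linter.style.longLine false

namespace CfsgLib.U6Large

open CfsgLib.SpFourThree CfsgLib.ThreeTrans.UCent
open CfsgLib.ThreeTrans.UCent.W (mk')

/-- Words fixing the flat vector. -/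
def natW : List (List ℕ) := [
  [3],
  [3, 4],
  [3, 5],
  [3, 1, 6, 4, 5, 6, 1, 1],
  [3, 1, 6, 5, 1, 6, 5, 6],
  [4],
  [4, 3],
  [4, 5],
  [4, 1, 6, 4, 5, 6, 1, 1],
  [4, 1, 6, 5, 1, 6, 5, 6],
  [5],
  [5, 4],
  [5, 1, 6, 4, 5, 6, 1, 1],
  [5, 1, 6, 5, 1, 6, 5, 6],
  [1, 6, 4, 5, 6, 1, 1],
  [1, 6, 4, 5, 6, 1, 1, 1, 6, 5, 1, 6, 5, 6],
  [1, 6, 5, 1, 6, 5, 6],
  [1, 6, 5, 1, 6, 5, 6, 3],
  [1, 6, 5, 1, 6, 5, 6, 4],
  [1, 6, 5, 1, 6, 5, 6, 5],
  []]

/-- Involutions of the Sylow subgroup with a word taking them away. -/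
def natBad : List (ℕ × ℕ) := [
  (1, 1),
  (2, 1),
  (11, 1),
  (12, 1),
  (17, 1),
  (29, 1),
  (40, 1),
  (49, 1)]

/-- The others with their images. -/
def natCand : List (ℕ × List (ℕ × ℕ)) := [
  (3, [(20, 3), (1, 7), (4, 50), (5, 4), (9, 61)]),
  (4, [(20, 4), (0, 7), (1, 3), (4, 42), (9, 50), (15, 61)]),
  (7, [(20, 7), (0, 4), (6, 3), (17, 61)]),
  (24, [(20, 24), (1, 52), (4, 35), (5, 48), (9, 43), (11, 53)]),
  (25, [(20, 25), (1, 51), (5, 39), (11, 45), (18, 46)]),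
  (26, [(20, 26), (1, 45), (5, 46), (11, 51), (18, 39)]),
  (35, [(20, 35), (1, 53), (4, 24), (5, 43), (9, 48), (11, 52)]),
  (39, [(20, 39), (0, 51), (1, 25), (2, 46), (4, 45), (9, 26)]),
  (42, [(20, 42), (0, 61), (6, 50), (17, 4)]),
  (43, [(20, 43), (0, 53), (1, 35), (2, 48), (7, 52), (18, 24)]),
  (45, [(20, 45), (0, 46), (2, 51), (4, 39), (6, 26), (7, 25)]),
  (46, [(20, 46), (0, 45), (1, 26), (2, 39), (4, 51), (9, 25)]),
  (48, [(20, 48), (0, 52), (1, 24), (2, 43), (7, 53), (18, 35)]),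
  (50, [(20, 50), (1, 42), (4, 3), (5, 61), (9, 4)]),
  (51, [(20, 51), (0, 39), (2, 45), (4, 46), (6, 25), (7, 26)]),
  (52, [(20, 52), (0, 48), (2, 53), (4, 43), (6, 24), (7, 35)]),
  (53, [(20, 53), (0, 43), (2, 52), (4, 48), (6, 35), (7, 24)]),
  (61, [(20, 61), (0, 42), (1, 50), (4, 7), (9, 3), (15, 4)]),
  (8, [(20, 8)])]

/-- Images which do not commute. -/
def natClash : List (ℕ × ℕ × ℕ × ℕ) := [
  (3, 24, 3, 52),
  (3, 25, 3, 51),
  (3, 26, 3, 45),
  (3, 35, 3, 53),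
  (3, 39, 3, 39),
  (3, 43, 3, 43),
  (3, 45, 3, 45),
  (3, 46, 3, 46),
  (3, 48, 3, 48),
  (3, 51, 3, 51),
  (3, 52, 3, 52),
  (3, 53, 3, 53),
  (4, 24, 4, 24),
  (4, 25, 4, 25),
  (4, 26, 4, 26),
  (4, 35, 4, 35),
  (4, 39, 4, 51),
  (4, 43, 4, 53),
  (4, 45, 4, 45),
  (4, 46, 4, 45),
  (4, 48, 4, 52),
  (4, 51, 4, 51),
  (4, 52, 4, 52),
  (4, 53, 4, 53),
  (7, 24, 7, 24),
  (7, 25, 7, 25),
  (7, 26, 7, 26),
  (7, 35, 7, 35),
  (7, 39, 7, 39),
  (7, 43, 7, 43),
  (7, 45, 7, 46),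
  (7, 46, 7, 46),
  (7, 48, 7, 48),
  (7, 51, 7, 39),
  (7, 52, 7, 48),
  (7, 53, 7, 43),
  (24, 3, 24, 7),
  (24, 4, 24, 4),
  (24, 7, 24, 7),
  (24, 25, 24, 51),
  (24, 26, 24, 45),
  (24, 39, 24, 39),
  (24, 42, 24, 42),
  (24, 45, 24, 45),
  (24, 46, 24, 46),
  (24, 50, 24, 42),
  (24, 51, 24, 51),
  (24, 61, 24, 61),
  (25, 3, 25, 7),
  (25, 4, 25, 4),
  (25, 7, 25, 7),
  (25, 24, 25, 52),
  (25, 35, 25, 53),
  (25, 42, 25, 42),
  (25, 43, 25, 43),
  (25, 48, 25, 48),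
  (25, 50, 25, 42),
  (25, 52, 25, 52),
  (25, 53, 25, 53),
  (25, 61, 25, 61),
  (26, 3, 26, 7),
  (26, 4, 26, 4),
  (26, 7, 26, 7),
  (26, 24, 26, 52),
  (26, 35, 26, 53),
  (26, 42, 26, 42),
  (26, 43, 26, 43),
  (26, 48, 26, 48),
  (26, 50, 26, 42),
  (26, 52, 26, 52),
  (26, 53, 26, 53),
  (26, 61, 26, 61),
  (35, 3, 35, 7),
  (35, 4, 35, 4),
  (35, 7, 35, 7),
  (35, 25, 35, 51),
  (35, 26, 35, 45),
  (35, 39, 35, 39),
  (35, 42, 35, 42),
  (35, 45, 35, 45),
  (35, 46, 35, 46),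
  (35, 50, 35, 42),
  (35, 51, 35, 51),
  (35, 61, 35, 61),
  (39, 3, 39, 3),
  (39, 4, 39, 7),
  (39, 7, 39, 7),
  (39, 24, 39, 24),
  (39, 35, 39, 35),
  (39, 42, 39, 42),
  (39, 43, 39, 53),
  (39, 48, 39, 52),
  (39, 50, 39, 50),
  (39, 52, 39, 52),
  (39, 53, 39, 53),
  (39, 61, 39, 42),
  (42, 24, 42, 24),
  (42, 25, 42, 25),
  (42, 26, 42, 26),
  (42, 35, 42, 35),
  (42, 39, 42, 39),
  (42, 43, 42, 43),
  (42, 45, 42, 46),
  (42, 46, 42, 46),
  (42, 48, 42, 48),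
  (42, 51, 42, 39),
  (42, 52, 42, 48),
  (42, 53, 42, 43),
  (43, 3, 43, 3),
  (43, 4, 43, 7),
  (43, 7, 43, 7),
  (43, 25, 43, 25),
  (43, 26, 43, 26),
  (43, 39, 43, 51),
  (43, 42, 43, 42),
  (43, 45, 43, 45),
  (43, 46, 43, 45),
  (43, 50, 43, 50),
  (43, 51, 43, 51),
  (43, 61, 43, 42),
  (45, 3, 45, 3),
  (45, 4, 45, 4),
  (45, 7, 45, 4),
  (45, 24, 45, 24),
  (45, 35, 45, 35),
  (45, 42, 45, 61),
  (45, 43, 45, 43),
  (45, 48, 45, 48),
  (45, 50, 45, 50),
  (45, 52, 45, 48),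
  (45, 53, 45, 43),
  (45, 61, 45, 61),
  (46, 3, 46, 3),
  (46, 4, 46, 7),
  (46, 7, 46, 7),
  (46, 24, 46, 24),
  (46, 35, 46, 35),
  (46, 42, 46, 42),
  (46, 43, 46, 53),
  (46, 48, 46, 52),
  (46, 50, 46, 50),
  (46, 52, 46, 52),
  (46, 53, 46, 53),
  (46, 61, 46, 42),
  (48, 3, 48, 3),
  (48, 4, 48, 7),
  (48, 7, 48, 7),
  (48, 25, 48, 25),
  (48, 26, 48, 26),
  (48, 39, 48, 51),
  (48, 42, 48, 42),
  (48, 45, 48, 45),
  (48, 46, 48, 45),
  (48, 50, 48, 50),
  (48, 51, 48, 51),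
  (48, 61, 48, 42),
  (50, 24, 50, 52),
  (50, 25, 50, 51),
  (50, 26, 50, 45),
  (50, 35, 50, 53),
  (50, 39, 50, 39),
  (50, 43, 50, 43),
  (50, 45, 50, 45),
  (50, 46, 50, 46),
  (50, 48, 50, 48),
  (50, 51, 50, 51),
  (50, 52, 50, 52),
  (50, 53, 50, 53),
  (51, 3, 51, 3),
  (51, 4, 51, 4),
  (51, 7, 51, 4),
  (51, 24, 51, 24),
  (51, 35, 51, 35),
  (51, 42, 51, 61),
  (51, 43, 51, 43),
  (51, 48, 51, 48),
  (51, 50, 51, 50),
  (51, 52, 51, 48),
  (51, 53, 51, 43),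
  (51, 61, 51, 61),
  (52, 3, 52, 3),
  (52, 4, 52, 4),
  (52, 7, 52, 4),
  (52, 25, 52, 25),
  (52, 26, 52, 26),
  (52, 39, 52, 39),
  (52, 42, 52, 61),
  (52, 45, 52, 46),
  (52, 46, 52, 46),
  (52, 50, 52, 50),
  (52, 51, 52, 39),
  (52, 61, 52, 61),
  (53, 3, 53, 3),
  (53, 4, 53, 4),
  (53, 7, 53, 4),
  (53, 25, 53, 25),
  (53, 26, 53, 26),
  (53, 39, 53, 39),
  (53, 42, 53, 61),
  (53, 45, 53, 46),
  (53, 46, 53, 46),
  (53, 50, 53, 50),
  (53, 51, 53, 39),
  (53, 61, 53, 61),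
  (61, 24, 61, 24),
  (61, 25, 61, 25),
  (61, 26, 61, 26),
  (61, 35, 61, 35),
  (61, 39, 61, 51),
  (61, 43, 61, 53),
  (61, 45, 61, 45),
  (61, 46, 61, 45),
  (61, 48, 61, 52),
  (61, 51, 61, 51),
  (61, 52, 61, 52),
  (61, 53, 61, 53)]

/-- The compatible involutions. -/
def natCompat : List (ℕ × List ℕ) := [
  (3, [3, 4, 7, 42, 50, 61, 8]),
  (4, [3, 4, 7, 42, 50, 61, 8]),
  (7, [3, 4, 7, 42, 50, 61, 8]),
  (24, [24, 35, 43, 48, 52, 53, 8]),
  (25, [25, 26, 39, 45, 46, 51, 8]),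
  (26, [25, 26, 39, 45, 46, 51, 8]),
  (35, [24, 35, 43, 48, 52, 53, 8]),
  (39, [25, 26, 39, 45, 46, 51, 8]),
  (42, [3, 4, 7, 42, 50, 61, 8]),
  (43, [24, 35, 43, 48, 52, 53, 8]),
  (45, [25, 26, 39, 45, 46, 51, 8]),
  (46, [25, 26, 39, 45, 46, 51, 8]),
  (48, [24, 35, 43, 48, 52, 53, 8]),
  (50, [3, 4, 7, 42, 50, 61, 8]),
  (51, [25, 26, 39, 45, 46, 51, 8]),
  (52, [24, 35, 43, 48, 52, 53, 8]),
  (53, [24, 35, 43, 48, 52, 53, 8]),
  (61, [3, 4, 7, 42, 50, 61, 8])]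

/-- Vectors skew to an image. -/
def natSkew : List (ℕ × ℕ) := [
  (11, 1),
  (14, 1),
  (35, 1),
  (44, 1),
  (50, 1),
  (56, 1),
  (91, 1),
  (94, 1),
  (103, 1),
  (109, 1),
  (118, 1),
  (121, 1),
  (131, 9),
  (140, 7),
  (151, 4),
  (157, 4),
  (171, 9),
  (174, 9),
  (176, 4),
  (181, 4),
  (186, 4),
  (191, 4),
  (194, 4),
  (200, 4),
  (214, 9),
  (217, 7),
  (224, 4),
  (229, 4),
  (234, 4),
  (239, 4),
  (251, 9),
  (254, 9)]

/-- Sums of images. -/
def natSpan : List (ℕ × List (List ℕ)) := [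
  (5, [[], [6, 5, 3, 6, 5, 6, 1]]),
  (10, [[], [4, 5, 3, 4]]),
  (15, [[], [1, 6, 5, 1, 6, 5, 6]]),
  (17, [[], [1, 6, 5, 1, 6, 5, 6]]),
  (20, [[], [0, 0, 5, 6, 5, 6, 3, 2]]),
  (34, [[], [5, 3]]),
  (40, [[], [5, 3]]),
  (51, [[], [6, 5, 3, 6, 5, 6, 1]]),
  (60, [[], [2, 3, 6, 5, 6, 5, 0, 0]]),
  (65, [[], [0, 0, 5, 6, 5, 6, 3, 2]]),
  (68, [[], [1, 6, 5, 1, 6, 5, 6]]),
  (80, [[], [6, 5, 3, 6, 5, 6, 1]]),
  (90, [[], [1, 6, 5, 1, 6, 5, 6]]),
  (95, [[], [4, 5, 3, 4]]),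
  (102, [[], [6, 5, 3, 6, 5, 6, 1]]),
  (105, [[], [2, 3, 6, 5, 6, 5, 0, 0]]),
  (119, [[], [5, 3]]),
  (125, [[], [5, 3]]),
  (130, [[], [5, 3]]),
  (136, [[], [5, 3]]),
  (150, [[], [2, 3, 6, 5, 6, 5, 0, 0]]),
  (153, [[], [6, 5, 3, 6, 5, 6, 1]]),
  (160, [[], [4, 5, 3, 4]]),
  (165, [[], [1, 6, 5, 1, 6, 5, 6]]),
  (170, [[]]),
  (175, [[], [6, 5, 3, 6, 5, 6, 1]]),
  (187, [[], [1, 6, 5, 1, 6, 5, 6]]),
  (190, [[], [0, 0, 5, 6, 5, 6, 3, 2]]),
  (195, [[], [2, 3, 6, 5, 6, 5, 0, 0]]),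
  (204, [[], [6, 5, 3, 6, 5, 6, 1]]),
  (215, [[], [5, 3]]),
  (221, [[], [5, 3]]),
  (235, [[], [0, 0, 5, 6, 5, 6, 3, 2]]),
  (238, [[], [1, 6, 5, 1, 6, 5, 6]]),
  (240, [[], [1, 6, 5, 1, 6, 5, 6]]),
  (245, [[], [4, 5, 3, 4]]),
  (250, [[], [6, 5, 3, 6, 5, 6, 1]]),
  (255, [[]])]

/-- Images off the line. -/
def natOff : List (ℕ × ℕ) := [
  (5, 1),
  (10, 1),
  (15, 1),
  (17, 0),
  (20, 0),
  (34, 0),
  (40, 0),
  (51, 0),
  (60, 0),
  (65, 0),
  (68, 0),
  (80, 1),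
  (90, 1),
  (95, 1),
  (102, 0),
  (105, 0),
  (119, 0),
  (125, 0),
  (130, 0),
  (136, 0),
  (150, 0),
  (153, 0),
  (160, 1),
  (165, 1),
  (175, 1),
  (187, 0),
  (190, 0),
  (195, 0),
  (204, 0),
  (215, 0),
  (221, 0),
  (235, 0),
  (238, 0),
  (240, 1),
  (245, 1),
  (250, 1)]

/-- The flat vector. -/
def flat85 : W := mk' 85

/-- The matrix of a word in the stabiliser. -/
def natT (t : ℕ) : List ℕ := wordC (natW.getD t [])

/-- The matrix of an element of the Sylow subgroup. -/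
def natS (i : ℕ) : List ℕ := sylC.getD i []

/-- The images of an involution. -/
def natImg (i : ℕ) : List (ℕ × ℕ) :=
  match natCand.find? fun e => e.1 == i with
  | some e => e.2
  | none => []

/-- The compatible involutions of an involution. -/
def natComp (i : ℕ) : List ℕ :=
  match natCompat.find? fun e => e.1 == i with
  | some e => e.2
  | none => []

theorem natW_check : (natW.all fun l => okW l && wordW l flat85 == flat85) = true ∧ natW.length = 21 := by
  decide +kernel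

theorem natBad_check : ((List.range 64).all fun i => i == 0 || !eqC (mulC (natS i) (natS i)) oneC ||
    natCand.any (fun e => e.1 == i) || natBad.any fun e => e.1 == i && Nat.ble e.2 20 &&
      (List.range 64).all fun j => !(eqC (mulC (natT e.2) (natS i)) (mulC (natS j) (natT e.2)) &&
        eqC (mulC (natS i) (natS j)) (mulC (natS j) (natS i)))) = true := by decide +kernel

theorem natCand_check : (natCand.all fun e => (natImg e.1).all fun p =>
    Nat.ble p.1 20 && Nat.ble p.2 63 && !(p.2 == 0) && eqC (mulC (natT p.1) (natS e.1)) (mulC (natS p.2) (natT p.1))) = true ∧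
    (natCand.all fun e => e.1 == 8 || (decide ((natImg e.1).map Prod.snd).Nodup && Nat.ble 4 (natImg e.1).length)) = true := by
  decide +kernel

theorem natClash_check : (natCand.all fun e => e.1 == 8 || (Nat.ble (natComp e.1).length 14 && natCand.all fun f =>
    (natComp e.1).contains f.1 || natClash.any fun c => c.1 == e.1 && c.2.1 == f.1 &&
      (natImg e.1).any (fun p => p.2 == c.2.2.1) && (natImg f.1).any (fun p => p.2 == c.2.2.2) &&
      !eqC (mulC (natS c.2.2.1) (natS c.2.2.2)) (mulC (natS c.2.2.2) (natS c.2.2.1)))) = true := by decide +kernel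

theorem natS_word {i : ℕ} (hi : i < 64) : natS i = wordC (sylW.getD i []) := by
  show sylC.getD i [] = _
  rw [← sylC_eq, List.getD_eq_getElem _ _ (by simpa using (show i < sylW.length from hi)), List.getElem_map,
    ← List.getD_eq_getElem sylW []]

theorem syl_ev_inj {i j : ℕ} (hi : i < 64) (hj : j < 64) (e : ev (sylW.getD i []) = ev (sylW.getD j [])) : i = j := by
  have h := List.all_eq_true.1 (List.all_eq_true.1 syl_inj_check i (List.mem_range.2 hi)) j (List.mem_range.2 hj)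
  have h' := eqC_of_ev e
  rw [← natS_word hi, ← natS_word hj] at h'
  simp only [natS] at h'
  simp only [h', Bool.not_true, Bool.or_false, beq_iff_eq] at h
  exact h

theorem natT_ok {t : ℕ} (ht : t ≤ 20) : okW (natW.getD t []) = true ∧ wordW (natW.getD t []) flat85 = flat85 := by
  have hl : t < natW.length := natW_check.2.symm ▸ Nat.lt_succ_of_le ht
  rw [List.getD_eq_getElem _ _ hl]
  have h := List.all_eq_true.1 natW_check.1 _ (List.getElem_mem hl)
  simp only [Bool.and_eq_true, beq_iff_eq] at h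
  exact h

/-- An elementary abelian subgroup of the Sylow subgroup normalised by the words has order at most
fifteen and not four. -/
theorem nat_normal {L : Subgroup (Cfsg.PSp 2 (ZMod 3))} (hle : L ≤ syl) (hsq : ∀ l ∈ L, l * l = 1)
    (hcm : ∀ a ∈ L, ∀ b ∈ L, a * b = b * a)
    (hn : ∀ t ≤ 20, ∀ l ∈ L, ev (natW.getD t []) * l * (ev (natW.getD t []))⁻¹ ∈ L)
    (h4 : 4 ≤ Nat.card L) : 5 ≤ Nat.card L ∧ Nat.card L ≤ 15 := by
  classical
  let I : Finset ℕ := (Finset.range 64).filter fun i => ev (sylW.getD i []) ∈ L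
  have hI : ∀ {i}, i ∈ I ↔ i < 64 ∧ ev (sylW.getD i []) ∈ L := fun {i} => by simp [I]
  have hcard : Nat.card L = I.card := by
    rw [← Nat.card_eq_finsetCard]
    refine (Nat.card_eq_of_bijective (fun i : I => (⟨ev (sylW.getD i.1 []), (hI.1 i.2).2⟩ : L)) ⟨?_, ?_⟩).symm
    · intro i j e
      exact Subtype.ext (syl_ev_inj (hI.1 i.2).1 (hI.1 j.2).1 (congrArg Subtype.val e))
    · rintro ⟨l, hl⟩
      obtain ⟨i, hi, rfl⟩ := hle hl
      exact ⟨⟨i, hI.2 ⟨hi, hl⟩⟩, rfl⟩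
  have comm_ev : ∀ {i j : ℕ}, i < 64 → j < 64 → ev (sylW.getD i []) ∈ L → ev (sylW.getD j []) ∈ L →
      eqC (mulC (natS i) (natS j)) (mulC (natS j) (natS i)) = true := by
    intro i j hi hj a b
    have e := hcm _ a _ b
    rw [← ev_append, ← ev_append] at e
    have := eqC_of_ev e
    rwa [word_append, word_append, ← natS_word hi, ← natS_word hj] at this
  have move : ∀ {i j t : ℕ}, i < 64 → j < 64 → eqC (mulC (natT t) (natS i)) (mulC (natS j) (natT t)) = true →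
      ev (natW.getD t []) * ev (sylW.getD i []) * (ev (natW.getD t []))⁻¹ = ev (sylW.getD j []) := by
    intro i j t hi hj h
    rw [mul_inv_eq_iff_eq_mul, ← ev_append, ← ev_append]
    refine ev_eq ?_
    rw [word_append, word_append, ← natS_word hi, ← natS_word hj]
    exact h
  -- every member other than the unit is one of the listed involutions
  have hkey : ∀ i ∈ I, i ≠ 0 → ∃ e ∈ natCand, e.1 = i := by
    intro i hi hi0
    obtain ⟨hi64, hiL⟩ := hI.1 hi
    have h := List.all_eq_true.1 natBad_check i (List.mem_range.2 hi64)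
    have hs : eqC (mulC (natS i) (natS i)) oneC = true := by
      have e := hsq _ hiL
      rw [← ev_append, ← ev_nil] at e
      have := eqC_of_ev e
      rwa [word_append, ← natS_word hi64] at this
    simp only [beq_iff_eq, hi0, hs, Bool.not_true, Bool.or_false, Bool.or_eq_true, false_or] at h
    rcases h with h | h
    · obtain ⟨e, he, he'⟩ := List.any_eq_true.1 h
      exact ⟨e, he, beq_iff_eq.1 he'⟩
    · obtain ⟨e, -, he⟩ := List.any_eq_true.1 h
      simp only [Bool.and_eq_true, beq_iff_eq] at he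
      obtain ⟨j, hj, ej⟩ := hle (hn e.2 (Nat.le_of_ble_eq_true he.1.2) _ hiL)
      have hjL : ev (sylW.getD j []) ∈ L := ej ▸ hn e.2 (Nat.le_of_ble_eq_true he.1.2) _ hiL
      have h1 : eqC (mulC (natT e.2) (natS i)) (mulC (natS j) (natT e.2)) = true := by
        have e' := mul_inv_eq_iff_eq_mul.1 ej
        rw [← ev_append, ← ev_append] at e'
        have := eqC_of_ev e'
        rwa [word_append, word_append, ← natS_word hi64, ← natS_word hj] at this
      have := List.all_eq_true.1 he.2 j (List.mem_range.2 hj)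
      simp [h1, comm_ev hi64 hj hiL hjL] at this
  have himg : ∀ e ∈ natCand, e.1 ∈ I → ∀ p ∈ natImg e.1, p.2 ∈ I ∧ p.2 ≠ 0 := by
    intro e he heI p hp
    obtain ⟨hi64, hiL⟩ := hI.1 heI
    have h := List.all_eq_true.1 (List.all_eq_true.1 natCand_check.1 e he) p hp
    simp only [Bool.and_eq_true, Bool.not_eq_true', beq_eq_false_iff_ne] at h
    have h63 := Nat.lt_succ_of_le (Nat.le_of_ble_eq_true h.1.1.2)
    exact ⟨hI.2 ⟨h63, move hi64 h63 h.2 ▸ hn _ (Nat.le_of_ble_eq_true h.1.1.1) _ hiL⟩, h.1.2⟩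
  obtain ⟨i, hiI, hi⟩ : ∃ i ∈ I, i ≠ 0 ∧ i ≠ 8 := by
    by_contra hno
    have hs : I ⊆ {0, 8} := fun k hk => by
      by_contra hk'
      simp only [Finset.mem_insert, Finset.mem_singleton, not_or] at hk'
      exact hno ⟨k, hk, hk'⟩
    have h2 := (Finset.card_le_card hs).trans Finset.card_le_two
    omega
  obtain ⟨e, he, rfl⟩ := hkey i hiI hi.1
  have hlist := List.all_eq_true.1 natCand_check.2 e he
  simp only [Bool.or_eq_true, beq_iff_eq, hi.2, false_or, Bool.and_eq_true, decide_eq_true_eq] at hlist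
  refine ⟨?_, ?_⟩
  · have h0 : 0 ∈ I := hI.2 ⟨by norm_num, by rw [show sylW.getD 0 [] = [] from rfl, ev_nil]; exact one_mem _⟩
    let M : Finset ℕ := ((natImg e.1).map Prod.snd).toFinset
    have hM : M.card = (natImg e.1).length := by
      rw [List.toFinset_card_of_nodup hlist.1, List.length_map]
    have h0M : 0 ∉ M := by
      intro h
      simp only [M, List.mem_toFinset, List.mem_map] at h
      obtain ⟨p, hp, hp0⟩ := h
      exact (himg e he hiI p hp).2 hp0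
    have hsub : insert 0 M ⊆ I := by
      intro j hj
      simp only [Finset.mem_insert, M, List.mem_toFinset, List.mem_map] at hj
      rcases hj with rfl | ⟨p, hp, rfl⟩
      · exact h0
      · exact (himg e he hiI p hp).1
    have := Finset.card_le_card hsub
    rw [Finset.card_insert_of_notMem h0M, hM] at this
    have := Nat.le_of_ble_eq_true hlist.2
    omega
  · have hc := List.all_eq_true.1 natClash_check e he
    simp only [Bool.or_eq_true, beq_iff_eq, hi.2, false_or, Bool.and_eq_true] at hc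
    have hsub : I ⊆ insert 0 (natComp e.1).toFinset := by
      intro k hk
      rw [Finset.mem_insert, List.mem_toFinset]
      by_contra hno
      simp only [not_or] at hno
      obtain ⟨f, hf, rfl⟩ := hkey k hk hno.1
      have h := List.all_eq_true.1 hc.2 f hf
      have hnc : (natComp e.1).contains f.1 = false := by simpa using hno.2
      simp only [hnc, Bool.false_or] at h
      obtain ⟨c, -, hc'⟩ := List.any_eq_true.1 h
      simp only [Bool.and_eq_true, beq_iff_eq, Bool.not_eq_true', List.any_eq_true] at hc'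
      obtain ⟨⟨⟨-, p, hp, hp'⟩, p', hp2, hp2'⟩, hne⟩ := hc'
      obtain ⟨a64, aL⟩ := hI.1 (himg e he hiI p hp).1
      obtain ⟨b64, bL⟩ := hI.1 (himg f hf hk p' hp2).1
      have := comm_ev a64 b64 aL bL
      rw [hp', hp2', hne] at this
      exact Bool.noConfusion this
    have := (Finset.card_le_card hsub).trans (Finset.card_insert_le _ _)
    have h14 := (List.toFinset_card_le (natComp e.1)).trans (Nat.le_of_ble_eq_true hc.1)
    omega

theorem natSpan_check : all1 (fun w => qW w || bt w flat85 || w == 0 || w == flat85 ||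
    (natSkew.any fun e => mk' e.1 == w && Nat.ble e.2 20 && bt (wordW (natW.getD e.2 []) w) w) ||
    natSpan.any fun e => mk' e.1 == w && (e.2.all fun l => okW l && wordW l flat85 == flat85) &&
      ((e.2.map fun l => wordW l w).sum == om flat85 || (e.2.map fun l => wordW l w).sum == flat85 + om flat85)) = true := by
  decide +kernel

theorem nat_span {w : W} (hq : qW w = false) (hw : bt w flat85 = false) (h0 : w ≠ 0) (h1 : w ≠ flat85) :
    (∃ t ≤ 20, bt (wordW (natW.getD t []) w) w = true) ∨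
    ∃ L : List (List ℕ), (∀ l ∈ L, okW l = true ∧ wordW l flat85 = flat85) ∧
      ((L.map fun l => wordW l w).sum = om flat85 ∨ (L.map fun l => wordW l w).sum = flat85 + om flat85) := by
  have h := of_all1 natSpan_check w
  simp only [hq, hw, Bool.false_or, Bool.or_eq_true, beq_iff_eq, h0, h1, false_or] at h
  rcases h with h | h <;> obtain ⟨e, -, he⟩ := List.any_eq_true.1 h
  · simp only [Bool.and_eq_true] at he
    exact Or.inl ⟨e.2, Nat.le_of_ble_eq_true he.1.2, he.2⟩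
  · simp only [Bool.and_eq_true, Bool.or_eq_true, beq_iff_eq, List.all_eq_true] at he
    exact Or.inr ⟨e.2, fun l hl => he.1.2 l hl, he.2⟩

theorem natOff_check : all1 (fun w => qW w || bt w flat85 || onLine flat85 w ||
    (natSkew.any fun e => mk' e.1 == w && Nat.ble e.2 20 && bt (wordW (natW.getD e.2 []) w) w) ||
    natOff.any fun e => mk' e.1 == w && Nat.ble e.2 20 &&
      !(onLine flat85 (wordW (natW.getD e.2 []) w + w))) = true := by decide +kernel

theorem nat_off {w : W} (hq : qW w = false) (hw : bt w flat85 = false) (h : onLine flat85 w = false) :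
    (∃ t ≤ 20, bt (wordW (natW.getD t []) w) w = true) ∨
    ∃ t ≤ 20, onLine flat85 (wordW (natW.getD t []) w + w) = false := by
  have k := of_all1 natOff_check w
  simp only [hq, hw, h, Bool.false_or, Bool.or_eq_true] at k
  rcases k with k | k <;> obtain ⟨e, -, he⟩ := List.any_eq_true.1 k
  · simp only [Bool.and_eq_true] at he
    exact Or.inl ⟨e.2, Nat.le_of_ble_eq_true he.1.2, he.2⟩
  · simp only [Bool.and_eq_true, Bool.not_eq_true'] at he
    exact Or.inr ⟨e.2, Nat.le_of_ble_eq_true he.1.2, he.2⟩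

theorem syl_fix_check : (sylW.all fun l => okW l && wordW l flat85 == flat85) = true := by decide +kernel

theorem flat85_flat : flat flat85 = true ∧ flat85 ≠ 0 ∧ om flat85 ≠ 0 ∧ om flat85 ≠ flat85 := by decide +kernel

end CfsgLib.U6Large
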