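import Cfsg.Agent.Lib.U6Large.Aug
import Cfsg.Agent.Lib.U6Large.Coord
import Cfsg.Agent.Lib.U6Large.NatTables

/-! With the automorphism group on top and the unitary shape, no other conjugate of the involution lies
in the large subgroup. -/

set_option autoImplicit false
set_option linter.unusedSectionVars false
set_option linter.style.longLine false

namespace CfsgLib.U6Large

open Subgroup CfsgLib.SpFourThree CfsgLib.ThreeTrans.UCent
open CfsgLib.ThreeTrans.UCent.W (mk')

universe u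

variable {G : Type u} [Group G] [Finite G] {z : G} {Q : Subgroup G} {U : Aug z Q}

namespace Aug

variable (N : U.S0.Natural)
include N

open Classical in
/-- Coordinates of an element of `G`. -/
noncomputable def coG (q : G) : W := if h : q ∈ U.H0 then N.co ⟨q, h⟩ else 0

theorem coG_eq {q : G} (h : q ∈ U.H0) : coG N q = N.co ⟨q, h⟩ := dif_pos h

theorem coG_mul {p q : G} (hp : p ∈ Q) (hq : q ∈ Q) : coG N (p * q) = coG N p + coG N q := by
  rw [coG_eq N (U.Q_le0 hp), coG_eq N (U.Q_le0 hq), coG_eq N (U.Q_le0 (mul_mem hp hq))]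
  exact N.co_mul (p := ⟨p, U.Q_le0 hp⟩) (q := ⟨q, U.Q_le0 hq⟩) hp hq

theorem coG_zero {q : G} (hq : q ∈ Q) : coG N q = 0 ↔ q = 1 ∨ q = z := by
  rw [coG_eq N (U.Q_le0 hq), N.co_zero (q := ⟨q, U.Q_le0 hq⟩) hq]
  simp [Subtype.ext_iff, z0]

theorem coG_one : coG N 1 = 0 := (coG_zero N (one_mem Q)).2 (Or.inl rfl)

theorem coG_z : coG N z = 0 := (coG_zero N U.zQ).2 (Or.inr rfl)

theorem coG_inv {q : G} (hq : q ∈ Q) : coG N q⁻¹ = coG N q := by
  have h := coG_mul N (inv_mem hq) hq
  rw [inv_mul_cancel, coG_one, eq_comm, W.add_eq_zero'] at h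
  exact h

theorem coG_eq_cases {p q : G} (hp : p ∈ Q) (hq : q ∈ Q) (h : coG N p = coG N q) : p = q ∨ p = z * q := by
  rw [coG_eq N (U.Q_le0 hp), coG_eq N (U.Q_le0 hq)] at h
  rcases N.co_eq (p := ⟨p, U.Q_le0 hp⟩) (q := ⟨q, U.Q_le0 hq⟩) hp hq h with e | e
  · exact Or.inl (congrArg Subtype.val e)
  · exact Or.inr (congrArg Subtype.val e)

theorem coG_conj (c : U.H0) {q : G} (hq : q ∈ Q) :
    coG N ((c : G) * q * (c : G)⁻¹) = N.gW (U.π c) (coG N q) := by
  rw [coG_eq N (U.Q_le0 hq), coG_eq N (mul_mem (mul_mem c.2 (U.Q_le0 hq)) (inv_mem c.2))]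
  exact N.co_conj ⟨c, by rw [U.cent_z0]; trivial⟩ (q := ⟨q, U.Q_le0 hq⟩) hq

theorem coG_comm {p q : G} (hp : p ∈ Q) (hq : q ∈ Q) : p * q = q * p ↔ bt (coG N p) (coG N q) = false := by
  rw [coG_eq N (U.Q_le0 hp), coG_eq N (U.Q_le0 hq),
    ← N.comm_iff (p := ⟨p, U.Q_le0 hp⟩) (q := ⟨q, U.Q_le0 hq⟩) hp hq]
  simp [Subtype.ext_iff]

theorem coG_sq {q : G} (hq : q ∈ Q) : q * q = 1 ↔ qW (coG N q) = false := by
  rw [coG_eq N (U.Q_le0 hq), ← N.sq_iff (q := ⟨q, U.Q_le0 hq⟩) hq]
  simp [Subtype.ext_iff]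

theorem flat_case {g : G} (hx : g * z * g⁻¹ ∈ Q) (hne : g * z * g⁻¹ ≠ z)
    (hco : coG N (g * z * g⁻¹) = flat85) : False := by
  classical
  have : Fact (Nat.Prime 2) := ⟨Nat.prime_two⟩
  have hz : z ∈ Qc Q g := U.z_mem_of_mem hx hne
  have E := U.extra_conj g
  set x := g * z * g⁻¹ with hxd
  have hx1 : x ≠ 1 := by simp [hxd, U.ne]
  have hzx : z * x = x * z := (U.extra.comm_z hx).symm
  have hxH : x ∈ centralizer ({z} : Set G) := U.le hx
  -- the part of the conjugated subgroup in the centraliser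
  set C' := Qc Q g ⊓ centralizer ({z} : Set G) with hC'
  have h256 : 256 ≤ Nat.card C' := U.half_of E (U.card_Qc g) hz U.ne (Ne.symm hne)
  have hC'256 : Nat.card C' ≤ 256 := by
    obtain ⟨y, hy, hyz⟩ := E.exists_conj_eq hz U.ne (Ne.symm hne)
    have hlt : C'.subgroupOf (Qc Q g) ≠ ⊤ := by
      intro e
      have hyC : y ∈ C' := Subgroup.mem_subgroupOf.1 (e.symm ▸ Subgroup.mem_top (⟨y, hy⟩ : Qc Q g))
      have hc := U.mem_H.1 hyC.2
      rw [mul_inv_eq_iff_eq_mul, hc, mul_assoc, right_eq_mul] at hyz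
      exact hx1 hyz
    have h1 := (C'.subgroupOf (Qc Q g)).card_mul_index
    rw [Nat.card_congr (Subgroup.subgroupOfEquivOfLe (inf_le_left : C' ≤ Qc Q g)).toEquiv, U.card_Qc] at h1
    have h2 : (C'.subgroupOf (Qc Q g)).index ≠ 1 := fun e => hlt (Subgroup.index_eq_one.1 e)
    have h0 : (C'.subgroupOf (Qc Q g)).index ≠ 0 := Subgroup.index_ne_zero_of_finite
    nlinarith [Nat.card_pos (α := C'), show 2 ≤ (C'.subgroupOf (Qc Q g)).index by omega]
  set P0 := C' ⊓ U.H0 with hP0
  have hP128 : 128 ≤ Nat.card P0 := by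
    have h := U.half0 (g := (1 : G)) (D := C') fun d hd => by simpa using U.mem_H.1 hd.2
    rw [show Qc U.H0 1 = U.H0 by ext a; simp [mem_Qc]] at h
    rw [hP0]
    omega
  let φ : P0 →* Cfsg.PSp 2 (ZMod 3) := U.π.comp (Subgroup.inclusion (inf_le_right : P0 ≤ U.H0))
  have hφ : ∀ d : P0, φ d = 1 ↔ (d : G) ∈ Q := fun d => U.π_ker _
  set L := φ.range with hL
  have hsplit : Nat.card P0 = Nat.card L * Nat.card ↥(Qc Q g ⊓ Q) := by
    rw [φ.ker.card_eq_card_quotient_mul_card_subgroup, Nat.card_congr (QuotientGroup.quotientKerEquivRange φ).toEquiv]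
    congr 1
    exact Nat.card_congr ⟨fun d => ⟨d.1.1, d.1.2.1.1, (hφ _).1 (MonoidHom.mem_ker.1 d.2)⟩,
      fun d => ⟨⟨d.1, ⟨d.2.1, U.le d.2.2⟩, U.Q_le0 d.2.2⟩, MonoidHom.mem_ker.2 ((hφ _).2 d.2.2)⟩, fun _ => rfl,
      fun _ => rfl⟩
  have hLsq : ∀ l ∈ L, l * l = 1 := by
    rintro _ ⟨d, rfl⟩
    rw [← map_mul]
    refine (hφ _).2 ?_
    show (d : G) * d ∈ Q
    rcases E.sq_cases d.2.1.1 with e | e <;> rw [e]
    · exact one_mem _
    · exact hx
  have hLcm : ∀ a ∈ L, ∀ b ∈ L, a * b = b * a := by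
    rintro _ ⟨a, rfl⟩ _ ⟨b, rfl⟩
    rw [← mul_inv_eq_iff_eq_mul, ← mul_inv_eq_one, ← map_inv, ← map_inv, ← map_mul, ← map_mul, ← map_mul]
    refine (hφ _).2 ?_
    show (a : G) * b * (a : G)⁻¹ * (b : G)⁻¹ ∈ Q
    rcases E.conj_cases a.2.1.1 b.2.1.1 with e | e
    · rw [e, mul_inv_cancel]; exact one_mem _
    · rw [e, mul_inv_cancel_right]; exact hx
  have hPp : IsPGroup 2 P0 :=
    ((IsPGroup.of_card (n := 9) (by rw [U.card_Qc]; norm_num) : IsPGroup 2 (Qc Q g))).to_le
      (inf_le_left.trans inf_le_left)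
  have hLp : IsPGroup 2 L := by rw [hL, MonoidHom.range_eq_map]; exact (hPp.to_subgroup ⊤).map _
  have hL16 : Nat.card L ≤ 16 := no_abelian hLp hLcm
  -- the common part of the two large subgroups
  set K := Qc Q g ⊓ Q with hK
  have hKsq : ∀ k ∈ K, k * k = 1 := fun k hk => by
    rcases E.sq_cases hk.1 with e | e
    · exact e
    · rcases U.extra.sq_cases hk.2 with e' | e'
      · exact e'
      · exact absurd (e.symm.trans e') hne
  have hKcm : ∀ a ∈ K, ∀ b ∈ K, a * b = b * a := fun a ha b hb => by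
    rcases E.conj_cases ha.1 hb.1 with e | e
    · exact mul_inv_eq_iff_eq_mul.1 e
    · rcases U.extra.conj_cases ha.2 hb.2 with e' | e'
      · exact mul_inv_eq_iff_eq_mul.1 e'
      · exact absurd (mul_right_cancel (e.symm.trans e')) hne
  have hK32 : Nat.card K ≤ 32 := by
    have h := CfsgLib.PGroup.extraspecial_abelian_card U.extra.extra (K.subgroupOf Q)
      (isMulCommutative_iff.2 fun a b => Subtype.ext (Subtype.ext (hKcm _ a.2 _ b.2)))
    rw [Nat.card_congr (Subgroup.subgroupOfEquivOfLe (inf_le_right : K ≤ Q)).toEquiv, U.card] at h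
    nlinarith
  have hK8 : 8 ≤ Nat.card K := by
    by_contra hlt
    have := Nat.mul_le_mul hL16 (show Nat.card K ≤ 7 by omega)
    omega
  -- lifts of the stabiliser normalise both
  have hlift : ∀ a, N.gW a flat85 = flat85 → ∃ d : U.H0, U.π d = a ∧
      (∀ k ∈ K, (d : G) * k * (d : G)⁻¹ ∈ K) ∧ ∀ p ∈ P0, (d : G) * p * (d : G)⁻¹ ∈ P0 := by
    intro a ha
    have hv : U.S0.act a (U.vec hx) = U.vec hx := by
      apply N.e.injective
      have e : N.e (U.vec hx) = flat85 := by rw [← hco, coG_eq N (U.Q_le0 hx)]; rfl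
      rw [e]
      have := ha
      rw [Ctx.Natural.gW, ← e, Equiv.symm_apply_apply] at this
      rw [this, e]
    obtain ⟨d, hd, hdx⟩ := U.lift_fix hx hx1 hne hv
    refine ⟨d, hd, fun k hk => ⟨U.norm_Qc hdx hk.1, U.norm d (U.comm0 d.2) k hk.2⟩, fun p hp => ?_⟩
    have hdH : (d : G) ∈ centralizer ({z} : Set G) := U.H0_le d.2
    have hd0 : (d : G) ∈ U.H0 := d.2
    have hp1 : p ∈ centralizer ({z} : Set G) := hp.1.2
    have hp2 : p ∈ U.H0 := hp.2
    have hA : (d : G) * p * (d : G)⁻¹ ∈ centralizer ({z} : Set G) := mul_mem (mul_mem hdH hp1) (inv_mem hdH)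
    have hB : (d : G) * p * (d : G)⁻¹ ∈ U.H0 := mul_mem (mul_mem hd0 hp2) (inv_mem hd0)
    exact ⟨⟨U.norm_Qc hdx hp.1.1, hA⟩, hB⟩
  have hxK : x ∈ K := ⟨E.z_mem, hx⟩
  have hzK : z ∈ K := ⟨hz, U.zQ⟩
  have hKq : ∀ k ∈ K, qW (coG N k) = false := fun k hk => (coG_sq N hk.2).1 (hKsq k hk)
  have hKperp : ∀ k ∈ K, ∀ k' ∈ K, bt (coG N k) (coG N k') = false := fun k hk k' hk' =>
    (coG_comm N hk.2 hk'.2).1 (hKcm k hk k' hk')
  have hskew : ∀ k ∈ K, ¬ ∃ t ≤ 20, bt (wordW (natW.getD t []) (coG N k)) (coG N k) = true := by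
    rintro k hk ⟨t, ht, h⟩
    obtain ⟨hok, hfix⟩ := natT_ok ht
    obtain ⟨d, hd, hdK, -⟩ := hlift (ev (natW.getD t [])) (by rw [N.gW_ev hok, hfix])
    have := hKperp _ (hdK k hk) k hk
    rw [coG_conj N d hk.2, hd, N.gW_ev hok, h] at this
    exact Bool.noConfusion this
  obtain ⟨y0, hy0, e0⟩ : ∃ y0 ∈ K, coG N y0 = om flat85 := by
    obtain ⟨k, hk, hk'⟩ : ∃ k ∈ K, k ∉ ({1, z, x, z * x} : Set G) := by
      by_contra hn
      push Not at hn
      have h4 : ({1, z, x, z * x} : Set G).ncard ≤ 4 := by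
        refine (Set.ncard_insert_le _ _).trans (Nat.succ_le_succ ?_)
        refine (Set.ncard_insert_le _ _).trans (Nat.succ_le_succ ?_)
        exact (Set.ncard_insert_le _ _).trans (by simp)
      have h := Set.ncard_le_ncard (fun a ha => hn a ha : (↑K : Set G) ⊆ _) (Set.toFinite _)
      have e : Nat.card K = (↑K : Set G).ncard := rfl
      omega
    simp only [Set.mem_insert_iff, Set.mem_singleton_iff, not_or] at hk'
    have hw0 : coG N k ≠ 0 := fun e => by
      rcases (coG_zero N hk.2).1 e with h | h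
      exacts [hk'.1 h, hk'.2.1 h]
    have hw1 : coG N k ≠ flat85 := fun e => by
      rcases coG_eq_cases N hk.2 hx (e.trans hco.symm) with h | h
      exacts [hk'.2.2.1 h, hk'.2.2.2 h]
    obtain ⟨Lw, hLw, hsum⟩ := (nat_span (hKq k hk) (by rw [← hco]; exact hKperp k hk x hxK) hw0 hw1).resolve_left
      (hskew k hk)
    have key : ∀ L' : List (List ℕ), (∀ l ∈ L', okW l = true ∧ wordW l flat85 = flat85) →
        ∃ y ∈ K, coG N y = (L'.map fun l => wordW l (coG N k)).sum := by
      intro L'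
      induction L' with
      | nil => exact fun _ => ⟨1, one_mem _, by simp [coG_one]⟩
      | cons l L' ih =>
        intro hl
        obtain ⟨y, hy, e⟩ := ih fun m hm => hl m (List.mem_cons_of_mem l hm)
        obtain ⟨hok, hfix⟩ := hl l List.mem_cons_self
        obtain ⟨d, hd, hdK, -⟩ := hlift (ev l) (by rw [N.gW_ev hok, hfix])
        refine ⟨(d : G) * k * (d : G)⁻¹ * y, mul_mem (hdK k hk) hy, ?_⟩
        rw [coG_mul N (hdK k hk).2 hy.2, coG_conj N d hk.2, hd, N.gW_ev hok, e]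
        simp
    obtain ⟨y1, hy1, e1⟩ := key Lw hLw
    rcases hsum with e | e
    · exact ⟨y1, hy1, e1.trans e⟩
    · exact ⟨x * y1, mul_mem hxK hy1, by rw [coG_mul N hx hy1.2, e1, e, hco, W.add_cancel]⟩
  -- some element of the conjugated subgroup is outside the subgroup of index two
  obtain ⟨j, hj, hj0⟩ : ∃ j ∈ C', j ∉ U.H0 := by
    by_contra hn
    push Not at hn
    obtain ⟨j, hj, hnc⟩ : ∃ j ∈ C', j * y0 ≠ y0 * j := by
      by_contra hn'
      push Not at hn'
      obtain ⟨s, hs, hsz⟩ := E.exists_conj_eq hz U.ne (Ne.symm hne)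
      obtain ⟨-, h0, hom0, hom1⟩ := flat85_flat
      rcases E.double_centralizer hz hs hsz hy0.1 (fun a ha haz => hn' a ⟨ha, U.mem_H.2 haz⟩) with e | e | e | e
      · exact hom0 (by rw [← e0, e, coG_one])
      · exact hom1 (by rw [← e0, e, hco])
      · exact hom0 (by rw [← e0, e, coG_inv N U.zQ, coG_z])
      · exact hom1 (by rw [← e0, e, coG_mul N hx (inv_mem U.zQ), coG_inv N U.zQ, coG_z, add_zero, hco])
    have hjc : j * y0 * j⁻¹ = x * y0 :=
      (E.conj_cases hj.1 hy0.1).resolve_left fun e => hnc (mul_inv_eq_iff_eq_mul.1 e)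
    have hjx : j * x * j⁻¹ = x := mul_inv_eq_iff_eq_mul.2 (E.comm_z hj.1)
    have h1 := coG_conj N ⟨j, hn j hj⟩ hx
    have h2 := coG_conj N ⟨j, hn j hj⟩ hy0.2
    simp only [hjx, hjc] at h1 h2
    rw [hco] at h1
    rw [e0, N.gW_om, ← h1, coG_mul N hx hy0.2, hco, e0, add_eq_right] at h2
    exact flat85_flat.2.1 h2
  have hP2 : Nat.card P0 + Nat.card P0 ≤ Nat.card C' := by
    have hd : Disjoint (↑P0 : Set G) ((fun q => j * q) '' ↑P0) := by
      rw [Set.disjoint_left]
      rintro _ ha ⟨q, hq, rfl⟩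
      have ha2 : j * q ∈ U.H0 := ha.2
      have hq2 : q ∈ U.H0 := hq.2
      exact hj0 (by simpa using mul_mem ha2 (inv_mem hq2))
    have hsub : (↑P0 : Set G) ∪ (fun q => j * q) '' ↑P0 ⊆ ↑C' := by
      rintro _ (ha | ⟨q, hq, rfl⟩)
      · exact ha.1
      · exact mul_mem hj hq.1
    have h := Set.ncard_le_ncard hsub (Set.toFinite _)
    rw [Set.ncard_union_eq hd, Set.ncard_image_of_injective _ (mul_right_injective j)] at h
    exact h
  -- the image is normal in the stabiliser
  have hnorm : ∀ a, N.gW a flat85 = flat85 → ∀ l ∈ L, a * l * a⁻¹ ∈ L := by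
    rintro a ha _ ⟨p, rfl⟩
    obtain ⟨d, rfl, -, hdP⟩ := hlift a ha
    refine ⟨⟨(d : G) * p * (d : G)⁻¹, hdP p p.2⟩, ?_⟩
    show U.π _ = U.π d * U.π _ * (U.π d)⁻¹
    rw [← map_inv, ← map_mul, ← map_mul]
    exact congrArg U.π (Subtype.ext rfl)
  have hsylfix : ∀ s ∈ syl, N.gW s flat85 = flat85 := by
    rintro _ ⟨i, hi, rfl⟩
    have hl : i < sylW.length := hi
    have h := List.all_eq_true.1 syl_fix_check _ (List.getElem_mem hl)
    rw [← List.getD_eq_getElem sylW [] hl] at h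
    simp only [Bool.and_eq_true, beq_iff_eq] at h
    rw [N.gW_ev h.1, h.2]
  have : Finite (Cfsg.PSp 2 (ZMod 3)) := Nat.finite_of_card_ne_zero (by rw [target_card]; norm_num)
  have hLsyl : L ≤ syl := by
    have hs2 : IsPGroup 2 syl := IsPGroup.of_card (n := 6) (by rw [card_syl]; norm_num)
    have hle : syl ≤ normalizer (L : Set (Cfsg.PSp 2 (ZMod 3))) := fun s hs => by
      rw [Subgroup.mem_normalizer_iff]
      refine fun l => ⟨fun hl => hnorm s (hsylfix s hs) l hl, fun hl => ?_⟩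
      have := hnorm s⁻¹ (hsylfix _ (inv_mem hs)) _ hl
      simpa [mul_assoc] using this
    have hsup : IsPGroup 2 (L ⊔ syl : Subgroup (Cfsg.PSp 2 (ZMod 3))) := hLp.to_sup_of_normal_left' hs2 hle
    obtain ⟨a, ha⟩ := exists_into_syl hsup
    have h64 : Nat.card ↥(L ⊔ syl) ≤ 64 := by
      rw [← card_syl, ← Subgroup.card_map_of_injective (K := L ⊔ syl)
        (f := (MulAut.conj a).toMonoidHom) (MulAut.conj a).injective]
      exact Subgroup.card_le_of_le (by rintro _ ⟨y, hy, rfl⟩; exact ha y hy)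
    have : syl = L ⊔ syl := Subgroup.eq_of_le_of_card_ge le_sup_right (h64.trans card_syl.ge)
    rw [this]
    exact le_sup_left
  have hL4 : 4 ≤ Nat.card L := by
    by_contra hlt
    have := Nat.mul_le_mul (show Nat.card L ≤ 3 by omega) hK32
    omega
  obtain ⟨h5, h15⟩ := nat_normal hLsyl hLsq hLcm (fun t ht l hl => by
    obtain ⟨hok, hfix⟩ := natT_ok ht
    exact hnorm _ (by rw [N.gW_ev hok, hfix]) l hl) hL4
  have h16 : Nat.card K = 16 := by
    obtain ⟨m, hm⟩ := hLp.exists_card_eq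
    rw [hm] at h5 h15 hsplit
    have : m ≤ 3 := by
      by_contra hlt
      have := Nat.pow_le_pow_right (show 1 ≤ 2 by norm_num) (show 4 ≤ m by omega)
      omega
    interval_cases m <;> omega
  -- twelve classes in `K`
  obtain ⟨k, hk, hkoff⟩ : ∃ k ∈ K, onLine flat85 (coG N k) = false := by
    by_contra hn
    push Not at hn
    simp only [ne_eq, Bool.not_eq_false] at hn
    have hinj : Nat.card K ≤ Nat.card (Bool × {w : W // onLine flat85 w = true}) := by
      refine Nat.card_le_card_of_injective (fun k : K => (decide ((k : G) = U.S0.rep (U.vec k.2.2)), ⟨coG N k, hn k k.2⟩)) ?_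
      rintro ⟨a, ha⟩ ⟨b, hb⟩ e
      simp only [Prod.mk.injEq, Subtype.mk.injEq] at e
      have e2 : U.vec ha.2 = U.vec hb.2 := by
        have := e.2
        rw [coG_eq N (U.Q_le0 ha.2), coG_eq N (U.Q_le0 hb.2)] at this
        exact N.e.injective this
      refine Subtype.ext ?_
      rcases coG_eq_cases N ha.2 hb.2 e.2 with h | h
      · exact h
      · exfalso
        have h1 := e.1
        rw [decide_eq_decide, ← e2] at h1
        rcases (U.S0.vec_eq (x := ⟨a, U.Q_le0 ha.2⟩) (y := U.S0.rep (U.vec ha.2)) ha.2 (U.S0.rep_mem _)).1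
          (U.S0.vec_rep _).symm with r | r
        · have r' : a = (U.S0.rep (U.vec ha.2) : G) := congrArg Subtype.val r
          rw [← h1.1 r'] at r'
          rw [r', right_eq_mul] at h
          exact U.ne h
        · have r' : a = z * (U.S0.rep (U.vec ha.2) : G) := congrArg Subtype.val r
          have hb' : b = (U.S0.rep (U.vec ha.2) : G) := mul_left_cancel (h.symm.trans r')
          rw [← h1.2 hb'] at r'
          exact U.ne (right_eq_mul.1 r')
    have h4 : Nat.card {w : W // onLine flat85 w = true} = 4 := by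
      rw [Nat.card_eq_fintype_card]; decide +kernel
    rw [Nat.card_prod, h4, Nat.card_eq_fintype_card (α := Bool), Fintype.card_bool] at hinj
    omega
  obtain ⟨t, ht, htoff⟩ := (nat_off (hKq k hk) (by rw [← hco]; exact hKperp k hk x hxK) hkoff).resolve_left (hskew k hk)
  obtain ⟨hok, hfix⟩ := natT_ok ht
  obtain ⟨d, hd, hdK, -⟩ := hlift (ev (natW.getD t [])) (by rw [N.gW_ev hok, hfix])
  set w := coG N k with hw
  have hk'co : coG N ((d : G) * k * (d : G)⁻¹) = wordW (natW.getD t []) w := by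
    rw [coG_conj N d hk.2, hd, N.gW_ev hok]
  set w' := wordW (natW.getD t []) w with hw'
  have hw'off : onLine flat85 w' = false := by
    refine Bool.eq_false_iff.2 fun h => ?_
    have hwl : wordW (natW.getD t []) w = w' := hw'.symm
    -- the word fixes the line
    have homfix : wordW (natW.getD t []) (om flat85) = om flat85 := by rw [word_om hok, hfix]
    have h2 : onLine flat85 w = true := by
      rw [onLine_iff] at h
      have inj : ∀ {a b : W}, wordW (natW.getD t []) a = wordW (natW.getD t []) b → a = b := fun {a b} e =>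
        N.gW_inj (ev (natW.getD t [])) (by rw [N.gW_ev hok, N.gW_ev hok, e])
      rw [onLine_iff]
      rcases h with h | h | h | h
      · exact Or.inl (inj (by rw [hwl, h, ← N.gW_ev hok, N.gW_zero]))
      · exact Or.inr (Or.inl (inj (by rw [hwl, h, hfix])))
      · exact Or.inr (Or.inr (Or.inl (inj (by rw [hwl, h, homfix]))))
      · exact Or.inr (Or.inr (Or.inr (inj (by rw [hwl, h, word_add hok, hfix, homfix]))))
    rw [hkoff] at h2
    exact Bool.noConfusion h2
  let lv : Fin 4 → W := ![0, flat85, om flat85, flat85 + om flat85]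
  let ov : Fin 3 → W := ![0, w, w']
  have hbound : Nat.card (Bool × (Fin 3 × Fin 4)) ≤ Nat.card K := by
    have hlift2 : ∀ (i : Fin 3) (j : Fin 4), ∃ y ∈ K, coG N y = ov i + lv j := by
      have ho : ∀ i : Fin 3, ∃ y ∈ K, coG N y = ov i := by
        intro i
        fin_cases i
        · exact ⟨1, one_mem _, coG_one N⟩
        · exact ⟨k, hk, rfl⟩
        · exact ⟨_, hdK k hk, hk'co⟩
      have hl : ∀ j : Fin 4, ∃ y ∈ K, coG N y = lv j := by
        intro j
        fin_cases j
        · exact ⟨1, one_mem _, coG_one N⟩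
        · exact ⟨x, hxK, hco⟩
        · exact ⟨y0, hy0, e0⟩
        · exact ⟨x * y0, mul_mem hxK hy0, by rw [coG_mul N hx hy0.2, hco, e0]; rfl⟩
      intro i j
      obtain ⟨a, ha, ea⟩ := ho i
      obtain ⟨b, hb, eb⟩ := hl j
      exact ⟨a * b, mul_mem ha hb, by rw [coG_mul N ha.2 hb.2, ea, eb]⟩
    choose f hfK hf using hlift2
    have hmem : ∀ (b : Bool) (p : Fin 3 × Fin 4), cond b z 1 * f p.1 p.2 ∈ K := fun b p =>
      mul_mem (by cases b <;> simp [hzK, one_mem]) (hfK _ _)
    refine Nat.card_le_card_of_injective (fun p : Bool × (Fin 3 × Fin 4) => (⟨_, hmem p.1 p.2⟩ : K)) ?_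
    rintro ⟨b, i, j⟩ ⟨b', i', j'⟩ e
    have e : cond b z 1 * f i j = cond b' z 1 * f i' j' := congrArg Subtype.val e
    have hbQ : ∀ b : Bool, cond b z 1 ∈ Q := fun b => by cases b <;> simp [U.zQ, one_mem]
    have hbz : ∀ b : Bool, coG N (cond b z 1) = 0 := fun b => by cases b <;> simp [coG_one, coG_z]
    have e2 := congrArg (coG N) e
    rw [coG_mul N (hbQ b) (hfK i j).2, coG_mul N (hbQ b') (hfK i' j').2, hbz, hbz, zero_add, zero_add, hf, hf] at e2
    have hlvline : ∀ j, onLine flat85 (lv j) = true := fun j => by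
      rw [onLine_iff]
      fin_cases j <;> simp [lv]
    have hov : onLine flat85 (ov i + ov i') = true := by
      have : ov i + ov i' = lv j + lv j' := by
        calc ov i + ov i' = ov i + lv j + (lv j + ov i') := by rw [add_assoc, W.add_cancel]
          _ = ov i' + lv j' + (lv j + ov i') := by rw [e2]
          _ = lv j + lv j' + (ov i' + ov i') := by abel
          _ = lv j + lv j' := by rw [W.add_self, add_zero]
      rw [this]
      exact onLine_add (hlvline j) (hlvline j')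
    have ei : i = i' := by
      have hcomm : onLine flat85 (w + w') = false := by rw [add_comm]; exact htoff
      fin_cases i <;> fin_cases i' <;> first
        | rfl
        | simp [ov, hkoff, hw'off, hcomm, htoff] at hov
    subst ei
    have ej : j = j' := by
      have h2 := add_left_cancel e2
      have : Function.Injective lv := by decide +kernel
      exact this h2
    subst ej
    have := mul_right_cancel e
    cases b <;> cases b' <;> simp [U.ne, Ne.symm U.ne] at this ⊢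
  rw [h16, Nat.card_prod, Nat.card_prod, Nat.card_eq_fintype_card (α := Bool), Fintype.card_bool, Nat.card_fin,
    Nat.card_fin] at hbound
  omega

/-- No conjugate of `z` other than `z` lies in `Q`. -/
theorem natural_noFusion : NoFusion z Q := by
  intro g hx
  by_contra hne
  have hx1 : g * z * g⁻¹ ≠ 1 := by simp [U.ne]
  have hp : iso (coG N (g * z * g⁻¹)) = true := by
    refine iso_iff.2 ⟨(coG_sq N hx).1 (U.extra_conj g).sq_one, fun e => ?_⟩
    rcases (coG_zero N hx).1 e with h | h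
    exacts [hx1 h, hne h]
  obtain ⟨a, ha⟩ := N.exists_to_base hp
  obtain ⟨l, hl, el⟩ := from_base flat85_flat.1 flat85_flat.2.1
  obtain ⟨c, hc⟩ := U.π_surj (ev l * a)
  have e : (c : G) * g * z * ((c : G) * g)⁻¹ = (c : G) * (g * z * g⁻¹) * (c : G)⁻¹ := by group
  refine flat_case N (g := (c : G) * g) (e ▸ U.norm c (U.comm0 c.2) _ hx) (fun k => hne ?_) ?_
  · rw [e] at k
    calc g * z * g⁻¹ = (c : G)⁻¹ * ((c : G) * (g * z * g⁻¹) * (c : G)⁻¹) * (c : G) := by group
      _ = (c : G)⁻¹ * (z * (c : G)) := by rw [k, mul_assoc]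
      _ = z := by rw [← U.comm0 c.2, inv_mul_cancel_left]
  · rw [e, coG_conj N c hx, hc, N.gW_mul, ha, N.gW_ev hl, el]

end Aug

end CfsgLib.U6Large
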