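import Cfsg.Agent.Lib.U6Large.Base

/-! A conjugate of the involution in the centraliser, outside the large subgroup: general lemmas. -/

set_option autoImplicit false
set_option linter.unusedSectionVars false
set_option linter.style.longLine false

namespace CfsgLib.U6Large

open Subgroup CfsgLib.SpFourThree CfsgLib.ThreeTrans.UCent
open CfsgLib.ThreeTrans.UCent.W (mk')

universe u

variable {G : Type u} [Group G] [Finite G] {z : G} {Q : Subgroup G} {S : Ctx z Q}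

/-- A conjugate of `z` centralising it, outside `Q`. -/
structure Ctx.Out (S : Ctx z Q) where
  /-- A conjugating element. -/
  g : G
  comm : g * z * g⁻¹ * z = z * (g * z * g⁻¹)
  notQ : g * z * g⁻¹ ∉ Q

namespace Ctx.Out

variable (O : S.Out)
include O

/-- The conjugate. -/
def x : G := O.g * z * O.g⁻¹

/-- The conjugate, in the centraliser. -/
def X : centralizer ({z} : Set G) := ⟨O.x, S.mem_H.2 O.comm⟩

/-- The centraliser in `Q` of the conjugate. -/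
def C : Subgroup G := Q ⊓ centralizer ({O.x} : Set G)

/-- Its part in the other large subgroup. -/
def K : Subgroup G := O.C ⊓ Qc Q O.g

theorem mem_C {q : G} : q ∈ O.C ↔ q ∈ Q ∧ q * O.x = O.x * q := S.mem_inter

theorem xx : O.x * O.x = 1 := (S.conj O.g).zz

theorem x_inv : O.x⁻¹ = O.x := inv_eq_of_mul_eq_one_right O.xx

theorem x_mem_Qc : O.x ∈ Qc Q O.g := (S.conj O.g).zQ

theorem zx : z * O.x = O.x * z := O.comm.symm

theorem z_notMem_Qc : z ∉ Qc Q O.g := S.z_notMem O.notQ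

theorem z_mem_C : z ∈ O.C := O.mem_C.2 ⟨S.zQ, O.zx⟩

theorem C_le : O.C ≤ centralizer ({O.x} : Set G) := inf_le_right

theorem K_props {k : G} (hk : k ∈ O.K) : k * k = 1 ∧ k ≠ z ∧ ∀ c ∈ O.C, c * k = k * c := by
  have hkC := O.mem_C.1 hk.1
  refine ⟨?_, fun e => O.z_notMem_Qc (e ▸ hk.2), fun c hc => ?_⟩
  · rcases S.extra.sq_cases hkC.1 with e | e
    · exact e
    · refine absurd ?_ O.z_notMem_Qc
      have := mul_mem hk.2 hk.2
      rwa [e] at this
  · have hc' := O.mem_C.1 hc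
    rcases S.extra.conj_cases hc'.1 hkC.1 with e | e
    · exact mul_inv_eq_iff_eq_mul.1 e
    · refine absurd ?_ O.z_notMem_Qc
      have := mul_mem ((S.conj O.g).norm c hc'.2 k hk.2) (inv_mem hk.2)
      rwa [e, mul_inv_cancel_right] at this

theorem xk_not {hF : NoFusion z Q} {k : G} (hk : k ∈ O.K) (h1 : k ≠ 1) : ¬ IsConj z (O.x * k) := by
  rintro hc
  obtain ⟨h, e⟩ := isConj_iff.1 hc
  have := hF.rel (g := O.g) (k := h) (by rw [e]; exact mul_mem O.x_mem_Qc hk.2)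
  rw [e] at this
  exact h1 (mul_eq_left.1 this)

theorem K_ne_bot (h : 128 ≤ Nat.card O.C) : ∃ k ∈ O.K, k ≠ 1 := by
  by_contra hn
  push Not at hn
  have e := (S.conj O.g).card_split O.C_le
  have hK : Nat.card ↥(O.C ⊓ Qc Q O.g) ≤ 1 := by
    rw [show O.C ⊓ Qc Q O.g = ⊥ from eq_bot_iff.2 fun k hk => hn k hk]
    simp
  have := Nat.mul_le_mul hK ((S.conj O.g).card_proj_le O.C_le (S.pgroup.to_le inf_le_left))
  omega

variable (N : S.Natural)

theorem co_x {q : G} (hq : q ∈ Q) : N.co (O.x * q * O.x⁻¹) = N.gW (S.π O.X) (N.co q) := N.co_conj O.X hq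

theorem fixed {q : G} (hq : q ∈ O.C) : N.gW (S.π O.X) (N.co q) = N.co q := by
  obtain ⟨hqQ, hqx⟩ := O.mem_C.1 hq
  rw [← O.co_x N hqQ, ← hqx, mul_inv_cancel_right]

theorem reach {p q : G} (hp : p ∈ Q) (hq : q ∈ Q) (h : N.gW (S.π O.X) (N.co p) + N.co p = N.co q) :
    p * O.x * p⁻¹ = O.x * q ∨ p * O.x * p⁻¹ = O.x * (z * q) := by
  have hm : O.x * p * O.x⁻¹ * p⁻¹ ∈ Q := mul_mem (S.conj_mem O.X hp) (inv_mem hp)
  have e : p * O.x * p⁻¹ = O.x * (O.x * p * O.x⁻¹ * p⁻¹) := by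
    rw [O.x_inv, ← mul_assoc, ← mul_assoc, ← mul_assoc, O.xx, one_mul]
  rw [e]
  have hco : N.co (O.x * p * O.x⁻¹ * p⁻¹) = N.co q := by
    rw [N.co_mul (show O.x * p * O.x⁻¹ ∈ Q from S.conj_mem O.X hp) (inv_mem hp), O.co_x N hp, N.co_inv hp, h]
  rcases N.co_eq hm hq hco with k | k <;> rw [k]
  · exact Or.inl rfl
  · exact Or.inr rfl

theorem comm_of_reach {u : W} {q : G} (hq : q ∈ Q) (h : N.gW (S.π O.X) u + u = N.co q) (hsq : q * q = 1) :
    q ∈ O.C := by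
  obtain ⟨p, hp, rfl⟩ := N.co_surj u
  refine O.mem_C.2 ⟨hq, ?_⟩
  have key : ∀ r, p * O.x * p⁻¹ = O.x * r → O.x * r * (O.x * r) = 1 := fun r e => by
    rw [← e, show p * O.x * p⁻¹ * (p * O.x * p⁻¹) = p * (O.x * O.x) * p⁻¹ by group, O.xx, mul_one, mul_inv_cancel]
  have main : O.x * q * (O.x * q) = 1 := by
    rcases O.reach N hp hq h with e | e
    · exact key _ e
    · have := key _ e
      rwa [show O.x * (z * q) * (O.x * (z * q)) = O.x * z * (q * O.x) * (z * q) by group, ← O.zx,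
        show z * O.x * (q * O.x) * (z * q) = z * (O.x * q * (O.x * z)) * q by group, ← O.zx,
        show z * (O.x * q * (z * O.x)) * q = z * (O.x * (q * z) * O.x) * q by group, S.extra.comm_z hq,
        show z * (O.x * (z * q) * O.x) * q = z * (O.x * z) * (q * O.x * q) by group, ← O.zx, ← mul_assoc z,
        S.zz, one_mul, show O.x * (q * O.x * q) = O.x * q * (O.x * q) by group] at this
  calc q * O.x = O.x⁻¹ * (O.x * q * (O.x * q)) * q⁻¹ := by group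
    _ = O.x * (q * q)⁻¹ * q := by rw [main, O.x_inv]; group
    _ = O.x * q := by rw [hsq, inv_one, mul_one]

theorem xz_not {hF : NoFusion z Q} {k : G} (hk : k ∈ O.K) (h1 : k ≠ 1) {u : W}
    (h : N.gW (S.π O.X) u + u = N.co k) : ¬ IsConj z (O.x * z) := by
  intro hc
  obtain ⟨p, hp, rfl⟩ := N.co_surj u
  apply O.xk_not (hF := hF) hk h1
  rcases O.reach N hp (O.mem_C.1 hk.1).1 h with e | e
  · rw [← e]
    exact (isConj_iff.2 ⟨O.g, rfl⟩ : IsConj z O.x).trans (isConj_iff.2 ⟨p, rfl⟩)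
  · refine hc.trans (isConj_iff.2 ⟨p, ?_⟩)
    calc p * (O.x * z) * p⁻¹ = p * O.x * (z * p⁻¹) := by group
      _ = p * O.x * p⁻¹ * z := by rw [← S.extra.comm_z (inv_mem hp), mul_assoc _ p⁻¹]
      _ = O.x * (z * k) * z := by rw [e]
      _ = O.x * k := by rw [mul_assoc O.x, mul_assoc z, S.extra.comm_z (O.mem_C.1 hk.1).1, ← mul_assoc z, S.zz, one_mul]

theorem reach_k {hF : NoFusion z Q} {k p : G} (hk : k ∈ O.K) (h1 : k ≠ 1) (hp : p ∈ Q)
    (h : N.gW (S.π O.X) (N.co p) + N.co p = N.co k) : p * O.x * p⁻¹ = O.x * (z * k) := by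
  refine (O.reach N hp (O.mem_C.1 hk.1).1 h).resolve_left fun e => O.xk_not (hF := hF) hk h1 ?_
  rw [← e]
  exact (isConj_iff.2 ⟨O.g, rfl⟩ : IsConj z O.x).trans (isConj_iff.2 ⟨p, rfl⟩)

theorem invol {c : centralizer ({z} : Set G)} (hc : S.π c * S.π O.X = S.π O.X * S.π c) :
    ∃ q ∈ Q, (c : G) * O.x * (c : G)⁻¹ = O.x * q ∧ N.gW (S.π O.X) (N.co q) = N.co q := by
  have hq : O.x⁻¹ * ((c : G) * O.x * (c : G)⁻¹) ∈ Q := by
    have h : S.π (O.X⁻¹ * (c * O.X * c⁻¹)) = 1 := by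
      rw [map_mul, map_mul, map_mul, map_inv, map_inv, hc, mul_inv_cancel_right, inv_mul_cancel]
    exact (S.π_ker _).1 h
  refine ⟨_, hq, by group, ?_⟩
  have h2 : O.x * (O.x⁻¹ * ((c : G) * O.x * (c : G)⁻¹)) * O.x⁻¹ = (O.x⁻¹ * ((c : G) * O.x * (c : G)⁻¹))⁻¹ := by
    have hy : (c : G) * O.x * (c : G)⁻¹ * ((c : G) * O.x * (c : G)⁻¹) = 1 := by
      rw [show (c : G) * O.x * (c : G)⁻¹ * ((c : G) * O.x * (c : G)⁻¹) = (c : G) * (O.x * O.x) * (c : G)⁻¹ by group,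
        O.xx, mul_one, mul_inv_cancel]
    rw [mul_inv_rev, inv_eq_of_mul_eq_one_right hy, inv_inv, O.x_inv, ← mul_assoc O.x O.x, O.xx, one_mul]
  rw [← O.co_x N hq, h2, N.co_inv hq]

theorem adjust {c : centralizer ({z} : Set G)} {q : G} (hq : q ∈ Q) (hcq : (c : G) * O.x * (c : G)⁻¹ = O.x * q)
    {u : W} (h : N.gW (S.π O.X) u + u = N.co q) (hxz : ¬ IsConj z (O.x * z)) :
    ∃ d : centralizer ({z} : Set G), S.π d = S.π c ∧ (d : G) * O.x = O.x * (d : G) := by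
  obtain ⟨p, hp, rfl⟩ := N.co_surj u
  have e : p * O.x * p⁻¹ = O.x * q := by
    refine (O.reach N hp hq h).resolve_right fun e => hxz ?_
    have hz1 : p * (O.x * z) * p⁻¹ = O.x * q := by
      calc p * (O.x * z) * p⁻¹ = p * O.x * (z * p⁻¹) := by group
        _ = p * O.x * p⁻¹ * z := by rw [← S.extra.comm_z (inv_mem hp), mul_assoc _ p⁻¹]
        _ = O.x * (z * q * z) := by rw [e]; group
        _ = O.x * q := by rw [mul_assoc z, S.extra.comm_z hq, ← mul_assoc z, S.zz, one_mul]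
    refine ((isConj_iff.2 ⟨(c : G) * O.g, ?_⟩ : IsConj z (O.x * q))).trans (isConj_iff.2 ⟨p, hz1⟩).symm
    rw [← hcq, x]
    group
  refine ⟨⟨p, S.le hp⟩⁻¹ * c, ?_, ?_⟩
  · rw [map_mul, map_inv, (S.π_ker ⟨p, S.le hp⟩).2 hp, inv_one, one_mul]
  · rw [← mul_inv_eq_iff_eq_mul]
    calc p⁻¹ * (c : G) * O.x * (p⁻¹ * (c : G))⁻¹ = p⁻¹ * ((c : G) * O.x * (c : G)⁻¹) * p := by group
      _ = O.x := by rw [hcq, ← e]; group

theorem conj_K {d : centralizer ({z} : Set G)} (hd : (d : G) * O.x = O.x * (d : G)) {k : G} (hk : k ∈ O.K) :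
    (d : G) * k * (d : G)⁻¹ ∈ O.K := by
  obtain ⟨hkQ, hkx⟩ := O.mem_C.1 hk.1
  refine ⟨O.mem_C.2 ⟨S.conj_mem d hkQ, ?_⟩, (S.conj O.g).norm d hd k hk.2⟩
  calc (d : G) * k * (d : G)⁻¹ * O.x = (d : G) * k * ((d : G)⁻¹ * O.x * (d : G)) * (d : G)⁻¹ := by group
    _ = (d : G) * (k * O.x) * (d : G)⁻¹ := by rw [mul_assoc (d : G)⁻¹, ← hd]; group
    _ = (d : G) * O.x * k * (d : G)⁻¹ := by rw [hkx]; group
    _ = O.x * ((d : G) * k * (d : G)⁻¹) := by rw [hd]; group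

theorem k_co_ne {k : G} (hk : k ∈ O.K) (h1 : k ≠ 1) : N.co k ≠ 0 := fun e => by
  rcases (N.co_zero (O.mem_C.1 hk.1).1).1 e with h | h
  exacts [h1 h, (O.K_props hk).2.1 h]

end Ctx.Out

end CfsgLib.U6Large
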