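import Cfsg.Agent.Lib.U6Large.Data

/-! Certificates in the unitary module: words moving vectors, and the elements commuting with the two
involutions. -/

set_option autoImplicit false
set_option maxRecDepth 100000
set_option maxHeartbeats 1000000
set_option linter.style.longLine false

namespace CfsgLib.U6Large

open CfsgLib.SpFourThree CfsgLib.ThreeTrans.UCent
open CfsgLib.ThreeTrans.UCent.W (mk')

/-- Letters of a word are generators. -/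
def okW (l : List ℕ) : Bool := l.all fun j => Nat.ble j 6

theorem okW_lt {l : List ℕ} (h : okW l = true) : ∀ j ∈ l, j < 7 := fun j hj =>
  Nat.lt_succ_of_le (Nat.le_of_ble_eq_true (List.all_eq_true.1 h j hj))

/-- Words taking a singular vector to the base one. -/
def toBase : List (ℕ × List ℕ) := [
  (5, []),
  (6, [1, 3]),
  (7, [0, 1]),
  (9, [1]),
  (10, [0, 0]),
  (11, [0, 2]),
  (13, [2]),
  (14, [2, 6]),
  (15, [0]),
  (17, [4]),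
  (18, [0, 1, 6]),
  (19, [0, 1, 4]),
  (20, [4, 3]),
  (24, [0, 4, 6]),
  (28, [0, 0, 6]),
  (33, [1, 4]),
  (34, [0, 0, 4]),
  (35, [1, 6]),
  (36, [0, 6]),
  (40, [0, 0, 4, 3]),
  (44, [4, 6]),
  (49, [2, 4]),
  (50, [6, 3]),
  (51, [0, 4]),
  (52, [2, 4, 3]),
  (56, [6]),
  (60, [0, 4, 3]),
  (65, [4, 5]),
  (66, [0, 1, 6, 5]),
  (67, [4, 5, 0]),
  (68, [4, 3, 5]),
  (72, [0, 4, 6, 5]),
  (76, [0, 0, 6, 5]),
  (80, [4, 3, 5, 4]),
  (85, [4, 5, 6]),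
  (86, [0, 0, 4, 5, 6, 2]),
  (87, [0, 4, 5, 6, 2, 2]),
  (89, [0, 6, 5, 6, 2]),
  (90, [6, 5, 6, 2, 2]),
  (91, [0, 0, 6, 5, 6]),
  (93, [2, 4, 5, 6, 5, 4]),
  (94, [0, 0, 6, 5, 6, 3]),
  (95, [0, 6, 5, 6, 3, 2]),
  (96, [0, 4, 6, 5, 4]),
  (101, [1, 4, 5, 6, 5]),
  (102, [1, 4, 5, 6, 5, 6]),
  (103, [4, 3, 5, 6, 3]),
  (105, [1, 4, 5, 6, 2, 6]),
  (106, [0, 1, 6, 5, 6]),
  (107, [1, 6, 5, 6, 2]),
  (109, [4, 3, 5, 6]),
  (110, [0, 6, 5, 1, 6, 2]),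
  (111, [2, 4, 5, 6, 5, 0]),
  (112, [0, 0, 6, 5, 4]),
  (117, [2, 4, 5, 6, 5]),
  (118, [0, 4, 6, 5, 6]),
  (119, [4, 6, 5, 6, 2]),
  (121, [4, 5, 6, 1]),
  (122, [4, 6, 5, 6, 3, 2]),
  (123, [6, 5, 1, 6, 5]),
  (125, [1, 4, 5, 6, 2]),
  (126, [6, 5, 4, 6, 5]),
  (127, [4, 5, 0, 6]),
  (129, [1, 4, 5]),
  (130, [0, 0, 4, 5]),
  (131, [1, 6, 5]),
  (132, [0, 6, 5]),
  (136, [0, 6, 5, 1]),
  (140, [4, 6, 5]),
  (144, [0, 6, 5, 4]),
  (149, [1, 4, 5, 6]),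
  (150, [6, 3, 5, 6, 2]),
  (151, [0, 4, 5, 6, 2, 6]),
  (153, [6, 5, 0, 6, 2]),
  (154, [0, 1, 6, 5, 6, 5]),
  (155, [4, 6, 5, 6]),
  (157, [4, 3, 5, 6, 5]),
  (158, [4, 6, 5, 6, 3]),
  (159, [0, 4, 5, 6, 1, 2]),
  (160, [0, 6, 5, 1, 4]),
  (165, [6, 5, 6, 3, 2]),
  (166, [4, 5, 6, 2, 2, 3]),
  (167, [0, 6, 5, 6, 3]),
  (169, [4, 5, 6, 2, 2]),
  (170, [0, 0, 4, 5, 6]),
  (171, [0, 4, 5, 6, 2]),
  (173, [0, 6, 5, 6]),
  (174, [6, 5, 6, 2]),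
  (175, [6, 5, 6, 2, 6]),
  (176, [4, 6, 5, 4]),
  (181, [4, 3, 5, 6, 2, 2]),
  (182, [0, 6, 5, 1, 6]),
  (183, [6, 5, 1, 6, 2]),
  (185, [0, 6, 5, 4, 6]),
  (186, [6, 3, 5, 6, 5]),
  (187, [4, 3, 5, 6, 5, 0]),
  (189, [2, 4, 5, 6, 2]),
  (190, [6, 3, 5, 6, 2, 6]),
  (191, [1, 6, 5, 6]),
  (193, [2, 4, 5]),
  (194, [6, 3, 5]),
  (195, [0, 4, 5]),
  (196, [6, 5, 0]),
  (200, [6, 5]),
  (204, [6, 5, 1]),
  (208, [6, 5, 0, 4]),
  (213, [2, 4, 5, 6]),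
  (214, [0, 1, 6, 5, 6, 2]),
  (215, [1, 6, 5, 6, 2, 2]),
  (217, [4, 3, 5, 6, 2]),
  (218, [1, 6, 5, 6, 5, 0]),
  (219, [6, 5, 1, 6]),
  (221, [1, 4, 5, 6, 2, 5]),
  (222, [6, 5, 4, 6]),
  (223, [4, 5, 0, 6, 5]),
  (224, [6, 5, 4]),
  (229, [4, 5, 6, 1, 2]),
  (230, [0, 6, 5, 1, 6, 5]),
  (231, [0, 4, 5, 6, 1]),
  (233, [4, 5, 6, 2, 6]),
  (234, [6, 3, 5, 6]),
  (235, [4, 5, 0, 6, 2]),
  (237, [6, 5, 0, 6]),
  (238, [0, 4, 6, 5, 6, 2]),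
  (239, [1, 6, 5, 6, 5]),
  (240, [6, 5, 1, 4]),
  (245, [0, 6, 5, 6, 2, 2]),
  (246, [6, 5, 6]),
  (247, [4, 5, 6, 2, 3]),
  (249, [6, 5, 6, 3]),
  (250, [1, 6, 5, 6, 5, 6]),
  (251, [1, 6, 5, 6, 5, 4]),
  (253, [4, 5, 6, 2]),
  (254, [0, 0, 4, 5, 6, 2, 2]),
  (255, [0, 4, 5, 6])]

/-- Words taking the base vector to a flat one. -/
def fromBase : List (ℕ × List ℕ) := [
  (5, []),
  (10, [0]),
  (15, [0, 0]),
  (80, [4, 5, 3, 4]),
  (85, [6, 5, 4]),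
  (90, [2, 3, 6, 5, 6, 0]),
  (95, [2, 2, 6, 5, 6]),
  (160, [4, 1, 5, 6]),
  (165, [2, 2, 6, 5, 6, 0]),
  (170, [6, 5, 4, 0]),
  (175, [6, 5, 6, 5, 6, 1]),
  (240, [4, 1, 5, 6, 0]),
  (245, [2, 3, 6, 5, 6]),
  (250, [6, 2, 6, 5, 6]),
  (255, [6, 5, 4, 0, 0])]

/-- Words flattening the base vector and a singular vector orthogonal to it. -/
def flatten : List (ℕ × List ℕ) := [
  (5, []),
  (10, []),
  (15, []),
  (80, []),
  (85, []),
  (90, []),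
  (95, []),
  (96, [0, 0]),
  (101, [0, 0]),
  (106, [0, 0]),
  (111, [0, 0]),
  (112, [0]),
  (117, [0]),
  (122, [0]),
  (127, [0]),
  (144, [0]),
  (149, [0]),
  (154, [0]),
  (159, [0]),
  (160, []),
  (165, []),
  (170, []),
  (175, []),
  (176, [0, 0]),
  (181, [0, 0]),
  (186, [0, 0]),
  (191, [0, 0]),
  (208, [0, 0]),
  (213, [0, 0]),
  (218, [0, 0]),
  (223, [0, 0]),
  (224, [0]),
  (229, [0]),
  (234, [0]),
  (239, [0]),
  (240, []),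
  (245, []),
  (250, []),
  (255, [])]

/-- Words fixing the base vector, moving a vector to summands of its multiple by `ω`. -/
def spanW : List (ℕ × List (List ℕ)) := [
  (1, [[], [2, 6, 2, 0], [4, 2, 3, 2, 6], [6, 4, 1, 3, 4]]),
  (4, [[], [2, 6, 2, 0], [4, 2, 3, 2, 6], [6, 4, 1, 3, 4]]),
  (10, [[]]),
  (11, [[], [2, 6, 2, 0], [4, 2, 3, 2, 6], [6, 4, 1, 3, 4]]),
  (14, [[], [2, 6, 2, 0], [4, 2, 3, 2, 6], [6, 4, 1, 3, 4]]),
  (15, [[]]),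
  (16, [[], [2, 6, 2, 2, 1, 0]]),
  (17, [[], [5], [2, 1], [2, 2, 6, 4, 5, 6, 2]]),
  (20, [[], [5], [2, 1], [2, 2, 6, 4, 5, 6, 2]]),
  (21, [[], [2, 6, 2, 2, 1, 0]]),
  (26, [[], [2, 6, 2, 2, 1, 0]]),
  (27, [[], [5], [2, 1], [2, 2, 6, 4, 5, 6, 2]]),
  (30, [[], [5], [2, 1], [2, 2, 6, 4, 5, 6, 2]]),
  (31, [[], [2, 6, 2, 2, 1, 0]]),
  (32, [[], [6, 3, 1, 4, 0]]),
  (33, [[], [5], [2, 1], [3, 2, 6, 5, 2, 0]]),
  (36, [[], [5], [2, 1], [3, 2, 6, 5, 2, 0]]),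
  (37, [[], [6, 3, 1, 4, 0]]),
  (42, [[], [6, 3, 1, 4, 0]]),
  (43, [[], [5], [2, 1], [3, 2, 6, 5, 2, 0]]),
  (46, [[], [5], [2, 1], [3, 2, 6, 5, 2, 0]]),
  (47, [[], [6, 3, 1, 4, 0]]),
  (48, [[], [2, 2, 1, 6, 2, 0]]),
  (49, [[], [5], [2, 1], [6, 4, 1, 3, 4, 5]]),
  (52, [[], [5], [2, 1], [6, 4, 1, 3, 4, 5]]),
  (53, [[], [2, 2, 1, 6, 2, 0]]),
  (58, [[], [2, 2, 1, 6, 2, 0]]),
  (59, [[], [5], [2, 1], [6, 4, 1, 3, 4, 5]]),
  (62, [[], [5], [2, 1], [6, 4, 1, 3, 4, 5]]),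
  (63, [[], [2, 2, 1, 6, 2, 0]]),
  (64, [[], [5, 2, 6, 5, 2, 0]]),
  (65, [[], [5], [2, 1], [2, 3, 6, 2, 6, 1]]),
  (68, [[], [5], [2, 1], [2, 3, 6, 2, 6, 1]]),
  (69, [[], [5, 2, 6, 5, 2, 0]]),
  (74, [[], [5, 2, 6, 5, 2, 0]]),
  (75, [[], [5], [2, 1], [2, 3, 6, 2, 6, 1]]),
  (78, [[], [5], [2, 1], [2, 3, 6, 2, 6, 1]]),
  (79, [[], [5, 2, 6, 5, 2, 0]]),
  (80, [[], [2, 6, 5, 2, 0]]),
  (81, [[], [2, 1], [2, 6, 2, 0], [0, 5, 2, 6, 1, 1]]),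
  (84, [[], [2, 1], [2, 6, 2, 0], [0, 5, 2, 6, 1, 1]]),
  (85, [[], [2, 6, 5, 2, 0]]),
  (90, [[], [2, 6, 5, 2, 0]]),
  (91, [[], [2, 1], [2, 6, 2, 0], [0, 5, 2, 6, 1, 1]]),
  (94, [[], [2, 1], [2, 6, 2, 0], [0, 5, 2, 6, 1, 1]]),
  (95, [[], [2, 6, 5, 2, 0]]),
  (96, [[], [6, 3, 1, 4, 0]]),
  (97, [[], [5], [0, 5, 2, 6, 2], [6, 2, 3, 4, 2]]),
  (100, [[], [5], [0, 5, 2, 6, 2], [6, 2, 3, 4, 2]]),
  (101, [[], [6, 3, 1, 4, 0]]),
  (106, [[], [6, 3, 1, 4, 0]]),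
  (107, [[], [5], [0, 5, 2, 6, 2], [6, 2, 3, 4, 2]]),
  (110, [[], [5], [0, 5, 2, 6, 2], [6, 2, 3, 4, 2]]),
  (111, [[], [6, 3, 1, 4, 0]]),
  (112, [[], [5, 2, 6, 2, 0]]),
  (113, [[], [5], [2, 6, 2, 0], [2, 6, 3, 2, 2, 0, 0]]),
  (116, [[], [5], [2, 6, 2, 0], [2, 6, 3, 2, 2, 0, 0]]),
  (117, [[], [5, 2, 6, 2, 0]]),
  (122, [[], [5, 2, 6, 2, 0]]),
  (123, [[], [5], [2, 6, 2, 0], [2, 6, 3, 2, 2, 0, 0]]),
  (126, [[], [5], [2, 6, 2, 0], [2, 6, 3, 2, 2, 0, 0]]),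
  (127, [[], [5, 2, 6, 2, 0]]),
  (128, [[], [5, 6, 3, 1, 4, 0, 5]]),
  (129, [[], [5], [2, 1], [1, 6, 2, 6, 3, 2]]),
  (132, [[], [5], [2, 1], [1, 6, 2, 6, 3, 2]]),
  (133, [[], [5, 6, 3, 1, 4, 0, 5]]),
  (138, [[], [5, 6, 3, 1, 4, 0, 5]]),
  (139, [[], [5], [2, 1], [1, 6, 2, 6, 3, 2]]),
  (142, [[], [5], [2, 1], [1, 6, 2, 6, 3, 2]]),
  (143, [[], [5, 6, 3, 1, 4, 0, 5]]),
  (144, [[], [2, 6, 2, 2, 1, 0]]),
  (145, [[], [5], [0, 5, 2, 6, 2], [0, 5, 2, 6, 1, 1]]),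
  (148, [[], [5], [0, 5, 2, 6, 2], [0, 5, 2, 6, 1, 1]]),
  (149, [[], [2, 6, 2, 2, 1, 0]]),
  (154, [[], [2, 6, 2, 2, 1, 0]]),
  (155, [[], [5], [0, 5, 2, 6, 2], [0, 5, 2, 6, 1, 1]]),
  (158, [[], [5], [0, 5, 2, 6, 2], [0, 5, 2, 6, 1, 1]]),
  (159, [[], [2, 6, 2, 2, 1, 0]]),
  (160, [[], [6, 3, 1, 4, 0]]),
  (161, [[], [2, 1], [0, 5, 2, 6, 2], [1, 6, 2, 6, 3, 2]]),
  (164, [[], [2, 1], [0, 5, 2, 6, 2], [1, 6, 2, 6, 3, 2]]),
  (165, [[], [6, 3, 1, 4, 0]]),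
  (170, [[], [6, 3, 1, 4, 0]]),
  (171, [[], [2, 1], [0, 5, 2, 6, 2], [1, 6, 2, 6, 3, 2]]),
  (174, [[], [2, 1], [0, 5, 2, 6, 2], [1, 6, 2, 6, 3, 2]]),
  (175, [[], [6, 3, 1, 4, 0]]),
  (176, [[], [2, 2, 1, 6, 2, 0]]),
  (177, [[], [5], [2, 6, 2, 0], [0, 5, 3, 2, 6, 5, 2]]),
  (180, [[], [5], [2, 6, 2, 0], [0, 5, 3, 2, 6, 5, 2]]),
  (181, [[], [2, 2, 1, 6, 2, 0]]),
  (186, [[], [2, 2, 1, 6, 2, 0]]),
  (187, [[], [5], [2, 6, 2, 0], [0, 5, 3, 2, 6, 5, 2]]),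
  (190, [[], [5], [2, 6, 2, 0], [0, 5, 3, 2, 6, 5, 2]]),
  (191, [[], [2, 2, 1, 6, 2, 0]]),
  (192, [[], [0, 5, 2, 6, 5, 2]]),
  (193, [[], [5], [2, 1], [3, 2, 6, 2, 0]]),
  (196, [[], [5], [2, 1], [3, 2, 6, 2, 0]]),
  (197, [[], [0, 5, 2, 6, 5, 2]]),
  (202, [[], [0, 5, 2, 6, 5, 2]]),
  (203, [[], [5], [2, 1], [3, 2, 6, 2, 0]]),
  (206, [[], [5], [2, 1], [3, 2, 6, 2, 0]]),
  (207, [[], [0, 5, 2, 6, 5, 2]]),
  (208, [[], [2, 6, 0, 5, 2]]),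
  (209, [[], [5], [2, 6, 2, 0], [5, 6, 3, 1, 4, 0]]),
  (212, [[], [5], [2, 6, 2, 0], [5, 6, 3, 1, 4, 0]]),
  (213, [[], [2, 6, 0, 5, 2]]),
  (218, [[], [2, 6, 0, 5, 2]]),
  (219, [[], [5], [2, 6, 2, 0], [5, 6, 3, 1, 4, 0]]),
  (222, [[], [5], [2, 6, 2, 0], [5, 6, 3, 1, 4, 0]]),
  (223, [[], [2, 6, 0, 5, 2]]),
  (224, [[], [6, 3, 1, 4, 0]]),
  (225, [[], [5], [2, 6, 2, 0], [2, 6, 2, 2, 1, 0]]),
  (228, [[], [5], [2, 6, 2, 0], [2, 6, 2, 2, 1, 0]]),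
  (229, [[], [6, 3, 1, 4, 0]]),
  (234, [[], [6, 3, 1, 4, 0]]),
  (235, [[], [5], [2, 6, 2, 0], [2, 6, 2, 2, 1, 0]]),
  (238, [[], [5], [2, 6, 2, 0], [2, 6, 2, 2, 1, 0]]),
  (239, [[], [6, 3, 1, 4, 0]]),
  (240, [[], [0, 5, 2, 6, 2]]),
  (241, [[], [2, 1], [2, 6, 2, 0], [0, 0, 5, 6, 2, 6, 4]]),
  (244, [[], [2, 1], [2, 6, 2, 0], [0, 0, 5, 6, 2, 6, 4]]),
  (245, [[], [0, 5, 2, 6, 2]]),
  (250, [[], [0, 5, 2, 6, 2]]),
  (251, [[], [2, 1], [2, 6, 2, 0], [0, 0, 5, 6, 2, 6, 4]]),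
  (254, [[], [2, 1], [2, 6, 2, 0], [0, 0, 5, 6, 2, 6, 4]]),
  (255, [[], [0, 5, 2, 6, 2]])]

/-- Commuting with the second involution: a word and a preimage. -/
def bW : List (ℕ × List ℕ × ℕ) := [
  (5, [4, 5, 3, 4], 16),
  (10, [4, 5, 3, 4], 32),
  (15, [4, 5, 3, 4], 48),
  (80, [4, 5, 3, 4], 1),
  (85, [0, 5, 0], 35),
  (90, [0, 5, 0], 33),
  (95, [0, 5, 0], 34),
  (160, [4, 5, 3, 4], 2),
  (165, [0, 5, 0], 51),
  (170, [0, 5, 0], 49),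
  (175, [0, 5, 0], 50),
  (240, [4, 5, 3, 4], 3),
  (245, [0, 5, 0], 19),
  (250, [0, 5, 0], 17),
  (255, [0, 5, 0], 18)]

/-- Commuting with the transvection. -/
def tW : List (ℕ × List ℕ) := [
  (16, [2, 6, 2]),
  (21, [2, 1, 0]),
  (26, [2, 1, 0]),
  (31, [2, 1, 0]),
  (32, [2, 6, 2]),
  (37, [2, 1, 0]),
  (42, [2, 1, 0]),
  (47, [2, 1, 0]),
  (48, [2, 6, 2]),
  (53, [2, 1, 0]),
  (58, [2, 1, 0]),
  (63, [2, 1, 0]),
  (64, [5, 2, 6, 5, 2]),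
  (69, [0]),
  (74, [0]),
  (79, [0]),
  (80, [0, 5, 2, 6, 2]),
  (85, [0, 5, 2, 6, 2]),
  (90, [0, 5, 2, 6, 2]),
  (95, [0, 5, 2, 6, 2]),
  (96, [2, 6, 0, 5, 2]),
  (101, [2, 6, 0, 5, 2]),
  (106, [2, 6, 0, 5, 2]),
  (111, [2, 6, 0, 5, 2]),
  (112, [5, 2, 6, 2, 0]),
  (117, [5, 2, 6, 2, 0]),
  (122, [5, 2, 6, 2, 0]),
  (127, [5, 2, 6, 2, 0]),
  (128, [5, 2, 6, 5, 2]),
  (133, [0]),
  (138, [0]),
  (143, [0]),
  (144, [5, 2, 6, 2, 0]),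
  (149, [5, 2, 6, 2, 0]),
  (154, [5, 2, 6, 2, 0]),
  (159, [5, 2, 6, 2, 0]),
  (160, [0, 5, 2, 6, 2]),
  (165, [0, 5, 2, 6, 2]),
  (170, [0, 5, 2, 6, 2]),
  (175, [0, 5, 2, 6, 2]),
  (176, [2, 6, 0, 5, 2]),
  (181, [2, 6, 0, 5, 2]),
  (186, [2, 6, 0, 5, 2]),
  (191, [2, 6, 0, 5, 2]),
  (192, [5, 2, 6, 5, 2]),
  (197, [0]),
  (202, [0]),
  (207, [0]),
  (208, [2, 6, 0, 5, 2]),
  (213, [2, 6, 0, 5, 2]),
  (218, [2, 6, 0, 5, 2]),
  (223, [2, 6, 0, 5, 2]),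
  (224, [5, 2, 6, 2, 0]),
  (229, [5, 2, 6, 2, 0]),
  (234, [5, 2, 6, 2, 0]),
  (239, [5, 2, 6, 2, 0]),
  (240, [0, 5, 2, 6, 2]),
  (245, [0, 5, 2, 6, 2]),
  (250, [0, 5, 2, 6, 2]),
  (255, [0, 5, 2, 6, 2])]

/-- The base vector. -/
def base : W := mk' 5

theorem toBase_check : allI (fun p => toBase.any fun e => mk' e.1 == p && okW e.2 && wordW e.2 p == base) = true := by
  decide +kernel

theorem to_base {p : W} (hp : iso p = true) : ∃ l, okW l = true ∧ wordW l p = base := by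
  obtain ⟨e, -, he⟩ := List.any_eq_true.1 (of_allI toBase_check hp)
  simp only [Bool.and_eq_true, beq_iff_eq] at he
  exact ⟨e.2, he.1.2, he.2⟩

theorem fromBase_check : (flatList.all fun p => p == 0 || fromBase.any fun e =>
    mk' e.1 == p && okW e.2 && wordW e.2 base == p) = true := by decide +kernel

theorem from_base {p : W} (hp : flat p = true) (h0 : p ≠ 0) : ∃ l, okW l = true ∧ wordW l base = p := by
  have h := List.all_eq_true.1 fromBase_check p (mem_flatList hp)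
  simp only [Bool.or_eq_true, beq_iff_eq, h0, false_or] at h
  obtain ⟨e, -, he⟩ := List.any_eq_true.1 h
  simp only [Bool.and_eq_true, beq_iff_eq] at he
  exact ⟨e.2, he.1.2, he.2⟩

theorem flatten_check : allI (fun r => !(perp r base) || flatten.any fun e =>
    mk' e.1 == r && okW e.2 && flat (wordW e.2 base) && flat (wordW e.2 r)) = true := by decide +kernel

theorem flatten_word {r : W} (hr : iso r = true) (hp : perp r base = true) :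
    ∃ l, okW l = true ∧ flat (wordW l base) = true ∧ flat (wordW l r) = true := by
  have h := of_allI flatten_check hr
  simp only [hp, Bool.not_true, Bool.false_or] at h
  obtain ⟨e, -, he⟩ := List.any_eq_true.1 h
  simp only [Bool.and_eq_true] at he
  exact ⟨e.2, he.1.1.2, he.1.2, he.2⟩

theorem spanW_check : all1 (fun w => bt w base || w == 0 || w == base || spanW.any fun e =>
    mk' e.1 == w && (e.2.all fun l => okW l && wordW l base == base) &&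
    ((e.2.map fun l => wordW l w).sum == om base || (e.2.map fun l => wordW l w).sum == base + om base)) = true := by
  decide +kernel

theorem span_words {w : W} (hw : bt w base = false) (h0 : w ≠ 0) (h1 : w ≠ base) :
    ∃ L : List (List ℕ), (∀ l ∈ L, okW l = true ∧ wordW l base = base) ∧
      ((L.map fun l => wordW l w).sum = om base ∨ (L.map fun l => wordW l w).sum = base + om base) := by
  have h := of_all1 spanW_check w
  simp only [hw, Bool.false_or, Bool.or_eq_true, beq_iff_eq, h0, h1, false_or] at h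
  obtain ⟨e, -, he⟩ := List.any_eq_true.1 h
  simp only [Bool.and_eq_true, Bool.or_eq_true, beq_iff_eq, List.all_eq_true] at he
  exact ⟨e.2, fun l hl => he.1.2 l hl, he.2⟩

theorem bW_check : (flatList.all fun k => k == 0 || bW.any fun e =>
    mk' e.1 == k && okW e.2.1 && eqC (wordC (e.2.1 ++ [3, 5])) (wordC ([3, 5] ++ e.2.1)) &&
    !(wordW e.2.1 k == k) && wordW [3, 5] (mk' e.2.2) + mk' e.2.2 == wordW e.2.1 k && !(bt (mk' e.2.2) k)) = true := by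
  decide +kernel

theorem b_words {k : W} (hk : flat k = true) (h0 : k ≠ 0) :
    ∃ (l : List ℕ) (u : W), okW l = true ∧ ev l * ev [3, 5] = ev [3, 5] * ev l ∧ wordW l k ≠ k ∧
      wordW [3, 5] u + u = wordW l k ∧ bt u k = false := by
  have h := List.all_eq_true.1 bW_check k (mem_flatList hk)
  simp only [Bool.or_eq_true, beq_iff_eq, h0, false_or] at h
  obtain ⟨e, -, he⟩ := List.any_eq_true.1 h
  simp only [Bool.and_eq_true, Bool.not_eq_true', beq_iff_eq, beq_eq_false_iff_ne, ne_eq] at he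
  refine ⟨e.2.1, mk' e.2.2, he.1.1.1.1.2, ?_, he.1.1.2, he.1.2, he.2⟩
  rw [← ev_append, ← ev_append]
  exact ev_eq he.1.1.1.2

theorem tW_check : all1 (fun k => !(wordW [3] k == k) || onLine base k || tW.any fun e =>
    mk' e.1 == k && okW e.2 && eqC (wordC (e.2 ++ [3])) (wordC ([3] ++ e.2)) &&
    onLine base (wordW e.2 k + k) && !(wordW e.2 k == k)) = true := by
  decide +kernel

theorem t_words {k : W} (hk : wordW [3] k = k) (h0 : onLine base k = false) :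
    ∃ l, okW l = true ∧ ev l * ev [3] = ev [3] * ev l ∧ onLine base (wordW l k + k) = true ∧ wordW l k ≠ k := by
  have h := of_all1 tW_check k
  simp only [hk, beq_self_eq_true, Bool.not_true, Bool.false_or, h0] at h
  obtain ⟨e, -, he⟩ := List.any_eq_true.1 h
  simp only [Bool.and_eq_true, Bool.not_eq_true', beq_iff_eq, beq_eq_false_iff_ne, ne_eq] at he
  refine ⟨e.2, he.1.1.1.2, ?_, he.1.2, he.2⟩
  rw [← ev_append, ← ev_append]
  exact ev_eq he.1.1.2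

theorem shape_check : all1 (fun x => wordW [3] x == tv base x && onLine base (wordW [3] x + x) &&
    (wordW [3, 5] x == x) == flat x && flat (wordW [3, 5] x + x) &&
    (!(flat x) || any1 fun y => wordW [3, 5] y + y == x) && (!(onLine base x) || any1 fun y => wordW [3] y + y == x)) = true := by
  decide +kernel

theorem three_eq_tv (x : W) : wordW [3] x = tv base x := by
  have h := of_all1 shape_check x
  simp only [Bool.and_eq_true, beq_iff_eq] at h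
  exact h.1.1.1.1.1

theorem three_line (x : W) : onLine base (wordW [3] x + x) = true := by
  have h := of_all1 shape_check x
  simp only [Bool.and_eq_true, beq_iff_eq] at h
  exact h.1.1.1.1.2

theorem pair_fix (x : W) : wordW [3, 5] x = x ↔ flat x = true := by
  have h := of_all1 shape_check x
  simp only [Bool.and_eq_true, beq_iff_eq] at h
  rw [← h.1.1.1.2, beq_iff_eq]

theorem pair_flat (x : W) : flat (wordW [3, 5] x + x) = true := by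
  have h := of_all1 shape_check x
  simp only [Bool.and_eq_true] at h
  exact h.1.1.2

theorem pair_surj {x : W} (hx : flat x = true) : ∃ y, wordW [3, 5] y + y = x := by
  have h := of_all1 shape_check x
  simp only [Bool.and_eq_true, hx, Bool.not_true, Bool.false_or] at h
  obtain ⟨y, hy⟩ := of_any1 h.1.2
  exact ⟨y, beq_iff_eq.1 hy⟩

theorem three_surj {x : W} (hx : onLine base x = true) : ∃ y, wordW [3] y + y = x := by
  have h := of_all1 shape_check x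
  simp only [Bool.and_eq_true, hx, Bool.not_true, Bool.false_or] at h
  obtain ⟨y, hy⟩ := of_any1 h.2
  exact ⟨y, beq_iff_eq.1 hy⟩

theorem base_iso : iso base = true := by decide +kernel

theorem base_flat : flat base = true := by decide +kernel

theorem base_ne : base ≠ 0 := by decide +kernel

theorem flat_orth_check : all1 (fun x => ([5, 10, 80, 160].any fun n => bt x (mk' n)) || flat x) = true ∧
    ([5, 10, 80, 160].all fun n => flat (mk' n)) = true := by decide +kernel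

theorem flat_of_bt {x : W} (h : ∀ y, flat y = true → bt x y = false) : flat x = true := by
  have k := of_all1 flat_orth_check.1 x
  simp only [Bool.or_eq_true, List.any_eq_true] at k
  rcases k with ⟨n, hn, e⟩ | k
  · rw [h _ (List.all_eq_true.1 flat_orth_check.2 n hn)] at e
    exact Bool.noConfusion e
  · exact k

theorem gen_check : ((List.range 7).all fun j => all1 fun x => (List.range 8).all fun i =>
    mapW (genW.getD j []) (x + mk' (2 ^ i)) == mapW (genW.getD j []) x + mapW (genW.getD j []) (mk' (2 ^ i))) = true ∧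
    ((List.range 7).all fun j => all1 fun x => mapW (genW.getD j []) (om x) == om (mapW (genW.getD j []) x)) = true := by
  decide +kernel

theorem gen_add {j : ℕ} (hj : j < 7) (x y : W) :
    mapW (genW.getD j []) (x + y) = mapW (genW.getD j []) x + mapW (genW.getD j []) y := by
  have h := List.all_eq_true.1 gen_check.1 j (List.mem_range.2 hj)
  refine bits_induction (P := fun y => ∀ x, mapW (genW.getD j []) (x + y) =
    mapW (genW.getD j []) x + mapW (genW.getD j []) y) (fun x => ?_) (fun a b ha hb x => ?_) (fun i hi x => ?_) y x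
  · have z : mapW (genW.getD j []) 0 = 0 := by
      have h0 : ∀ j < 7, mapW (genW.getD j []) 0 = 0 := by decide +kernel
      exact h0 j hj
    rw [add_zero, z, add_zero]
  · rw [← add_assoc, hb, ha, hb a, add_assoc]
  · exact beq_iff_eq.1 (List.all_eq_true.1 (of_all1 h x) i (List.mem_range.2 hi))

theorem gen_om {j : ℕ} (hj : j < 7) (x : W) : mapW (genW.getD j []) (om x) = om (mapW (genW.getD j []) x) :=
  beq_iff_eq.1 (of_all1 (List.all_eq_true.1 gen_check.2 j (List.mem_range.2 hj)) x)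

theorem word_om {l : List ℕ} (h : okW l = true) (x : W) : wordW l (om x) = om (wordW l x) := by
  induction l with
  | nil => rfl
  | cons j l ih =>
    simp only [okW, List.all_cons, Bool.and_eq_true] at h
    show mapW _ (wordW l (om x)) = om (mapW _ (wordW l x))
    rw [ih h.2, gen_om (Nat.lt_succ_of_le (Nat.le_of_ble_eq_true h.1))]

theorem word_add {l : List ℕ} (h : okW l = true) (x y : W) : wordW l (x + y) = wordW l x + wordW l y := by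
  induction l with
  | nil => rfl
  | cons j l ih =>
    simp only [okW, List.all_cons, Bool.and_eq_true] at h
    show mapW _ (wordW l (x + y)) = mapW _ (wordW l x) + mapW _ (wordW l y)
    rw [ih h.2, gen_add (Nat.lt_succ_of_le (Nat.le_of_ble_eq_true h.1))]

end CfsgLib.U6Large
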