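import Cfsg.Agent.Lib.U6Large.Classes

/-! The fused involutions as unitary transvections. -/

set_option autoImplicit false
set_option linter.unusedSectionVars false
set_option linter.style.longLine false

namespace CfsgLib.U6Large

open Subgroup CfsgLib.SpFourThree CfsgLib.ThreeTrans.UCent
open CfsgLib.ThreeTrans.UCent.W (mk')

universe u

variable {G : Type u} [Group G] [Finite G] {z : G} {Q : Subgroup G} {S : Ctx z Q}

namespace Ctx.Natural

/-- A fused involution of the centraliser acting as the transvection at `p`. -/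
structure IsTv (N : S.Natural) (x : G) (p : W) : Prop where
  mem : x * z = z * x
  conj : IsConj z x
  ne : x ≠ z
  iso : iso p = true
  act : ∀ u, N.gW (S.π ⟨x, S.mem_H.2 mem⟩) u = tv p u
  good : ∀ q ∈ Q, perp (N.co q) p = true → q * x = x * q
  xz_not : ¬ IsConj z (x * z)

variable (N : S.Natural)
include N

theorem exists_tv {x : G} (hm : x * z = z * x) (hc : IsConj z x) (hne : x ≠ z) : ∃ p, N.IsTv x p := by
  obtain ⟨g, rfl⟩ := isConj_iff.1 hc
  have hQ : g * z * g⁻¹ ∉ Q := fun h => hne (N.noFusion g h)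
  let X : centralizer ({z} : Set G) := ⟨g * z * g⁻¹, S.mem_H.2 hm⟩
  have hinv : S.π X * S.π X = 1 := by
    rw [← map_mul, show X * X = 1 from Subtype.ext ((S.conj g).zz), map_one]
  have h1 : S.π X ≠ 1 := fun e => hQ ((S.π_ker X).1 e)
  have hcase : ∀ (l : List ℕ), IsConj (S.π X) (ev l) →
      ∃ c : centralizer ({z} : Set G), ∃ O : S.Out, O.g = (c : G) * g ∧ S.π O.X = ev l ∧
        O.x = (c : G) * (g * z * g⁻¹) * (c : G)⁻¹ ∧ S.π c * S.π X * (S.π c)⁻¹ = ev l := by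
    intro l hl
    obtain ⟨a, ha⟩ := isConj_iff.1 hl
    obtain ⟨c, rfl⟩ := S.π_surj a
    have e : (c : G) * g * z * ((c : G) * g)⁻¹ = ((c * X * c⁻¹ : centralizer ({z} : Set G)) : G) := by
      simp only [X, Subgroup.coe_mul, InvMemClass.coe_inv]; group
    have hm' : (c : G) * g * z * ((c : G) * g)⁻¹ * z = z * ((c : G) * g * z * ((c : G) * g)⁻¹) := by
      rw [e]; exact S.mem_H.1 (c * X * c⁻¹).2
    have hQ' : (c : G) * g * z * ((c : G) * g)⁻¹ ∉ Q := by
      intro h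
      rw [e] at h
      have h' := (S.π_ker _).2 h
      rw [map_mul, map_mul, map_inv, conj_eq_one_iff] at h'
      exact h1 h'
    refine ⟨c, ⟨(c : G) * g, hm', hQ'⟩, rfl, ?_, ?_, ha⟩
    · rw [← ha, ← map_inv, ← map_mul, ← map_mul]
      exact congrArg S.π (Subtype.ext e)
    · show (c : G) * g * z * ((c : G) * g)⁻¹ = _
      group
  rcases involution_cases hinv h1 with hl | hl
  swap
  · obtain ⟨c, O, -, hτ, -, -⟩ := hcase _ hl
    exact absurd hτ fun h => O.pair_false N h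
  obtain ⟨c, O, hg, hτ, hx, ha⟩ := hcase _ hl
  obtain ⟨hgood, hxz⟩ := O.three_props N hτ
  refine ⟨N.gW (S.π c)⁻¹ base, hm, hc, hne, N.gW_iso _ base_iso, fun u => ?_, fun q hq hp => ?_, fun h => hxz ?_⟩
  · refine N.gW_inj (S.π c) ?_
    rw [N.gW_tv, ← N.gW_mul (S.π c) (S.π c)⁻¹, mul_inv_cancel, N.gW_one, ← N.gW_three, ← N.gW_mul, ← N.gW_mul, ← ha,
      inv_mul_cancel_right]
  · have hq' := hgood _ (S.conj_mem c hq) (by
      rw [N.co_conj c hq, ← N.gW_one base, ← mul_inv_cancel (S.π c), N.gW_mul, N.gW_perp]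
      exact hp)
    rw [hx] at hq'
    calc q * (g * z * g⁻¹) = (c : G)⁻¹ * (((c : G) * q * (c : G)⁻¹) * ((c : G) * (g * z * g⁻¹) * (c : G)⁻¹)) * (c : G) := by
          group
      _ = (c : G)⁻¹ * (((c : G) * (g * z * g⁻¹) * (c : G)⁻¹) * ((c : G) * q * (c : G)⁻¹)) * (c : G) := by rw [hq']
      _ = g * z * g⁻¹ * q := by group
  · refine h.trans (isConj_iff.2 ⟨c, ?_⟩)
    rw [hx]
    calc (c : G) * (g * z * g⁻¹ * z) * (c : G)⁻¹ = (c : G) * (g * z * g⁻¹) * (z * (c : G)⁻¹) := by group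
      _ = (c : G) * (g * z * g⁻¹) * ((c : G)⁻¹ * z) := by rw [show z * (c : G)⁻¹ = (c : G)⁻¹ * z by simpa using (S.mem_H.1 (c⁻¹).2).symm]
      _ = _ := by group

namespace IsTv

variable {N} {x y : G} {p r : W}

theorem xx (h : N.IsTv x p) : x * x = 1 := by
  obtain ⟨g, rfl⟩ := isConj_iff.1 h.conj
  exact (S.conj g).zz

theorem map (h : N.IsTv x p) (c : centralizer ({z} : Set G)) :
    N.IsTv ((c : G) * x * (c : G)⁻¹) (N.gW (S.π c) p) := by
  have hcz := S.mem_H.1 c.2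
  let X : centralizer ({z} : Set G) := ⟨x, S.mem_H.2 h.mem⟩
  have hmem : (c : G) * x * (c : G)⁻¹ * z = z * ((c : G) * x * (c : G)⁻¹) := S.mem_H.1 (c * X * c⁻¹).2
  refine ⟨hmem, h.conj.trans (isConj_iff.2 ⟨c, rfl⟩), fun e => h.ne ?_, N.gW_iso _ h.iso, fun u => ?_,
    fun q hq hp => ?_, fun k => h.xz_not ?_⟩
  · calc x = (c : G)⁻¹ * ((c : G) * x * (c : G)⁻¹) * (c : G) := by group
      _ = (c : G)⁻¹ * (z * (c : G)) := by rw [e, mul_assoc]
      _ = z := by rw [← hcz, inv_mul_cancel_left]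
  · have e : (⟨(c : G) * x * (c : G)⁻¹, S.mem_H.2 hmem⟩ : centralizer ({z} : Set G)) = c * X * c⁻¹ :=
      Subtype.ext rfl
    rw [e, map_mul, map_mul, map_inv, N.gW_mul, N.gW_mul, h.act, N.gW_tv, ← N.gW_mul, mul_inv_cancel, N.gW_one]
  · have hq' : (c : G)⁻¹ * q * (c : G) ∈ Q := by simpa using S.conj_mem c⁻¹ hq
    have hco : N.co ((c : G)⁻¹ * q * (c : G)) = N.gW (S.π c)⁻¹ (N.co q) := by
      rw [← map_inv, ← N.co_conj c⁻¹ hq]; simp
    have := h.good _ hq' (by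
      rw [hco, ← N.gW_perp (S.π c), ← N.gW_mul, mul_inv_cancel, N.gW_one]
      exact hp)
    calc q * ((c : G) * x * (c : G)⁻¹) = (c : G) * (((c : G)⁻¹ * q * (c : G)) * x) * (c : G)⁻¹ := by group
      _ = (c : G) * (x * ((c : G)⁻¹ * q * (c : G))) * (c : G)⁻¹ := by rw [this]
      _ = (c : G) * x * (c : G)⁻¹ * q := by group
  · refine k.trans (isConj_iff.2 ⟨(c : G)⁻¹, ?_⟩)
    calc (c : G)⁻¹ * ((c : G) * x * (c : G)⁻¹ * z) * (c : G)⁻¹⁻¹ = x * ((c : G)⁻¹ * (z * (c : G))) := by group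
      _ = x * z := by rw [← hcz, inv_mul_cancel_left]

/-- Equal transvections commute. -/
theorem comm_same (h : N.IsTv x p) (k : N.IsTv y r) (e : ∀ u, tv p u = tv r u) : x * y = y * x := by
  have hq : x⁻¹ * y ∈ Q := by
    have := N.gW_faithful (a := S.π ⟨x, S.mem_H.2 h.mem⟩) (b := S.π ⟨y, S.mem_H.2 k.mem⟩) fun u => by
      rw [h.act, k.act, e]
    exact (S.π_ker ((⟨x, S.mem_H.2 h.mem⟩ : centralizer ({z} : Set G))⁻¹ * ⟨y, S.mem_H.2 k.mem⟩)).1
      (by rw [map_mul, map_inv, this, inv_mul_cancel])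
  have hxi : x⁻¹ = x := inv_eq_of_mul_eq_one_right h.xx
  have hco : perp (N.co (x⁻¹ * y)) p = true := by
    refine (tv_fix (iso_iff.1 h.iso).2).1 ?_
    rw [← h.act, ← N.co_conj _ hq, ← N.co_inv hq]
    refine congrArg _ ?_
    show x * (x⁻¹ * y) * x⁻¹ = (x⁻¹ * y)⁻¹
    rw [mul_inv_rev, inv_inv, inv_eq_of_mul_eq_one_right k.xx, mul_inv_cancel_left, hxi]
  have := h.good _ hq hco
  calc x * y = x⁻¹ * y := by rw [hxi]
    _ = x⁻¹ * (x⁻¹ * y * x) := by rw [this]; group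
    _ = (x * x) * y * x := by rw [hxi]; group
    _ = y * x := by rw [h.xx, one_mul]

theorem prod_line (h : N.IsTv x p) (k : N.IsTv y r) (hpr : perp p r = true) :
    x * (y * x * y) ∈ Q ∧ onLine p (N.co (x * (y * x * y))) = true := by
  let X : centralizer ({z} : Set G) := ⟨x, S.mem_H.2 h.mem⟩
  let Y : centralizer ({z} : Set G) := ⟨y, S.mem_H.2 k.mem⟩
  have hXX : X * X = 1 := Subtype.ext h.xx
  have hYY : Y * Y = 1 := Subtype.ext k.xx
  have hq : x * (y * x * y) ∈ Q := by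
    refine (S.π_ker (X * (Y * X * Y))).1 (N.gW_faithful fun u => ?_)
    rw [N.gW_one, map_mul, map_mul, map_mul, N.gW_mul, N.gW_mul, N.gW_mul, h.act, k.act, h.act, k.act,
      ← tv_comm h.iso k.iso hpr, tv_invol h.iso, tv_invol k.iso]
  refine ⟨hq, mem_line_of_bt h.iso fun u hu => ?_⟩
  obtain ⟨q, hq', rfl⟩ := N.co_surj u
  have h' := k.good
  have hx' := h.map Y
  rw [show N.gW (S.π Y) p = p by rw [k.act, (tv_fix (iso_iff.1 k.iso).2).2 hpr]] at hx'
  have e1 := h.good q hq' hu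
  have e2 := hx'.good q hq' hu
  rw [show ((Y : centralizer ({z} : Set G)) : G) = y from rfl, inv_eq_of_mul_eq_one_right k.xx] at e2
  refine (N.comm_iff hq' hq).1 ?_
  rw [← mul_assoc q x, e1, mul_assoc x q, e2, mul_assoc x (y * x * y)]

theorem comm_perp (h : N.IsTv x p) (k : N.IsTv y r) (hpr : perp p r = true) : x * y = y * x := by
  obtain ⟨hq, hp⟩ := h.prod_line k hpr
  obtain ⟨hq', hr⟩ := k.prod_line h (perp_symm hpr)
  set q := x * (y * x * y) with hqd
  have hxi : x⁻¹ = x := inv_eq_of_mul_eq_one_right h.xx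
  have hyi : y⁻¹ = y := inv_eq_of_mul_eq_one_right k.xx
  have hinv : y * (x * y * x) = q⁻¹ := by
    rw [hqd, mul_inv_rev, mul_inv_rev, mul_inv_rev, hxi, hyi]; group
  rw [hinv, N.co_inv hq] at hr
  by_cases h0 : N.co q = 0
  · rcases (N.co_zero hq).1 h0 with e | e
    · calc x * y = x * y * (q⁻¹) := by rw [e, inv_one, mul_one]
        _ = x * y * (y * (x * y * x)) := by rw [hinv]
        _ = x * (y * y) * (x * y * x) := by group
        _ = y * x := by rw [k.xx, mul_one, ← mul_assoc, ← mul_assoc, h.xx, one_mul]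
    · refine absurd ?_ h.xz_not
      have e2 : y * x * y = x * z := by rw [← e, hqd, ← mul_assoc x x, h.xx, one_mul]
      rw [← e2]
      exact h.conj.trans (isConj_iff.2 ⟨y, by rw [hyi]⟩)
  · refine h.comm_same k (tv_same h.iso (iso_iff.1 k.iso).2 ?_)
    exact onLine_meet hp hr h0 (iso_iff.1 h.iso).2

end IsTv

end Ctx.Natural

end CfsgLib.U6Large
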